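import Cfsg.Agent.Lib.CosetEnum.Groups.He
import Cfsg.Agent.Lib.CosetEnum.Suborbits
import Cfsg.Agent.Lib.CosetEnum.HeS44.Valid
import Cfsg.Agent.Lib.CosetEnum.HeK.Valid
import Cfsg.Agent.Lib.CosetEnum.HeLoop.Valid
import Cfsg.Agent.Lib.CosetEnum.HeKill.Valid
import Cfsg.Agent.Lib.CosetEnum.HeBase.Valid
import Cfsg.Agent.Lib.CosetEnum.HeSub_acdefg.Valid
import Cfsg.Agent.Lib.CosetEnum.HeSub_adefg.Valid
import Cfsg.Agent.Lib.CosetEnum.HeSub_defg.Valid
import Cfsg.Agent.Lib.CosetEnum.HeSub_efg.Valid
import Cfsg.Agent.Lib.CosetEnum.HeSub_ef.Valid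
import Cfsg.Agent.Lib.CosetEnum.HeSub_e.Valid
import Cfsg.Prelude.Def_Sporadic

/-!
# The presented Held group is simple of order 4030387200
-/

set_option autoImplicit false

namespace Cfsg.Lib.CosetEnum.HePres

open Cfsg.Spor

/-- The relator words and the derived one. -/
def words : List (List ℕ) := HeS44.cert.R0 ++ [HeLoop.cert.word]

theorem valid_K : HeK.step.Valid words :=
  HeK.step_valid (by decide +kernel)

theorem valid_Sub_acdefg : HeSub_acdefg.step.Valid words :=
  HeSub_acdefg.step_valid (by decide +kernel)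

theorem valid_Sub_adefg : HeSub_adefg.step.Valid words :=
  HeSub_adefg.step_valid (by decide +kernel)

theorem valid_Sub_defg : HeSub_defg.step.Valid words :=
  HeSub_defg.step_valid (by decide +kernel)

theorem valid_Sub_efg : HeSub_efg.step.Valid words :=
  HeSub_efg.step_valid (by decide +kernel)

theorem valid_Sub_ef : HeSub_ef.step.Valid words :=
  HeSub_ef.step_valid (by decide +kernel)

theorem valid_Sub_e : HeSub_e.step.Valid words :=
  HeSub_e.step_valid (by decide +kernel)

theorem kill : HeKill.step.Valid (words ++ [HeBase.killWord]) :=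
  HeKill.step_valid (by decide +kernel)

/-- The base used for the lower bound. -/
def levels : List BaseLevel :=
  [HeBase.level0, HeBase.level1, HeBase.level2, HeBase.level3]

theorem base_ok : BaseOK HeS44.tabP 7 2058 levels :=
  ⟨HeBase.nest0_ok, HeBase.orbit0_ok, HeBase.nest1_ok, HeBase.orbit1_ok, HeBase.nest2_ok,
    HeBase.orbit2_ok, HeBase.nest3_ok, HeBase.orbit3_ok, trivial⟩

theorem baseSize_levels : baseSize levels = 4030387200 := by decide +kernel

theorem isHe : Cfsg.IsHe Cfsg.Spor.He := by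
  let N := numbering
  let x : ℕ → Cfsg.Spor.He := N.gens He.extra
  have hx : ∀ g, x g * x g = 1 := N.gens_mul_self He.extra
  have hk : N.k ≤ eps := by decide
  have hR : HeS44.cert.R0 = N.pairs ++ extra := by decide +kernel
  have hrel0 : ∀ r ∈ HeS44.cert.R0, wordVal x r = 1 := fun r hr =>
    N.wordVal_gens hk (map_extra x hx) r (hR ▸ hr)
  have hrel : ∀ r ∈ words, wordVal x r = 1 := by
    intro r hr
    rcases List.mem_append.1 hr with hr | hr
    · exact hrel0 r hr
    · rw [List.mem_singleton] at hr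
      subst hr
      exact LoopCert.eq_one (R0 := HeS44.cert.R0) (by decide +kernel) HeLoop.loop_ok hx hrel0
  obtain ⟨f, hf⟩ := N.exists_hom hk He.extra HeS44.cert_valid hR rfl
    (map_extra _ fun g => tperm_mul_self _ _ _ g)
  have hgen := N.closure_gens He.extra
  have c6 := valid_Sub_e.card_le hx hrel (K := ⊥) (by simp [HeSub_e.step, HeSub_e.subWords])
    inferInstance (m := 1) (by rw [Subgroup.card_bot])
  have c5 := valid_Sub_ef.card_le hx hrel
    (inLetters_mem x (S := HeSub_e.step.S) (by decide +kernel)) c6.1 c6.2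
  have c4 := valid_Sub_efg.card_le hx hrel
    (inLetters_mem x (S := HeSub_ef.step.S) (by decide +kernel)) c5.1 c5.2
  have c3 := valid_Sub_defg.card_le hx hrel
    (inLetters_mem x (S := HeSub_efg.step.S) (by decide +kernel)) c4.1 c4.2
  have c2 := valid_Sub_adefg.card_le hx hrel
    (inLetters_mem x (S := HeSub_defg.step.S) (by decide +kernel)) c3.1 c3.2
  have c1 := valid_Sub_acdefg.card_le hx hrel
    (inLetters_mem x (S := HeSub_adefg.step.S) (by decide +kernel)) c2.1 c2.2
  obtain ⟨hfinG, hleG⟩ := valid_K.card_le hx hrel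
    (inLetters_mem x (S := HeSub_acdefg.step.S) (by decide +kernel)) c1.1 c1.2
  have hall : Subgroup.closure (x '' {g | g ∈ HeK.step.S}) = ⊤ := by
    rw [← hgen]
    congr 1
    ext z
    constructor
    · rintro ⟨g, hg, rfl⟩
      exact ⟨g, (show ∀ g ∈ HeK.step.S, g < 7 by decide +kernel) g hg, rfl⟩
    · rintro ⟨g, hg, rfl⟩
      exact ⟨g, (show ∀ g < 7, g ∈ HeK.step.S by decide +kernel) g hg, rfl⟩
  rw [hall] at hfinG hleG
  have : Finite Cfsg.Spor.He := Finite.of_equiv _ Subgroup.topEquiv.toEquiv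
  have hle : Nat.card Cfsg.Spor.He ≤ baseSize levels := by
    rw [← Nat.card_congr (Subgroup.topEquiv (G := Cfsg.Spor.He)).toEquiv, baseSize_levels]
    exact hleG.trans (by decide +kernel)
  obtain ⟨hcard, hinj⟩ := card_eq_of_base x f HeS44.cert_valid.perm (by decide) hf base_ok hle
  rw [baseSize_levels] at hcard
  refine ⟨?_, hcard⟩
  have : Nontrivial Cfsg.Spor.He := Finite.one_lt_card_iff_nontrivial.1 (by omega)
  set K := Subgroup.closure (wordVal x '' {u | u ∈ HeS44.subWords}) with hK
  obtain ⟨hidx, Φ, hΦ, heq, h0⟩ := HeS44.cert_valid.index_eq hx hgen hrel0 f hf hK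
  replace hidx : K.index = 2058 := hidx
  have : FaithfulSMul Cfsg.Spor.He (Cfsg.Spor.He ⧸ K) := ⟨fun {a b} h => hinj (by
    ext i
    obtain ⟨q, rfl⟩ := hΦ.2 i
    rw [← heq, ← heq, h q])⟩
  obtain ⟨q0, h0', p0, m0⟩ := exists_orbit_ncard HeS44.cert_valid.perm (by decide)
    HeS44.orb0_ok (by decide) f hf hK hΦ heq
  obtain ⟨q1, h1, p1, m1⟩ := exists_orbit_ncard HeS44.cert_valid.perm (by decide)
    HeS44.orb1_ok (by decide) f hf hK hΦ heq
  obtain ⟨q2, h2, p2, m2⟩ := exists_orbit_ncard HeS44.cert_valid.perm (by decide)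
    HeS44.orb2_ok (by decide) f hf hK hΦ heq
  obtain ⟨q3, h3, p3, m3⟩ := exists_orbit_ncard HeS44.cert_valid.perm (by decide)
    HeS44.orb3_ok (by decide) f hf hK hΦ heq
  have hout : ∀ (c : ℕ) (Pos : Tab) (q z : Cfsg.Spor.He ⧸ K),
      (∀ q' ∈ MulAction.orbit K q, Pos.getP (Φ q').1 < c) → ∀ j : ℕ, (Φ z).1 = j →
      Nat.blt (Pos.getP j) c = false → z ∉ MulAction.orbit K q := by
    intro c Pos q z hm j hj hblt hmem
    have := hm _ hmem
    rw [hj, ← Nat.blt_eq] at this
    simp [hblt] at this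
  have hpow : f (wordVal x HeBase.killWord ^ 7) = 1 := by
    have hr : (List.replicate 7 HeBase.killWord).flatten ∈
        [(List.replicate 7 HeBase.killWord).flatten] := List.mem_singleton_self _
    have h := wordVal_tperm_eq_one (n := 2058) HeBase.killWord_pow (by decide) hr
    have hv : ∀ m : ℕ, wordVal x (List.replicate m HeBase.killWord).flatten =
        wordVal x HeBase.killWord ^ m := by
      intro m
      induction m with
      | zero => rfl
      | succ m ih =>
        rw [List.replicate_succ, List.flatten_cons, wordVal_append, ih, pow_succ]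
    rw [← hv, map_wordVal_tperm x f (Z := HeS44.tabP) (k := 7) (by decide) hf (by decide +kernel)]
    exact h
  refine isSimple_of_suborbits K (reps := [q0, q1, q2, q3]) (sizes := [136, 136, 425, 1360])
    (by simp [h0', h1, h2, h3]) ?_ ?_ (by rw [hidx]; decide) (by rw [hidx]; decide +kernel)
    (p := 7) (e := 3) (by decide) (by rw [hidx]; decide) (by rw [hcard]; decide)
    (hinj (hpow.trans (map_one f).symm)) ?_
  · intro r hr
    simp only [List.mem_cons, List.not_mem_nil, or_false] at hr
    rcases hr with e | e | e | e <;> rw [e]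
    · exact hout _ _ q0 _ m0 0 h0 (by decide +kernel)
    · exact hout _ _ q1 _ m1 0 h0 (by decide +kernel)
    · exact hout _ _ q2 _ m2 0 h0 (by decide +kernel)
    · exact hout _ _ q3 _ m3 0 h0 (by decide +kernel)
  · simp only [List.pairwise_cons, List.mem_cons, List.not_mem_nil, or_false, forall_eq_or_imp,
      forall_eq, List.Pairwise.nil, and_true, IsEmpty.forall_iff, implies_true]
    refine ⟨⟨?_, ?_, ?_⟩, ⟨?_, ?_⟩, ?_⟩
    · exact hout _ _ q0 _ m0 _ p1 (by decide +kernel)
    · exact hout _ _ q0 _ m0 _ p2 (by decide +kernel)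
    · exact hout _ _ q0 _ m0 _ p3 (by decide +kernel)
    · exact hout _ _ q1 _ m1 _ p2 (by decide +kernel)
    · exact hout _ _ q1 _ m1 _ p3 (by decide +kernel)
    · exact hout _ _ q2 _ m2 _ p3 (by decide +kernel)
  · intro M hM hw
    refine eq_top_of_collapse (N := M) kill rfl rfl hx hrel ?_ hw
    rw [← hgen]
    congr 1
    ext z
    constructor
    · rintro ⟨g, hg, rfl⟩
      exact ⟨g, (show ∀ g ∈ HeKill.step.S, g < 7 by decide +kernel) g hg, rfl⟩
    · rintro ⟨g, hg, rfl⟩
      exact ⟨g, (show ∀ g < 7, g ∈ HeKill.step.S by decide +kernel) g hg, rfl⟩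

end Cfsg.Lib.CosetEnum.HePres
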