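import Cfsg.Agent.Lib.CosetEnum.Groups.Fi22
import Cfsg.Agent.Lib.CosetEnum.Simple
import Cfsg.Agent.Lib.CosetEnum.Fi22O73.Valid
import Cfsg.Agent.Lib.CosetEnum.Fi22O73Orb.Valid
import Cfsg.Agent.Lib.CosetEnum.Fi22Kill.Valid
import Cfsg.Agent.Lib.CosetEnum.Fi22Base.Valid
import Cfsg.Agent.Lib.CosetEnum.Fi22Base.Pow
import Cfsg.Agent.Lib.CosetEnum.Fi22Sub_bcdefghi.Valid
import Cfsg.Agent.Lib.CosetEnum.Fi22Sub_bcdefgh.Valid
import Cfsg.Agent.Lib.CosetEnum.Fi22Sub_bcdefg.Valid
import Cfsg.Agent.Lib.CosetEnum.Fi22Sub_bcdef.Valid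
import Cfsg.Agent.Lib.CosetEnum.Fi22Sub_bcde.Valid
import Cfsg.Agent.Lib.CosetEnum.Fi22Sub_bcd.Valid
import Cfsg.Agent.Lib.CosetEnum.Fi22Sub_bc.Valid
import Cfsg.Agent.Lib.CosetEnum.Fi22Sub_b.Valid
import Cfsg.Prelude.Def_Sporadic

/-!
# The presented Fischer group Fi22 is simple of order 64561751654400
-/

set_option autoImplicit false

namespace Cfsg.Lib.CosetEnum.Fi22Pres

open Cfsg.Spor

/-- The base used for the lower bound. -/
def levels : List BaseLevel :=
  [Fi22Base.level0, Fi22Base.level1, Fi22Base.level2, Fi22Base.level3, Fi22Base.level4]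

theorem sub_bcdefghi : Fi22Sub_bcdefghi.step.Valid Fi22O73.cert.R0 :=
  Fi22Sub_bcdefghi.step_valid (by decide +kernel)

theorem sub_bcdefgh : Fi22Sub_bcdefgh.step.Valid Fi22O73.cert.R0 :=
  Fi22Sub_bcdefgh.step_valid (by decide +kernel)

theorem sub_bcdefg : Fi22Sub_bcdefg.step.Valid Fi22O73.cert.R0 :=
  Fi22Sub_bcdefg.step_valid (by decide +kernel)

theorem sub_bcdef : Fi22Sub_bcdef.step.Valid Fi22O73.cert.R0 :=
  Fi22Sub_bcdef.step_valid (by decide +kernel)

theorem sub_bcde : Fi22Sub_bcde.step.Valid Fi22O73.cert.R0 :=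
  Fi22Sub_bcde.step_valid (by decide +kernel)

theorem sub_bcd : Fi22Sub_bcd.step.Valid Fi22O73.cert.R0 :=
  Fi22Sub_bcd.step_valid (by decide +kernel)

theorem sub_bc : Fi22Sub_bc.step.Valid Fi22O73.cert.R0 :=
  Fi22Sub_bc.step_valid (by decide +kernel)

theorem sub_b : Fi22Sub_b.step.Valid Fi22O73.cert.R0 :=
  Fi22Sub_b.step_valid (by decide +kernel)

theorem kill : Fi22Kill.step.Valid (Fi22O73.cert.R0 ++ [Fi22Base.killWord]) :=
  Fi22Kill.step_valid (by decide +kernel)

theorem base_ok : BaseOK Fi22O73.tabP 9 14080 levels :=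
  ⟨Fi22Base.nest0_ok, Fi22Base.orbit0_ok, Fi22Base.nest1_ok, Fi22Base.orbit1_ok, Fi22Base.nest2_ok,
    Fi22Base.orbit2_ok, Fi22Base.nest3_ok, Fi22Base.orbit3_ok, Fi22Base.nest4_ok, Fi22Base.orbit4_ok, trivial⟩

theorem baseSize_levels : baseSize levels = 64561751654400 := by decide +kernel

theorem isFi22 : Cfsg.IsFi22 Cfsg.Spor.Fi22 := by
  let N := numbering
  let x : ℕ → Cfsg.Spor.Fi22 := N.gens Fi22.extra
  have hx : ∀ g, x g * x g = 1 := N.gens_mul_self Fi22.extra
  have hk : N.k ≤ eps := by decide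
  have hR : Fi22O73.cert.R0 = N.pairs ++ extra := by decide +kernel
  have hrel : ∀ r ∈ Fi22O73.cert.R0, wordVal x r = 1 := fun r hr =>
    N.wordVal_gens hk (map_extra x hx) r (hR ▸ hr)
  obtain ⟨f, hf⟩ := N.exists_hom hk Fi22.extra Fi22O73.cert_valid hR rfl
    (map_extra _ fun g => tperm_mul_self _ _ _ g)
  have hgen := N.closure_gens Fi22.extra
  -- the orders of the subgroups
  have c9 := sub_b.card_le hx hrel (K := ⊥) (by simp [Fi22Sub_b.step, Fi22Sub_b.subWords])
    inferInstance (m := 1) (by rw [Subgroup.card_bot])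
  have c8 := sub_bc.card_le hx hrel
    (inLetters_mem x (S := Fi22Sub_b.step.S) (by decide +kernel)) c9.1 c9.2
  have c7 := sub_bcd.card_le hx hrel
    (inLetters_mem x (S := Fi22Sub_bc.step.S) (by decide +kernel)) c8.1 c8.2
  have c6 := sub_bcde.card_le hx hrel
    (inLetters_mem x (S := Fi22Sub_bcd.step.S) (by decide +kernel)) c7.1 c7.2
  have c5 := sub_bcdef.card_le hx hrel
    (inLetters_mem x (S := Fi22Sub_bcde.step.S) (by decide +kernel)) c6.1 c6.2
  have c4 := sub_bcdefg.card_le hx hrel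
    (inLetters_mem x (S := Fi22Sub_bcdef.step.S) (by decide +kernel)) c5.1 c5.2
  have c3 := sub_bcdefgh.card_le hx hrel
    (inLetters_mem x (S := Fi22Sub_bcdefg.step.S) (by decide +kernel)) c4.1 c4.2
  have c2 := sub_bcdefghi.card_le hx hrel
    (inLetters_mem x (S := Fi22Sub_bcdefgh.step.S) (by decide +kernel)) c3.1 c3.2
  obtain ⟨hfin2, hle2⟩ := c2
  set K := Subgroup.closure (x '' {g | g ∈ Fi22Sub_bcdefghi.step.S}) with hKdef
  have hall : ∀ g ∈ Fi22Sub_bcdefghi.step.S, [g] ∈ Fi22O73.subWords ∧ g ≠ eps := by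
    decide +kernel
  have hK : K = Subgroup.closure (wordVal x '' {u | u ∈ Fi22O73.subWords}) := by
    rw [hKdef]
    congr 1
    ext z
    constructor
    · rintro ⟨g, hg, rfl⟩
      refine ⟨[g], (hall g hg).1, ?_⟩
      · have hge : g ≠ eps := (hall g hg).2
        simp [wordVal, gen, hge]
    · rintro ⟨u, hu, rfl⟩
      simp only [Fi22O73.subWords, Set.mem_ofPred_eq, List.mem_cons, List.not_mem_nil,
        or_false] at hu
      rcases hu with rfl | rfl | rfl | rfl | rfl | rfl | rfl | rfl <;>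
        simp [wordVal, gen, eps, Fi22Sub_bcdefghi.step]
  obtain ⟨hidx, Φ, hΦ, heq, h0⟩ := Fi22O73.cert_valid.index_eq hx hgen hrel f hf hK
  replace hidx : K.index = 14080 := hidx
  -- finiteness and order
  have : Finite K := hfin2
  have : Finite Cfsg.Spor.Fi22 := Nat.finite_of_card_ne_zero (by
    rw [← Subgroup.card_mul_index K, hidx]
    exact mul_ne_zero Nat.card_pos.ne' (by decide))
  have hle : Nat.card Cfsg.Spor.Fi22 ≤ baseSize levels := by
    rw [← Subgroup.card_mul_index K, hidx, baseSize_levels]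
    calc Nat.card K * 14080 ≤ _ * 14080 := Nat.mul_le_mul hle2 le_rfl
      _ ≤ 64561751654400 := by decide +kernel
  obtain ⟨hcard, hinj⟩ := card_eq_of_base x f Fi22O73.cert_valid.perm (by decide) hf base_ok hle
  rw [baseSize_levels] at hcard
  refine ⟨?_, hcard⟩
  have : Nontrivial Cfsg.Spor.Fi22 := Finite.one_lt_card_iff_nontrivial.1 (by omega)
  have : FaithfulSMul Cfsg.Spor.Fi22 (Cfsg.Spor.Fi22 ⧸ K) := ⟨fun {a b} h => hinj (by
    ext i
    obtain ⟨q, rfl⟩ := hΦ.2 i
    rw [← heq, ← heq, h q])⟩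
  obtain ⟨q₁, h1, p1, m1⟩ := exists_orbit_ncard Fi22O73.cert_valid.perm (by decide)
    Fi22O73Orb.orb0_ok (by decide) f hf hK hΦ heq
  obtain ⟨q₂, h2, p2, m2⟩ := exists_orbit_ncard Fi22O73.cert_valid.perm (by decide)
    Fi22O73Orb.orb1_ok (by decide) f hf hK hΦ heq
  have hone : ∀ (c : ℕ) (Pos : Tab) (q : Cfsg.Spor.Fi22 ⧸ K),
      (∀ q' ∈ MulAction.orbit K q, Pos.getP (Φ q').1 < c) → Nat.blt (Pos.getP 0) c = false →
      ((1 : Cfsg.Spor.Fi22) : Cfsg.Spor.Fi22 ⧸ K) ∉ MulAction.orbit K q := by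
    intro c Pos q hm hblt hmem
    have := hm _ hmem
    rw [h0, ← Nat.blt_eq] at this
    simp [hblt] at this
  have hpow : f (wordVal x Fi22Base.killWord ^ 11) = 1 := by
    have hr : (List.replicate 11 Fi22Base.killWord).flatten ∈
        [(List.replicate 11 Fi22Base.killWord).flatten] := List.mem_singleton_self _
    have h := wordVal_tperm_eq_one (n := 14080) Fi22Base.killWord_pow (by decide) hr
    have hv : ∀ m : ℕ, wordVal x (List.replicate m Fi22Base.killWord).flatten =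
        wordVal x Fi22Base.killWord ^ m := by
      intro m
      induction m with
      | zero => rfl
      | succ m ih =>
        rw [List.replicate_succ, List.flatten_cons, wordVal_append, ih, pow_succ]
    have hw := fun w hlt => map_wordVal_tperm x f (Z := Fi22O73.tabP) (k := 9) (by decide) hf
      (w := w) hlt
    rw [← hv, hw _ (by decide +kernel)]
    exact h
  refine isSimple_of_rank_three K h1 h2 (hone _ _ q₁ m1 (by decide +kernel))
    (hone _ _ q₂ m2 (by decide +kernel)) ?_ (by rw [hidx]) (by rw [hidx]; decide)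
    (by rw [hidx]; decide) (p := 11) (by decide) (by rw [hidx]; decide)
    (by rw [hcard]; decide) (hinj (hpow.trans (map_one f).symm)) ?_
  · intro hmem
    have := m1 _ hmem
    rw [p2, ← Nat.blt_eq] at this
    revert this
    decide +kernel
  · intro M hM hw
    refine eq_top_of_collapse (N := M) kill rfl rfl hx hrel ?_ hw
    rw [← hgen]
    congr 1
    ext z
    simp only [Fi22Kill.step, Set.mem_image, Set.mem_ofPred_eq]
    constructor
    · rintro ⟨g, hg, rfl⟩
      exact ⟨g, by revert g; decide +kernel, rfl⟩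
    · rintro ⟨g, hg, rfl⟩
      exact ⟨g, by revert g; decide +kernel, rfl⟩

end Cfsg.Lib.CosetEnum.Fi22Pres
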