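import Cfsg.Agent.Lib.CosetEnum.Pres
import Cfsg.Prelude.Def_Spor_Suz

/-!
# The presentation of `Suz` on numbered generators
-/

set_option autoImplicit false

namespace Cfsg.Lib.CosetEnum.SuzPres

open Cfsg.Spor

/-- The number of a generator. -/
def num : Suz.Gen → ℕ
  | .a => 0
  | .b => 1
  | .c => 2
  | .d => 3
  | .e => 4
  | .f => 5
  | .g => 6

/-- The generator with a number. -/
def letter : ℕ → Suz.Gen
  | 0 => .a
  | 1 => .b
  | 2 => .c
  | 3 => .d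
  | 4 => .e
  | 5 => .f
  | _ => .g

/-- The numbering. -/
def numbering : Numbering Suz.Gen Suz.edges where
  num := num
  letter := letter
  k := 7
  num_lt := fun a => by cases a <;> decide
  letter_num := fun a => by cases a <;> rfl
  num_letter := by decide
  mem := fun a => by cases a <;> decide

/-- The extra relator words. -/
def extra : List (List ℕ) :=
  [[2, 3, 2, 3, 2, 3, 2, 3, 0],
    [5, 6, 5, 6, 0],
    [5, 2, 1, 0, 5, 2, 1, 0, 5, 2, 1, 0, 5, 2, 1, 0, 5, 2, 1, 0],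
    [6, 5, 1, 6, 5, 1, 6, 5, 1, 6, 5, 1, 6, 5, 1],
    [4, 3, 2, 3, 2, 1, 3, 2, 3, 2, 1, 3, 2, 3, 2, 1, 3, 2, 3, 2, 1, 3, 2, 3, 2, 1, 4, 3, 2, 3, 2, 1, 3, 2, 3, 2, 1, 3, 2, 3, 2, 1, 3, 2, 3, 2, 1, 3, 2, 3, 2, 1, 4, 3, 2, 3, 2, 1, 3, 2, 3, 2, 1, 3, 2, 3, 2, 1, 3, 2, 3, 2, 1, 3, 2, 3, 2, 1]]

theorem map_extra {M : Type*} [Group M] (y : ℕ → M) (hy : ∀ g, y g * y g = 1) :
    Suz.extra.map (FreeGroup.lift fun a => y (numbering.num a)) = extra.map (wordVal y) := by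
  have hi : ∀ g, (y g)⁻¹ = y g := fun g => inv_eq_of_mul_eq_one_left (hy g)
  simp [Suz.extra, extra, wordVal, gen, eps, numbering, num, pow_succ, mul_inv_rev, hi, mul_assoc]

end Cfsg.Lib.CosetEnum.SuzPres
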