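import Cfsg.Agent.Lib.CosetEnum.Groups.U62Group
import Cfsg.Agent.Lib.CosetEnum.U62Mult.CoverCheck
import Cfsg.Agent.Lib.CosetEnum.U62Mult.ThreeHom
import Cfsg.Prelude.Def_KGroupFacts

/-!
# A cover of PSU(6, 2) with kernel of order twelve

The triple cover is SU(6, 2); the two double covers act on 2816 points each.
-/

set_option autoImplicit false
set_option maxRecDepth 100000
set_option maxHeartbeats 1000000

open scoped Matrix

namespace Cfsg.Lib.CosetEnum.U62Mult

/-- The transvections of the generators. -/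
noncomputable def uGen (g : ℕ) : Cfsg.SU 6 GF4 2 :=
  if h : GF4.herm (GF4.vec (Fi22U62Pts.centres.getD g 0)) (GF4.vec (Fi22U62Pts.centres.getD g 0)) = 0 ∧ g < 8
  then GF4.transvection _ h.1 else 1

theorem uGen_mat {g : ℕ} (hg : g < 8) :
    ((uGen g).1 : Matrix (Fin 6) (Fin 6) GF4) = GF4.cmat (GF4.vec (Fi22U62Pts.centres.getD g 0)) := by
  have h := of_decide_eq_true (List.all_eq_true.1 centres_iso g (List.mem_range.2 hg))
  rw [uGen, dif_pos ⟨h, hg⟩]
  rfl

theorem code_lt (x : Fin 6 → GF4) : GF4.code x < 4096 := by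
  have hb : ∀ a : GF4, GF4.enc a < 4 := by decide
  have := hb (x 0); have := hb (x 1); have := hb (x 2); have := hb (x 3); have := hb (x 4); have := hb (x 5)
  simp only [GF4.code]
  omega

theorem code_vec : ((List.range 4096).all fun c => Nat.beq (GF4.code (GF4.vec c)) c) = true := by
  decide +kernel

theorem vec_code (x : Fin 6 → GF4) : GF4.vec (GF4.code x) = x :=
  GF4.code_injective
    (Nat.eq_of_beq_eq_true (List.all_eq_true.1 code_vec _ (List.mem_range.2 (code_lt x))))

theorem mulVec_word : ∀ {w : List ℕ}, (∀ g ∈ w, g < 8) → ∀ x : ℕ,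
    ((wordVal uGen w).1 : Matrix (Fin 6) (Fin 6) GF4) *ᵥ GF4.vec x = GF4.vec (evalC w x)
  | [], _, x => by
    rw [evalC]
    show (1 : Matrix (Fin 6) (Fin 6) GF4) *ᵥ GF4.vec x = _
    rw [Matrix.one_mulVec]
  | g :: w, h, x => by
    have hg := h g (by simp)
    rw [evalC, force_eq, wordVal, gen, if_neg (by simp only [eps]; omega), Subgroup.coe_mul,
      Matrix.SpecialLinearGroup.coe_mul, ← Matrix.mulVec_mulVec, uGen_mat hg, GF4.cmat_mulVec,
      ← vec_code (GF4.move _ _)]
    exact mulVec_word (fun a ha => h a (by simp [ha])) _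

theorem vec_unit : ∀ l : Fin 2, ∀ j k : Fin 6, GF4.vec ((l.1 + 1) * 4 ^ j.1) k =
    GF4.dec (l.1 + 1) * (if k = j then 1 else 0) := by decide +kernel

theorem scal_value {l : ℕ} (hl : l = 1 ∨ l = 2) {w : List ℕ} (h : scalOK l w = true) :
    ((wordVal uGen w).1 : Matrix (Fin 6) (Fin 6) GF4) = GF4.dec l • (1 : Matrix (Fin 6) (Fin 6) GF4) := by
  simp only [scalOK, lettersOK, Bool.and_eq_true, List.all_eq_true, Nat.blt_eq, Nat.beq_eq,
    List.mem_range] at h
  obtain ⟨hw, h⟩ := h
  ext i j
  have he : GF4.vec (4 ^ j.1) = Pi.single j 1 := by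
    funext k
    have := vec_unit 0 j k
    simp only [Fin.val_zero, zero_add, one_mul] at this
    rw [this, show GF4.dec 1 = (1 : GF4) from rfl, one_mul, Pi.single_apply]
  have h1 := congrFun (mulVec_word hw (4 ^ j.1)) i
  rw [h j.1 j.2, he, Matrix.mulVec_single_one] at h1
  show ((wordVal uGen w).1 : Matrix (Fin 6) (Fin 6) GF4) i j = _
  refine h1.trans ?_
  rw [Matrix.smul_apply, Matrix.one_apply, smul_eq_mul]
  rcases hl with rfl | rfl
  · exact vec_unit 0 j i
  · exact vec_unit 1 j i

theorem scal_one {w : List ℕ} (h : scalOK 1 w = true) : wordVal uGen w = 1 := by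
  apply Subtype.ext
  apply Subtype.ext
  rw [scal_value (Or.inl rfl) h, show GF4.dec 1 = (1 : GF4) from rfl, one_smul]
  rfl

/-- The scalar of the third relator. -/
noncomputable def lamU : Cfsg.SU 6 GF4 2 := wordVal uGen relHex

theorem lamU_mat : (lamU.1 : Matrix (Fin 6) (Fin 6) GF4) = GF4.w • (1 : Matrix (Fin 6) (Fin 6) GF4) := by
  have h := scal_ok
  rw [Bool.and_eq_true] at h
  exact scal_value (Or.inr rfl) h.2

theorem lamU_comm (a : Cfsg.SU 6 GF4 2) : Commute lamU a := by
  apply Subtype.ext
  apply Subtype.ext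
  show (lamU.1 : Matrix (Fin 6) (Fin 6) GF4) * (a.1 : Matrix (Fin 6) (Fin 6) GF4) = _ * _
  rw [lamU_mat, smul_mul_assoc, one_mul, mul_smul_comm, mul_one]

theorem lamU_pow : lamU ^ 3 = 1 ∧ lamU ≠ 1 ∧ lamU ^ 2 ≠ 1 := by
  have hp : ∀ k : ℕ, ((lamU ^ k).1 : Matrix (Fin 6) (Fin 6) GF4) =
      (GF4.w ^ k) • (1 : Matrix (Fin 6) (Fin 6) GF4) := fun k => by
    rw [SubgroupClass.coe_pow, Matrix.SpecialLinearGroup.coe_pow, lamU_mat, smul_pow, one_pow]
  have hne : ∀ k : ℕ, GF4.w ^ k ≠ 1 → lamU ^ k ≠ 1 := fun k hk h => by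
    have h' := congrArg (fun M : Matrix (Fin 6) (Fin 6) GF4 => M 0 0) ((hp k).symm.trans (by rw [h]; rfl) :
      (GF4.w ^ k) • (1 : Matrix (Fin 6) (Fin 6) GF4) = 1)
    simp only [Matrix.smul_apply, Matrix.one_apply_eq, smul_eq_mul, mul_one] at h'
    exact hk h'
  refine ⟨?_, ?_, hne 2 (by decide)⟩
  · apply Subtype.ext
    apply Subtype.ext
    rw [hp 3, show GF4.w ^ 3 = 1 by decide, one_smul]
    rfl
  · have := hne 1 (by decide)
    rwa [pow_one] at this

/-- The group of the three parts. -/
abbrev Triple : Type := Cfsg.SU 6 GF4 2 × (Equiv.Perm (Fin 2816) × Equiv.Perm (Fin 2816))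

/-- The generators of the cover. -/
noncomputable def yTriple (g : ℕ) : Triple :=
  (uGen g, tperm tabB 8 2816 g, tperm tabC 8 2816 g)

theorem wordVal_triple (w : List ℕ) : wordVal yTriple w =
    (wordVal uGen w, wordVal (tperm tabB 8 2816) w, wordVal (tperm tabC 8 2816) w) :=
  Prod.ext (map_wordVal (MonoidHom.fst _ _) yTriple w)
    (Prod.ext (map_wordVal ((MonoidHom.fst (Equiv.Perm (Fin 2816)) (Equiv.Perm (Fin 2816))).comp
        (MonoidHom.snd (Cfsg.SU 6 GF4 2) _)) yTriple w)
      (map_wordVal ((MonoidHom.snd (Equiv.Perm (Fin 2816)) (Equiv.Perm (Fin 2816))).comp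
        (MonoidHom.snd (Cfsg.SU 6 GF4 2) _)) yTriple w))

theorem perm_central {T : Tab} {R : List (List ℕ)} (hT : permOK T 8 2816 R 2816 0 = true) {u : List ℕ}
    (hu : lettersOK u = true) (h : centralT T u 2816 0 = true) :
    (∀ g < 8, Commute (wordVal (tperm T 8 2816) u) (tperm T 8 2816 g)) ∧
      wordVal (tperm T 8 2816) u ^ 2 = 1 := by
  have hget : ∀ (m i : ℕ), centralT T u m i = true → ∀ j, i ≤ j → j < i + m →
      (∀ g < 8, twalk T 8 u (img T 8 g j) = img T 8 g (twalk T 8 u j)) ∧
        twalk T 8 u (twalk T 8 u j) = j := by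
    intro m
    induction m with
    | zero => intro i _ j h1 h2; omega
    | succ m ih =>
      intro i hc j h1 h2
      rw [centralT, force_eq, force_eq] at hc
      simp only [Bool.and_eq_true, List.all_eq_true, List.mem_range, Nat.beq_eq, and_assoc] at hc
      rcases Nat.eq_or_lt_of_le h1 with e | e
      · subst e; exact ⟨hc.1, hc.2.1⟩
      · exact ih (i + 1) hc.2.2 j e (by omega)
  have hu' : ∀ g ∈ u, g < 8 := fun g hg => by
    simpa [Nat.blt_eq] using List.all_eq_true.1 hu g hg
  have hw : ∀ i : Fin 2816, (wordVal (tperm T 8 2816) u i).1 = twalk T 8 u i.1 :=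
    wordVal_tperm hT (by decide) u hu'
  refine ⟨fun g hg => Equiv.ext fun i => Fin.ext ?_, Equiv.ext fun i => Fin.ext ?_⟩
  · rw [Equiv.Perm.mul_apply, Equiv.Perm.mul_apply, hw, tperm_apply hT hg, tperm_apply hT hg, hw]
    exact (hget 2816 0 h i.1 (Nat.zero_le _) (by omega)).1 g hg
  · rw [pow_two, Equiv.Perm.mul_apply, hw, hw]
    exact (hget 2816 0 h i.1 (Nat.zero_le _) (by omega)).2

theorem exists_cover : ∃ (Γ : Type) (_ : Group Γ) (_ : Finite Γ) (σ : Γ →* Pres),
    Cfsg.IsStemExtension σ ∧ Nonempty (σ.ker ≃* Multiplicative (ZMod 3 × ZMod 2 × ZMod 2)) := by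
  classical
  set zB := wordVal (tperm tabB 8 2816) relX with hzB
  set zC := wordVal (tperm tabC 8 2816) relCw with hzC
  have hlB := centralB_ok
  have hlC := centralC_ok
  rw [Bool.and_eq_true] at hlB hlC
  obtain ⟨hBc, hB2⟩ := perm_central permB_ok hlB.1 hlB.2
  obtain ⟨hCc, hC2⟩ := perm_central permC_ok hlC.1 hlC.2
  have hBne : zB ≠ 1 := fun h => by
    have hw := wordVal_tperm permB_ok (by decide) relX (fun g hg => by
      simpa [Nat.blt_eq] using List.all_eq_true.1 hlB.1 g hg) ⟨0, by norm_num⟩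
    rw [← hzB, h] at hw
    have := centralB_ne
    rw [← hw] at this
    simp at this
  have hCne : zC ≠ 1 := fun h => by
    have hw := wordVal_tperm permC_ok (by decide) relCw (fun g hg => by
      simpa [Nat.blt_eq] using List.all_eq_true.1 hlC.1 g hg) ⟨0, by norm_num⟩
    rw [← hzC, h] at hw
    have := centralC_ne
    rw [← hw] at this
    simp at this
  set H := Subgroup.closure (yTriple '' {g | g < 8}) with hHdef
  -- values of the relators
  have hscal := scal_ok
  rw [Bool.and_eq_true, List.all_eq_true] at hscal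
  have hsu : ∀ r ∈ pairRels ++ [relConj, relCw, relX, relCox, []], wordVal uGen r = 1 :=
    fun r hr => scal_one (hscal.1 r hr)
  have hB : ∀ r ∈ relsB, wordVal (tperm tabB 8 2816) r = 1 := fun r hr =>
    wordVal_tperm_eq_one permB_ok (by decide) hr
  have hC : ∀ r ∈ relsC, wordVal (tperm tabC 8 2816) r = 1 := fun r hr =>
    wordVal_tperm_eq_one permC_ok (by decide) hr
  have vHex : wordVal yTriple relHex = (lamU, 1, 1) := by
    rw [wordVal_triple, hB relHex (List.mem_append_right _ (by simp)),
      hC relHex (List.mem_append_right _ (by simp))]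
    rfl
  have vX : wordVal yTriple relX = (1, zB, 1) := by
    rw [wordVal_triple, hsu relX (List.mem_append_right _ (by simp)),
      hC relX (List.mem_append_right _ (by simp))]
  have vCw : wordVal yTriple relCw = (1, 1, zC) := by
    rw [wordVal_triple, hsu relCw (List.mem_append_right _ (by simp)),
      hB relCw (List.mem_append_right _ (by simp))]
  have vOne : ∀ r ∈ pairRels ++ [relConj, relCox, []], wordVal yTriple r = 1 := by
    intro r hr
    have key : r ∈ pairRels ++ [relConj, relCw, relX, relCox, []] ∧ r ∈ relsB ∧ r ∈ relsC := by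
      rcases List.mem_append.1 hr with h | h
      · exact ⟨List.mem_append_left _ h, List.mem_append_left _ h, List.mem_append_left _ h⟩
      · simp only [List.mem_cons, List.not_mem_nil, or_false] at h
        rcases h with rfl | rfl | rfl <;>
          exact ⟨List.mem_append_right _ (by simp), List.mem_append_right _ (by simp),
            List.mem_append_right _ (by simp)⟩
    rw [wordVal_triple, hsu r key.1, hB r key.2.1, hC r key.2.2]
    rfl
  -- the generators inside the subgroup
  let y : ℕ → H := fun g => if h : g < 8 then ⟨yTriple g, Subgroup.subset_closure ⟨g, h, rfl⟩⟩ else 1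
  have hy : ∀ w : List ℕ, (∀ g ∈ w, g < 8) → ((wordVal y w : H) : Triple) = wordVal yTriple w := by
    intro w
    induction w with
    | nil => intro _; rfl
    | cons g w ih =>
      intro hw
      have hg := hw g (by simp)
      rw [wordVal, wordVal, Subgroup.coe_mul, ih fun a ha => hw a (by simp [ha]), gen, gen,
        if_neg (by simp only [eps]; omega), if_neg (by simp only [eps]; omega)]
      simp only [y, dif_pos hg]
  have hlt : ∀ r ∈ rels, ∀ g ∈ r, g < 8 := fun r hr g hg => by
    simpa [Nat.blt_eq] using List.all_eq_true.1 (List.all_eq_true.1 rels_letters r hr) g hg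
  have mCox : relCox ∈ rels := List.mem_append_right _ (by simp)
  set cH := wordVal y relHex
  set aH := wordVal y relX
  set bH := wordVal y relCw
  have ecH : (cH : Triple) = (lamU, 1, 1) := (hy _ (hlt _ (List.mem_append_right _ (by simp)))).trans vHex
  have eaH : (aH : Triple) = (1, zB, 1) := (hy _ (hlt _ (List.mem_append_right _ (by simp)))).trans vX
  have ebH : (bH : Triple) = (1, 1, zC) := (hy _ (hlt _ (List.mem_append_right _ (by simp)))).trans vCw
  -- central elements
  have hle : H ≤ Subgroup.centralizer {((lamU, 1, 1) : Triple), (1, zB, 1), (1, 1, zC)} := by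
    rw [hHdef, Subgroup.closure_le]
    rintro _ ⟨g, hg, rfl⟩
    rw [SetLike.mem_coe, Subgroup.mem_centralizer_iff]
    intro t ht
    simp only [Set.mem_insert_iff, Set.mem_singleton_iff] at ht
    rcases ht with rfl | rfl | rfl
    · exact Prod.ext (lamU_comm (uGen g)).eq (Prod.ext (by simp [yTriple]) (by simp [yTriple]))
    · exact Prod.ext (by simp [yTriple]) (Prod.ext (hBc g hg).eq (by simp [yTriple]))
    · exact Prod.ext (by simp [yTriple]) (Prod.ext (by simp [yTriple]) (hCc g hg).eq)
  have hcc : ∀ (z : H), (z : Triple) ∈ ({((lamU, 1, 1) : Triple), (1, zB, 1), (1, 1, zC)} : Set Triple) →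
      z ∈ Subgroup.center H := fun z hz => Subgroup.mem_center_iff.2 fun q =>
    Subtype.ext ((Subgroup.mem_centralizer_iff.1 (hle q.2) _ hz).symm)
  have hcC : cH ∈ Subgroup.center H := hcc _ (by simp [ecH])
  have haC : aH ∈ Subgroup.center H := hcc _ (by simp [eaH])
  have hbC : bH ∈ Subgroup.center H := hcc _ (by simp [ebH])
  have hcomm : ∀ {u v : H}, u ∈ Subgroup.center H → Commute u v := fun hu =>
    (Subgroup.mem_center_iff.1 hu _).symm
  have hc3 : cH ^ 3 = 1 := Subtype.ext (by
    rw [SubgroupClass.coe_pow, ecH]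
    exact Prod.ext lamU_pow.1 (Prod.ext (one_pow 3) (one_pow 3)))
  have ha2 : aH ^ 2 = 1 := Subtype.ext (by
    rw [SubgroupClass.coe_pow, eaH]
    exact Prod.ext (one_pow 2) (Prod.ext hB2 (one_pow 2)))
  have hb2 : bH ^ 2 = 1 := Subtype.ext (by
    rw [SubgroupClass.coe_pow, ebH]
    exact Prod.ext (one_pow 2) (Prod.ext (one_pow 2) hC2))
  set φ := threeHom hc3 ha2 hb2 (hcomm hcC) (hcomm hcC) (hcomm haC) with hφdef
  have hφinj : Function.Injective φ := by
    refine (injective_iff_map_eq_one φ).2 fun t ht => ?_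
    have h' : ((cH ^ t.toAdd.1.val * (aH ^ t.toAdd.2.1.val * bH ^ t.toAdd.2.2.val) : H) : Triple) = 1 :=
      congrArg Subtype.val ht
    rw [Subgroup.coe_mul, Subgroup.coe_mul, SubgroupClass.coe_pow, SubgroupClass.coe_pow,
      SubgroupClass.coe_pow, ecH, eaH, ebH] at h'
    simp only [Prod.pow_mk, Prod.mk_mul_mk, one_pow, one_mul, mul_one, Prod.mk_eq_one] at h'
    obtain ⟨h1, h2, h3⟩ := h'
    have i1 : t.toAdd.1.val = 0 := by
      have := ZMod.val_lt t.toAdd.1
      generalize t.toAdd.1.val = i at h1 this ⊢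
      interval_cases i
      · rfl
      · exact absurd (by rwa [pow_one] at h1) lamU_pow.2.1
      · exact absurd h1 lamU_pow.2.2
    have i2 : t.toAdd.2.1.val = 0 := by
      have := ZMod.val_lt t.toAdd.2.1
      generalize t.toAdd.2.1.val = i at h2 this ⊢
      interval_cases i
      · rfl
      · exact absurd (by rwa [pow_one] at h2) hBne
    have i3 : t.toAdd.2.2.val = 0 := by
      have := ZMod.val_lt t.toAdd.2.2
      generalize t.toAdd.2.2.val = i at h3 this ⊢
      interval_cases i
      · rfl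
      · exact absurd (by rwa [pow_one] at h3) hCne
    rw [ZMod.val_eq_zero] at i1 i2 i3
    exact Multiplicative.toAdd.injective (Prod.ext i1 (Prod.ext i2 i3))
  set Z := φ.range with hZdef
  have hZc : Z ≤ Subgroup.center H := by
    rintro _ ⟨t, rfl⟩
    exact mul_mem (pow_mem hcC _) (mul_mem (pow_mem haC _) (pow_mem hbC _))
  have : Z.Normal := ⟨fun u hu v => by
    rw [Subgroup.mem_center_iff.1 (hZc hu) v, mul_inv_cancel_right]; exact hu⟩
  let q := QuotientGroup.mk' Z
  have hcZ : cH ∈ Z := ⟨Multiplicative.ofAdd (1, 0, 0), by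
    show cH ^ 1 * (aH ^ 0 * bH ^ 0) = cH
    simp⟩
  have haZ : aH ∈ Z := ⟨Multiplicative.ofAdd (0, 1, 0), by
    show cH ^ 0 * (aH ^ 1 * bH ^ 0) = aH
    simp⟩
  have hbZ : bH ∈ Z := ⟨Multiplicative.ofAdd (0, 0, 1), by
    show cH ^ 0 * (aH ^ 0 * bH ^ 1) = bH
    simp⟩
  have hy1 : ∀ r ∈ rels, r ∈ pairRels ++ [relConj, relCox, []] → wordVal y r = 1 := fun r hr hr' =>
    Subtype.ext ((hy r (hlt r hr)).trans (vOne r hr'))
  have hrel : ∀ r ∈ rels, wordVal (fun g => q (y g)) r = 1 := by
    intro r hr
    rw [← map_wordVal q y r]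
    refine (QuotientGroup.eq_one_iff _).2 ?_
    have hr' := hr
    simp only [rels, List.mem_append, List.mem_cons, List.not_mem_nil, or_false] at hr'
    rcases hr' with h | rfl | rfl | rfl | rfl | rfl | rfl
    · rw [hy1 _ hr (List.mem_append_left _ h)]; exact one_mem _
    · rw [hy1 _ hr (List.mem_append_right _ (by simp))]; exact one_mem _
    · exact hbZ
    · exact haZ
    · rw [hy1 _ hr (List.mem_append_right _ (by simp))]; exact one_mem _
    · exact hcZ
    · exact one_mem _
  obtain ⟨ψ, hψ⟩ := WordPres.exists_hom (M := H ⧸ Z) (by decide) rels_letters _ hrel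
  have hψ' : ∀ g < 8, ψ (xgen g) = q (y g) := hψ
  have hsurj : Function.Surjective ψ := by
    intro a
    obtain ⟨⟨a, ha⟩, rfl⟩ := QuotientGroup.mk'_surjective Z a
    have hle' : H ≤ (ψ.range.comap q).map H.subtype := by
      refine (Subgroup.closure_le _).2 ?_
      rintro _ ⟨g, hg, rfl⟩
      exact ⟨y g, ⟨_, hψ' g hg⟩, by simp [y, show g < 8 from hg]⟩
    obtain ⟨b, hb, hba⟩ := hle' ha
    obtain ⟨v, hv⟩ := hb
    exact ⟨v, hv.trans (congrArg q (Subtype.ext hba))⟩
  have hfin := pres_finite
  have hinj : Function.Injective ψ := by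
    obtain ⟨⟨e⟩, -⟩ := nonempty_equiv_psu
    have : IsSimpleGroup (Cfsg.PSU 6 GF4 2) :=
      Cfsg.Lib.Linear.Herm.psu_simple (q := 2) (rfl : Fintype.card GF4 = 2 ^ 2) (by norm_num)
    have : IsSimpleGroup Pres := MulEquiv.isSimpleGroup e
    rw [← MonoidHom.ker_eq_bot_iff]
    refine (ψ.normal_ker.eq_bot_or_eq_top).resolve_right fun h => ?_
    have hall : ∀ g < 8, y g ∈ Z := fun g hg => by
      refine (QuotientGroup.eq_one_iff _).1 ?_
      show q (y g) = 1
      rw [← hψ' g hg]
      exact ψ.mem_ker.1 (h ▸ Subgroup.mem_top _)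
    have hc := Subgroup.mem_center_iff.1 (hZc (hall 1 (by decide))) (y 0)
    have hne : wordVal yTriple [0, 1] ≠ wordVal yTriple [1, 0] := by
      intro he
      rw [wordVal_triple, wordVal_triple] at he
      have h2 := congrArg (fun t : Triple => (t.2.1 ⟨3, by norm_num⟩).1) he
      simp only at h2
      rw [wordVal_tperm permB_ok (by decide) [0, 1] (by decide),
        wordVal_tperm permB_ok (by decide) [1, 0] (by decide)] at h2
      have := noncomm_ok
      rw [h2] at this
      simp at this
    apply hne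
    rw [← hy _ (by decide), ← hy _ (by decide)]
    refine congrArg Subtype.val ?_
    simp only [wordVal, gen, eps, one_mul, show (0 : ℕ) ≠ 31 by decide, show (1 : ℕ) ≠ 31 by decide, if_false]
    exact hc.symm
  let e := MulEquiv.ofBijective ψ ⟨hinj, hsurj⟩
  let σ : H →* Pres := e.symm.toMonoidHom.comp q
  have hkerσ : σ.ker = Z := by
    ext a
    rw [MonoidHom.mem_ker]
    show e.symm (q a) = 1 ↔ a ∈ Z
    rw [EmbeddingLike.map_eq_one_iff]
    exact QuotientGroup.eq_one_iff a
  have : Finite Z := Finite.of_equiv _ (MonoidHom.ofInjective hφinj).toEquiv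
  have : Finite (H ⧸ Z) := Finite.of_equiv _ e.toEquiv
  have hfinH : Finite H := Finite.of_subgroup_quotient Z
  -- the cover is perfect
  have hperf : commutator H = ⊤ := by
    let χ : H →* Abelianization H := Abelianization.of
    have hedge := edges_ok
    simp only [List.all_eq_true, List.any_eq_true] at hedge
    have hsq : ∀ g < 8, χ (y g) * χ (y g) = 1 := fun g hg => by
      have hm : [g, g] ∈ pairRels := by
        have h8 : ∀ a : Fin 8, [a.1, a.1] ∈ pairRels := by decide +kernel
        exact h8 ⟨g, hg⟩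
      have h := hy1 _ (List.mem_append_left _ hm) (List.mem_append_left _ hm)
      simp only [wordVal, gen, if_neg (show g ≠ eps by simp only [eps]; omega), one_mul] at h
      rw [← map_mul, h, map_one]
    have hpair : ∀ p ∈ [(0, 1), (1, 2), (1, 5), (2, 3), (3, 4), (3, 7), (5, 6), (6, 7)],
        χ (y p.1) = χ (y p.2) := by
      intro p hp
      obtain ⟨r, hr, he⟩ := hedge p hp
      have hlt' : p.1 < 8 ∧ p.2 < 8 := by
        simp only [List.mem_cons, List.not_mem_nil, or_false] at hp
        rcases hp with rfl | rfl | rfl | rfl | rfl | rfl | rfl | rfl <;> decide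
      rw [← beqW_eq he] at hr
      have h := congrArg χ (hy1 _ (List.mem_append_left _ hr) (List.mem_append_left _ hr))
      simp only [wordVal, gen, if_neg (show p.1 ≠ eps by simp only [eps]; omega),
        if_neg (show p.2 ≠ eps by simp only [eps]; omega), one_mul, map_mul, map_one] at h
      have h1 := hsq _ hlt'.1
      have h2 := hsq _ hlt'.2
      calc χ (y p.1) = χ (y p.1) * (χ (y p.2) * χ (y p.1) * χ (y p.2) * χ (y p.1) * χ (y p.2) * χ (y p.1)) := by
            rw [h, mul_one]
        _ = (χ (y p.1) * χ (y p.1)) * (χ (y p.1) * χ (y p.1)) * ((χ (y p.2) * χ (y p.2)) * χ (y p.2)) := by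
            ac_rfl
        _ = χ (y p.2) := by rw [h1, h2, one_mul, one_mul, one_mul]
    simp only [List.mem_cons, List.not_mem_nil, or_false, forall_eq_or_imp, forall_eq] at hpair
    obtain ⟨p1, p2, p5, p3, p4, p7, p6, p67⟩ := hpair
    have hall : ∀ g < 8, χ (y g) = χ (y 0) := by
      intro g hg
      interval_cases g
      exacts [rfl, p1.symm, (p1.trans p2).symm, ((p1.trans p2).trans p3).symm,
        (((p1.trans p2).trans p3).trans p4).symm, (p1.trans p5).symm, ((p1.trans p5).trans p6).symm,
        (((p1.trans p2).trans p3).trans p7).symm]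
    have hpow : ∀ w : List ℕ, (∀ g ∈ w, g < 8) → χ (wordVal y w) = χ (y 0) ^ w.length := by
      intro w
      induction w with
      | nil => intro _; simp [wordVal]
      | cons g w ih =>
        intro hw
        have hg := hw g (by simp)
        rw [wordVal, map_mul, ih fun a ha => hw a (by simp [ha]), gen,
          if_neg (by simp only [eps]; omega), hall g hg, List.length_cons, pow_succ]
    have h0 : χ (y 0) = 1 := by
      have h := hpow relCox (hlt _ mCox)
      rw [hy1 relCox mCox (List.mem_append_right _ (by simp)), map_one] at h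
      have hodd := cox_ok
      simp only [Bool.and_eq_true, Nat.beq_eq] at hodd
      rw [← Nat.div_add_mod relCox.length 2, hodd.1, pow_succ, pow_mul, pow_two, hsq 0 (by decide),
        one_pow, one_mul] at h
      exact h.symm
    rw [eq_top_iff]
    have hle' : H ≤ (commutator H).map H.subtype := by
      refine (Subgroup.closure_le _).2 ?_
      rintro _ ⟨g, hg, rfl⟩
      refine ⟨y g, ?_, by simp [y, show g < 8 from hg]⟩
      rw [SetLike.mem_coe, ← Abelianization.ker_of, MonoidHom.mem_ker]
      exact (hall g hg).trans h0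
    intro a _
    obtain ⟨b, hb, hba⟩ := hle' a.2
    rwa [← Subtype.ext (show (b : Triple) = a from hba)]
  refine ⟨H, inferInstance, hfinH, σ, ⟨e.symm.surjective.comp (QuotientGroup.mk'_surjective Z),
    hkerσ.le.trans hZc, by rw [hperf]; exact le_top⟩, ?_⟩
  exact ⟨(MulEquiv.subgroupCongr hkerσ).trans (MonoidHom.ofInjective hφinj).symm⟩

end Cfsg.Lib.CosetEnum.U62Mult
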