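import Cfsg.Agent.Lib.CosetEnum.Groups.U62Stem
import Cfsg.Agent.Lib.CosetEnum.Groups.U62Cover
import Cfsg.Agent.Lib.MinusSix.Main
import Cfsg.Agent.Lib.Schur.Universe

/-!
# The Schur multiplier of PSU(6, 2)
-/

set_option autoImplicit false

universe u

namespace Cfsg.Lib.CosetEnum.U62Mult

theorem multiplier {F : Type u} [Field F] [Fintype F] (hF : Fintype.card F = 4) :
    Cfsg.HasSchurMultiplier (Cfsg.PSU 6 F 2) (Multiplicative (ZMod 3 × ZMod 2 × ZMod 2)) := by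
  obtain ⟨⟨e⟩, -⟩ := nonempty_equiv_psu
  obtain ⟨e'⟩ := Cfsg.Lib.MinusSix.psu_congr
    (FiniteField.ringEquivOfCardEq (K := GF4) (K' := F) (by rw [GF4.card_eq, hF])) 6 2
  exact Cfsg.Lib.Schur.hasSchur_of_equiv (e.trans e')
    ⟨exists_cover, fun Γ _ _ σ hσ => stem_ker σ hσ⟩

end Cfsg.Lib.CosetEnum.U62Mult
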