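import Cfsg.Agent.Lib.CosetEnum.Groups.HeSimple
import Cfsg.Agent.Lib.CosetEnum.HeInvol.CheckFix

/-!
# The centraliser of an involution of the Held group is small

The Held group acts on 2058 points; four points form a base. The involution `e` fixes the first point and
41 others; its fixed points in the two short suborbits form a set with at least 3825 images under the
point stabiliser, so its centraliser has order at most `42 * 512`.
-/

set_option autoImplicit false
set_option maxRecDepth 100000

namespace Cfsg.Lib.CosetEnum.HeInvol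

open Cfsg.Spor Cfsg.Lib.CosetEnum.HePres

/-- The generators of the Held group by number. -/
def xgen : ℕ → Cfsg.Spor.He := numbering.gens He.extra

theorem card_He : Nat.card Cfsg.Spor.He = 4030387200 := isHe.2

instance finite_He : Finite Cfsg.Spor.He := Nat.finite_of_card_ne_zero (by rw [card_He]; norm_num)

theorem perm_ok : permOK HeS44.tabP 7 2058 HeS44.cert.R1 2058 0 = true := HeS44.cert_valid.perm

theorem tree_ok : treeOK HeS44.tabP HeS44.cert.step.F 7 2057 0 = true := HeS44.cert_valid.tree

theorem exists_act : ∃ f : Cfsg.Spor.He →* Equiv.Perm (Fin 2058),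
    ∀ g < 7, f (xgen g) = tperm HeS44.tabP 7 2058 g := by
  obtain ⟨f, hf⟩ := numbering.exists_hom (show numbering.k ≤ eps by decide) He.extra HeS44.cert_valid
    (show HeS44.cert.R0 = numbering.pairs ++ extra by decide +kernel) rfl
    (map_extra _ fun g => tperm_mul_self _ _ _ g)
  exact ⟨f, hf⟩

/-- The action on 2058 points. -/
noncomputable def act : Cfsg.Spor.He →* Equiv.Perm (Fin 2058) := exists_act.choose

theorem act_gen : ∀ g < 7, act (xgen g) = tperm HeS44.tabP 7 2058 g := exists_act.choose_spec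

theorem letters_lt {w : List ℕ} (h : letters w = true) : ∀ g ∈ w, g < 7 := fun g hg => by
  simp only [letters, List.all_eq_true, Nat.blt_eq] at h
  exact h g hg

theorem act_word {w : List ℕ} (h : ∀ g ∈ w, g < 7) (i : Fin 2058) :
    (act (wordVal xgen w) i).1 = hwalk w i.1 := by
  have hw : act (wordVal xgen w) = wordVal (tperm HeS44.tabP 7 2058) w := by
    induction w with
    | nil => exact map_one act
    | cons g w ih =>
      rw [wordVal, wordVal, map_mul, ih fun a ha => h a (by simp [ha])]
      have hg : g < 7 := h g (by simp)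
      congr 1
      rw [gen, gen, if_neg (by unfold eps; omega), if_neg (by unfold eps; omega), act_gen g hg]
  rw [hw, hwalk, wordVal_tperm perm_ok (by decide) w h]

/-- The elements fixing the first point of every level. -/
def fixSub (Ls : List BaseLevel) : Subgroup Cfsg.Spor.He where
  carrier := {a | ∀ L ∈ Ls, ∀ i : Fin 2058, i.1 = L.O.getP 0 / B / B → act a i = i}
  one_mem' := fun L _ i _ => by simp
  mul_mem' {a b} ha hb L hL i hi := by
    rw [map_mul, Equiv.Perm.mul_apply, hb L hL i hi, ha L hL i hi]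
  inv_mem' {a} ha L hL i hi := by
    rw [map_inv, Equiv.Perm.inv_def, Equiv.symm_apply_eq, ha L hL i hi]

theorem card_mul_le_of_base : ∀ {Ls : List BaseLevel}, BaseOK HeS44.tabP 7 2058 Ls →
    ∀ S : Subgroup Cfsg.Spor.He,
      (∀ u ∈ (Ls.head?.map BaseLevel.U).getD [], wordVal xgen u ∈ S) →
      baseSize Ls * Nat.card ↥(S ⊓ fixSub Ls) ≤ Nat.card S
  | [], _, S, _ => by
    rw [baseSize, one_mul]
    exact Subgroup.card_le_of_le inf_le_left
  | L :: Ls, ⟨hnest, horb, hrest⟩, S, hS => by
    classical
    simp only [List.head?_cons, Option.map_some, Option.getD_some] at hS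
    simp only [nestOK, force_eq, Bool.and_eq_true, Nat.blt_eq, List.all_eq_true] at hnest
    obtain ⟨p, hp, hcard, -⟩ := orbit_eq xgen act perm_ok (by decide) act_gen horb hnest.1
    let S' : Subgroup Cfsg.Spor.He := S ⊓ fixSub [L]
    have ih := card_mul_le_of_base hrest S' (fun u hu => by
      have hu' := hnest.2 u hu
      simp only [Bool.and_eq_true, List.all_eq_true, Nat.blt_eq, Nat.beq_eq,
        List.any_eq_true, and_assoc] at hu'
      obtain ⟨hlt, hfix, v, hv, hvu⟩ := hu'
      refine ⟨beqW_eq hvu ▸ hS v hv, fun M hM i hi => ?_⟩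
      rw [List.mem_singleton] at hM
      subst hM
      exact Fin.ext (by rw [act_word hlt, hi]; exact hfix))
    have hsplit : S' ⊓ fixSub Ls = S ⊓ fixSub (L :: Ls) := by
      ext a
      constructor
      · rintro ⟨⟨h1, h2⟩, h3⟩
        exact ⟨h1, fun M hM => (List.mem_cons.1 hM).elim (fun e => h2 M (List.mem_singleton.2 e)) (h3 M)⟩
      · rintro ⟨h1, h2⟩
        exact ⟨⟨h1, fun M hM => h2 M (by rw [List.mem_singleton.1 hM]; simp)⟩,
          fun M hM => h2 M (List.mem_cons_of_mem _ hM)⟩
    rw [hsplit] at ih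
    let O : Set (Fin 2058) := (fun a => act a p) ''
      (Subgroup.closure ((wordVal xgen) '' {u | u ∈ L.U}) : Set Cfsg.Spor.He)
    have hOc : Nat.card O = L.c := by rw [Nat.card_coe_set_eq]; exact hcard
    have hcl : Subgroup.closure ((wordVal xgen) '' {u | u ∈ L.U}) ≤ S := by
      rw [Subgroup.closure_le]
      rintro _ ⟨u, hu, rfl⟩
      exact hS u hu
    choose r hrS hrp using fun q : O => show ∃ a ∈ S, act a p = q.1 from by
      obtain ⟨a, ha, e⟩ := q.2
      exact ⟨a, hcl ha, e⟩
    have hinj : Function.Injective fun x : O × S' =>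
        (⟨r x.1 * x.2.1, mul_mem (hrS _) x.2.2.1⟩ : S) := by
      rintro ⟨q, a⟩ ⟨q', a'⟩ h
      have h' : r q * a.1 = r q' * a'.1 := congrArg Subtype.val h
      have hq : q = q' := by
        have ha : ∀ a : S', act a.1 p = p := fun a =>
          a.2.2 L (List.mem_singleton_self L) p hp
        have := congrArg (fun z => act z p) h'
        simp only [map_mul, Equiv.Perm.mul_apply, ha, hrp] at this
        exact Subtype.ext this
      subst hq
      exact Prod.ext rfl (Subtype.ext (mul_left_cancel h'))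
    have h1 := Nat.card_le_card_of_injective _ hinj
    rw [Nat.card_prod, hOc] at h1
    calc baseSize (L :: Ls) * Nat.card ↥(S ⊓ fixSub (L :: Ls))
        = L.c * (baseSize Ls * Nat.card ↥(S ⊓ fixSub (L :: Ls))) := by rw [baseSize, mul_assoc]
      _ ≤ L.c * Nat.card S' := Nat.mul_le_mul le_rfl ih
      _ ≤ Nat.card S := h1

theorem levels_pts : levels.map (fun L => L.O.getP 0 / B / B) = basePts := by decide +kernel

theorem levels_head : (levels.head?.map BaseLevel.U).getD [] = HeBase.words0 := rfl

theorem words0_lt : HeBase.words0.all letters = true := by decide +kernel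

/-- An element fixing the base is trivial. -/
theorem eq_one_of_fix {a : Cfsg.Spor.He}
    (h : ∀ i : Fin 2058, i.1 ∈ basePts → act a i = i) : a = 1 := by
  have h1 := card_mul_le_of_base base_ok ⊤ (fun _ _ => Subgroup.mem_top _)
  rw [baseSize_levels, Subgroup.card_top, card_He, top_inf_eq] at h1
  have h2 : Nat.card (fixSub levels) ≤ 1 := by omega
  have h3 : fixSub levels = ⊥ := Subgroup.eq_bot_of_card_le _ h2
  have h4 : a ∈ fixSub levels := fun L hL i hi => h i (by
    rw [← levels_pts]
    exact List.mem_map.2 ⟨L, hL, hi.symm⟩)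
  rw [h3] at h4
  exact h4

/-- Two elements agreeing on the base are equal. -/
theorem eq_of_base {a b : Cfsg.Spor.He}
    (h : ∀ i : Fin 2058, i.1 ∈ basePts → act a i = act b i) : a = b :=
  (inv_mul_eq_one.1 (eq_one_of_fix (a := b⁻¹ * a) fun i hi => by
    rw [map_mul, Equiv.Perm.mul_apply, h i hi, map_inv, Equiv.Perm.inv_def, Equiv.symm_apply_apply])).symm

/-- Two words with the same images of the base give the same element. -/
theorem eq_of_sameW {u v : List ℕ} (hu : ∀ g ∈ u, g < 7) (hv : ∀ g ∈ v, g < 7)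
    (h : sameW u v = true) : wordVal xgen u = wordVal xgen v := by
  simp only [sameW, List.all_eq_true, Nat.beq_eq] at h
  exact eq_of_base fun i hi => Fin.ext (by rw [act_word hu, act_word hv]; exact h i.1 hi)

theorem wordVal_append' (u v : List ℕ) :
    wordVal xgen (u ++ v) = wordVal xgen v * wordVal xgen u := wordVal_append ..

/-- The first point. -/
def pt0 : Fin 2058 := ⟨0, by norm_num⟩

/-- The stabiliser of the first point. -/
def stab : Subgroup Cfsg.Spor.He where
  carrier := {a | act a pt0 = pt0}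
  one_mem' := by simp
  mul_mem' {a b} (ha : act a pt0 = pt0) (hb : act b pt0 = pt0) := by
    show act (a * b) pt0 = pt0
    rw [map_mul, Equiv.Perm.mul_apply, hb, ha]
  inv_mem' {a} (ha : act a pt0 = pt0) := by
    show act a⁻¹ pt0 = pt0
    rw [map_inv, Equiv.Perm.inv_def, Equiv.symm_apply_eq, ha]

theorem exists_move (j : Fin 2058) : ∃ a : Cfsg.Spor.He, act a pt0 = j := by
  obtain ⟨a, -, ha⟩ := exists_smul_eq xgen act perm_ok act_gen
    tree_ok (by norm_num) j.1 j.2
  exact ⟨a, ha⟩

theorem card_stab_le : Nat.card stab ≤ 1958400 := by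
  choose r hr using exists_move
  have h := Nat.card_le_card_of_injective (fun x : Fin 2058 × stab => r x.1 * x.2.1) (by
    rintro ⟨i, a⟩ ⟨j, b⟩ h
    have ha : ∀ a : stab, act a.1 pt0 = pt0 := fun a => a.2
    have h' := congrArg (fun z => act z pt0) h
    simp only [map_mul, Equiv.Perm.mul_apply, ha, hr] at h'
    subst h'
    exact Prod.ext rfl (Subtype.ext (mul_left_cancel h)))
  rw [Nat.card_prod, Nat.card_eq_fintype_card, Fintype.card_fin, card_He] at h
  omega

/-- The words of the certificate generate the stabiliser. -/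
theorem stab_eq_closure :
    Subgroup.closure (wordVal xgen '' {u | u ∈ HeS44.subWords}) = stab := by
  set K := Subgroup.closure (wordVal xgen '' {u | u ∈ HeS44.subWords}) with hK
  have hx : ∀ g, xgen g * xgen g = 1 := numbering.gens_mul_self He.extra
  have hrel : ∀ r ∈ HeS44.cert.R0, wordVal xgen r = 1 := fun r hr =>
    numbering.wordVal_gens (by decide) (map_extra xgen hx) r
      ((show HeS44.cert.R0 = numbering.pairs ++ extra by decide +kernel) ▸ hr)
  obtain ⟨hidx, -⟩ := HeS44.cert_valid.index_eq hx (numbering.closure_gens He.extra) hrel act act_gen hK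
  have hidx' : K.index = 2058 := hidx
  have hle : K ≤ stab := by
    rw [hK, Subgroup.closure_le]
    rintro _ ⟨u, hu, rfl⟩
    have hsub : (HeS44.subWords.all fun u => letters u && Nat.beq (hwalk u 0) 0) = true := by
      decide +kernel
    simp only [List.all_eq_true, Bool.and_eq_true, Nat.beq_eq] at hsub
    exact Fin.ext (by rw [act_word (letters_lt (hsub u hu).1)]; exact (hsub u hu).2)
  have hcard : Nat.card K = 1958400 := by
    have := Subgroup.card_mul_index K
    rw [hidx', card_He] at this
    omega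
  exact Subgroup.eq_of_le_of_card_ge hle (hcard ▸ card_stab_le)

/-- A listed suborbit. -/
def inSub (O Pos : Tab) (x : ℕ) : Prop := Pos.getP x < 136 ∧ O.getP (Pos.getP x) / B / B = x

theorem inSub_stab {O Pos : Tab}
    (h : orbitOK HeS44.tabP O Pos 7 2058 136 HeS44.subWords 136 0 = true)
    {a : Cfsg.Spor.He} (ha : a ∈ stab) : ∀ i : Fin 2058, inSub O Pos i.1 → inSub O Pos (act a i).1 := by
  have hget := fun j (hj : j < 136) => orbitOK_get h j (Nat.zero_le _) (by omega)
  rw [← stab_eq_closure] at ha
  have ha' : a ∈ Submonoid.closure (wordVal xgen '' {u | u ∈ HeS44.subWords}) := by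
    rw [← Subgroup.closure_toSubmonoid_of_finite]
    exact ha
  clear ha
  induction ha' using Submonoid.closure_induction with
  | mem u hu =>
    obtain ⟨u, hu, rfl⟩ := hu
    intro i hi
    obtain ⟨hlt, h1, h2⟩ := (hget _ hi.1).2.2.2 u hu
    rw [hi.2] at h1 h2
    unfold inSub
    rw [act_word hlt, hwalk]
    exact ⟨h1, h2⟩
  | one => intro i hi; simpa using hi
  | mul b c _ _ hb hc =>
    intro i hi
    rw [map_mul, Equiv.Perm.mul_apply]
    exact hb _ (hc _ hi)

/-- The involution. -/
def invE : Cfsg.Spor.He := wordVal xgen [4]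

theorem invE_sq : invE * invE = 1 := by
  have h := numbering.gens_mul_self He.extra 4
  simpa [invE, wordVal, gen, eps, xgen] using h

theorem act_invE (i : Fin 2058) : (act invE i).1 = hwalk [4] i.1 :=
  act_word (by simp) i

theorem fixed_mem {i : ℕ} : ∀ {n s : ℕ}, fixedOK n s = true → s ≤ i → i < s + n →
    hwalk [4] i = i → i ∈ fixPts
  | 0, _, _, h1, h2, _ => by omega
  | n + 1, s, h, h1, h2, hi => by
    rw [fixedOK, force_eq, Bool.and_eq_true] at h
    rcases Nat.eq_or_lt_of_le h1 with rfl | h1
    · simp only [Bool.or_eq_true, Bool.not_eq_true', List.any_eq_true, Nat.beq_eq,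
        ← Bool.not_eq_true] at h
      rcases h.1 with h0 | ⟨y, hy, e⟩
      · exact absurd hi h0
      · exact e ▸ hy
    · exact fixed_mem h.2 (by omega) (by omega) hi

theorem suborbit_mem {O : Tab} {j : ℕ} : ∀ {n s : ℕ}, suborbitOK O n s = true → s ≤ j → j < s + n →
    hwalk [4] (O.getP j / B / B) = O.getP j / B / B → O.getP j / B / B ∈ ptsP
  | 0, _, _, h1, h2, _ => by omega
  | n + 1, s, h, h1, h2, hi => by
    rw [suborbitOK, force_eq, Bool.and_eq_true] at h
    rcases Nat.eq_or_lt_of_le h1 with rfl | h1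
    · simp only [force_eq, Bool.or_eq_true, Bool.not_eq_true', List.any_eq_true, Nat.beq_eq,
        ← Bool.not_eq_true] at h
      rcases h.1 with h0 | ⟨y, hy, e⟩
      · exact absurd hi h0
      · exact e ▸ hy
    · exact suborbit_mem h.2 (by omega) (by omega) hi

theorem mask_testBit : ∀ (l : List ℕ) (j : ℕ), (mask l).testBit j = decide (j ∈ l)
  | [], j => by simp [mask]
  | x :: l, j => by
    have e : Nat.shiftLeft 1 x = 2 ^ x := Nat.one_shiftLeft x
    show (Nat.shiftLeft 1 x ||| mask l).testBit j = _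
    rw [Nat.testBit_lor, mask_testBit l j, e, Nat.testBit_two_pow]
    by_cases h : x = j
    · subst h; simp
    · simp [h, Ne.symm h]

theorem edges_get {i : ℕ} : ∀ {n s : ℕ}, edgesOK n s = true → s ≤ i → i < s + n → i ≠ 0 →
    parTab.get i % 4096 < i ∧ parTab.get i / 4096 < 5 ∧
      (node (parTab.get i % 4096)).map (hwalk (hWords.getD (parTab.get i / 4096) [])) = node i
  | 0, _, _, h1, h2, _ => by omega
  | n + 1, s, h, h1, h2, hi => by
    rw [edgesOK, force_eq, Bool.and_eq_true] at h
    rcases Nat.eq_or_lt_of_le h1 with rfl | h1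
    · have h' := h.1
      simp only [force_eq, Bool.or_eq_true, Nat.beq_eq, hi, false_or, Bool.and_eq_true, Nat.blt_eq] at h'
      exact ⟨h'.1.1, h'.1.2, beqW_eq h'.2⟩
    · exact edges_get h.2 (by omega) (by omega) hi

theorem edges_ok (i : ℕ) (hi : i < 3825) (h0 : i ≠ 0) :
    parTab.get i % 4096 < i ∧ parTab.get i / 4096 < 5 ∧
      (node (parTab.get i % 4096)).map (hwalk (hWords.getD (parTab.get i / 4096) [])) = node i := by
  by_cases h1 : i < 1300
  · exact edges_get edges0 (by omega) (by omega) h0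
  · by_cases h2 : i < 2600
    · exact edges_get edges1 (by omega) (by omega) h0
    · exact edges_get edges2 (by omega) (by omega) h0

theorem sorted_get {i : ℕ} : ∀ {n s : ℕ}, sortedOK n s = true → s ≤ i → i < s + n →
    srtTab.get (posTab.get i) = i ∧ posTab.get i < 3825 ∧
      (i + 1 = 3825 ∨ mask (node (srtTab.get i)) < mask (node (srtTab.get (i + 1))))
  | 0, _, _, h1, h2 => by omega
  | n + 1, s, h, h1, h2 => by
    rw [sortedOK, force_eq, Bool.and_eq_true] at h
    rcases Nat.eq_or_lt_of_le h1 with rfl | h1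
    · have h' := h.1
      simp only [Bool.or_eq_true, Nat.beq_eq, Bool.and_eq_true, Nat.blt_eq] at h'
      exact ⟨h'.1.1, h'.1.2, h'.2⟩
    · exact sorted_get h.2 (by omega) (by omega)

theorem sorted_ok (i : ℕ) (hi : i < 3825) :
    srtTab.get (posTab.get i) = i ∧ posTab.get i < 3825 ∧
      (i + 1 = 3825 ∨ mask (node (srtTab.get i)) < mask (node (srtTab.get (i + 1)))) := by
  by_cases h1 : i < 1900
  · exact sorted_get sorted0 (by omega) (by omega)
  · exact sorted_get sorted1 (by omega) (by omega)

theorem node_inj {i j : ℕ} (hi : i < 3825) (hj : j < 3825)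
    (h : ∀ x, x ∈ node i ↔ x ∈ node j) : i = j := by
  have hm : mask (node i) = mask (node j) :=
    Nat.eq_of_testBit_eq fun k => by rw [mask_testBit, mask_testBit, decide_eq_decide]; exact h k
  have hmono : ∀ a b : ℕ, a < b → b < 3825 → mask (node (srtTab.get a)) < mask (node (srtTab.get b)) := by
    intro a b hab
    induction b with
    | zero => omega
    | succ b ih =>
      intro hb
      have h1 : mask (node (srtTab.get b)) < mask (node (srtTab.get (b + 1))) :=
        ((sorted_ok b (by omega)).2.2).resolve_left (by omega)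
      rcases Nat.lt_succ_iff_lt_or_eq.1 hab with h' | rfl
      · exact (ih h' (by omega)).trans h1
      · exact h1
  obtain ⟨ei, li, -⟩ := sorted_ok i hi
  obtain ⟨ej, lj, -⟩ := sorted_ok j hj
  rcases lt_trichotomy (posTab.get i) (posTab.get j) with hlt | he | hlt
  · have := hmono _ _ hlt lj
    rw [ei, ej, hm] at this
    exact absurd this (lt_irrefl _)
  · rw [← ei, he, ej]
  · have := hmono _ _ hlt li
    rw [ei, ej, hm] at this
    exact absurd this (lt_irrefl _)

theorem fix_facts : fixedOK 2058 0 = true ∧ node 0 = ptsP ∧ fixPts.length = 42 ∧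
    suborbitOK HeS44.orb0 136 0 = true ∧ suborbitOK HeS44.orb1 136 0 = true ∧
    ∀ p ∈ ptsP, hwalk [4] p = p ∧ (inSub HeS44.orb0 HeS44.pos0 p ∨ inSub HeS44.orb1 HeS44.pos1 p) := by
  have h := fixed_ok
  simp only [Bool.and_eq_true, Bool.or_eq_true, List.all_eq_true, Nat.beq_eq, Nat.blt_eq] at h
  obtain ⟨⟨⟨⟨⟨h1, h2⟩, h3⟩, h4⟩, h5⟩, h6⟩ := h
  exact ⟨h1, beqW_eq h2, h3, h4, h5, h6⟩

theorem hWords_ok (w : List ℕ) (hw : w ∈ hWords) : (∀ g ∈ w, g < 7) ∧ hwalk w 0 = 0 := by
  have h := (show (hWords.all fun w => letters w && Nat.beq (hwalk w 0) 0) = true by decide +kernel)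
  simp only [List.all_eq_true, Bool.and_eq_true, Nat.beq_eq] at h
  exact ⟨letters_lt (h w hw).1, (h w hw).2⟩

theorem exists_node_rep : ∀ i, i < 3825 → ∃ a ∈ stab, ∀ x : ℕ,
    x ∈ node i ↔ ∃ p : Fin 2058, p.1 ∈ ptsP ∧ (act a p).1 = x := by
  intro i
  induction i using Nat.strong_induction_on with
  | _ i ih =>
    intro hi
    by_cases h0 : i = 0
    · subst h0
      refine ⟨1, one_mem _, fun x => ?_⟩
      rw [fix_facts.2.1]
      constructor
      · intro hx
        have hlt : (ptsP.all fun p => Nat.blt p 2058) = true := by decide +kernel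
        simp only [List.all_eq_true, Nat.blt_eq] at hlt
        exact ⟨⟨x, hlt x hx⟩, hx, by simp⟩
      · rintro ⟨p, hp, rfl⟩
        simpa using hp
    · obtain ⟨h1, h2, h3⟩ := edges_ok i hi h0
      obtain ⟨a, ha, hx⟩ := ih _ h1 (by omega)
      set w := hWords.getD (parTab.get i / 4096) [] with hw
      have hmem : w ∈ hWords := by
        have hlen : hWords.length = 5 := rfl
        rw [hw, List.getD_eq_getElem _ _ (by omega)]
        exact List.getElem_mem _
      obtain ⟨hlt, hw0⟩ := hWords_ok w hmem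
      refine ⟨wordVal xgen w * a, mul_mem ?_ ha, fun x => ?_⟩
      · exact Fin.ext (by rw [act_word hlt]; exact hw0)
      · rw [← h3, List.mem_map]
        constructor
        · rintro ⟨y, hy, rfl⟩
          obtain ⟨p, hp, rfl⟩ := (hx y).1 hy
          exact ⟨p, hp, by rw [map_mul, Equiv.Perm.mul_apply, act_word hlt]⟩
        · rintro ⟨p, hp, rfl⟩
          exact ⟨_, (hx _).2 ⟨p, hp, rfl⟩, by rw [map_mul, Equiv.Perm.mul_apply, act_word hlt]⟩

/-- The elements of the point stabiliser that keep the sixteen points together. -/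
def stabP : Subgroup Cfsg.Spor.He where
  carrier := {a | a ∈ stab ∧ ∀ i : Fin 2058, i.1 ∈ ptsP ↔ (act a i).1 ∈ ptsP}
  one_mem' := ⟨one_mem _, fun i => by simp⟩
  mul_mem' {a b} ha hb := ⟨mul_mem ha.1 hb.1, fun i => by
    rw [map_mul, Equiv.Perm.mul_apply]
    exact (hb.2 i).trans (ha.2 _)⟩
  inv_mem' {a} ha := ⟨inv_mem ha.1, fun i => by
    have := ha.2 ((act a⁻¹) i)
    rw [← Equiv.Perm.mul_apply, ← map_mul, mul_inv_cancel, map_one, Equiv.Perm.one_apply] at this
    exact this.symm⟩

theorem card_stabP_le : Nat.card stabP ≤ 512 := by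
  choose r hr hrx using fun i : Fin 3825 => exists_node_rep i.1 i.2
  have h := Nat.card_le_card_of_injective
    (fun x : Fin 3825 × stabP => (⟨r x.1 * x.2.1, mul_mem (hr _) x.2.2.1⟩ : stab)) (by
    rintro ⟨i, a⟩ ⟨j, b⟩ h
    have h' : r i * a.1 = r j * b.1 := congrArg Subtype.val h
    have key : ∀ (i : Fin 3825) (a : stabP) (x : ℕ),
        x ∈ node i.1 ↔ ∃ p : Fin 2058, p.1 ∈ ptsP ∧ (act (r i * a.1) p).1 = x := by
      intro i a x
      rw [hrx i x]
      constructor
      · rintro ⟨p, hp, rfl⟩
        refine ⟨(act a.1).symm p, ?_, by rw [map_mul, Equiv.Perm.mul_apply, Equiv.apply_symm_apply]⟩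
        rw [a.2.2, Equiv.apply_symm_apply]
        exact hp
      · rintro ⟨p, hp, rfl⟩
        exact ⟨act a.1 p, (a.2.2 p).1 hp, by rw [map_mul, Equiv.Perm.mul_apply]⟩
    obtain rfl : i = j := Fin.ext (node_inj i.2 j.2 fun x => by rw [key i a x, key j b x, h'])
    exact Prod.ext rfl (Subtype.ext (mul_left_cancel h')))
  rw [Nat.card_prod, Nat.card_eq_fintype_card, Fintype.card_fin] at h
  have := h.trans card_stab_le
  omega

theorem act_comm {a : Cfsg.Spor.He} (ha : a * invE = invE * a) (i : Fin 2058)
    (hi : hwalk [4] i.1 = i.1) : hwalk [4] (act a i).1 = (act a i).1 := by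
  have h : act invE i = i := Fin.ext (by rw [act_invE]; exact hi)
  rw [← act_invE, ← Equiv.Perm.mul_apply, ← map_mul, ← ha, map_mul, Equiv.Perm.mul_apply, h]

theorem centralizer_inf_stab_le :
    Subgroup.centralizer ({invE} : Set Cfsg.Spor.He) ⊓ stab ≤ stabP := by
  have h1 : ∀ a, a * invE = invE * a → a ∈ stab → ∀ i : Fin 2058, i.1 ∈ ptsP → (act a i).1 ∈ ptsP := by
    intro a ha has i hi
    obtain ⟨hf, hs⟩ := fix_facts.2.2.2.2.2 i.1 hi
    have hfix := act_comm ha i hf
    rcases hs with hs | hs
    · have h := inSub_stab HeS44.orb0_ok has i hs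
      have := suborbit_mem fix_facts.2.2.2.1 (j := HeS44.pos0.getP (act a i).1) (Nat.zero_le _)
        (by have := h.1; omega) (by rw [h.2]; exact hfix)
      rwa [h.2] at this
    · have h := inSub_stab HeS44.orb1_ok has i hs
      have := suborbit_mem fix_facts.2.2.2.2.1 (j := HeS44.pos1.getP (act a i).1) (Nat.zero_le _)
        (by have := h.1; omega) (by rw [h.2]; exact hfix)
      rwa [h.2] at this
  rintro a ⟨ha, has⟩
  have ha' : a * invE = invE * a := Subgroup.mem_centralizer_singleton_iff.1 ha
  refine ⟨has, fun i => ⟨h1 a ha' has i, fun h => ?_⟩⟩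
  have := h1 a⁻¹ (Subgroup.mem_centralizer_singleton_iff.1 (inv_mem ha)) (inv_mem has) _ h
  rwa [← Equiv.Perm.mul_apply, ← map_mul, inv_mul_cancel, map_one, Equiv.Perm.one_apply] at this

/-- The centraliser of the involution has at most 21504 elements. -/
theorem card_centralizer_le :
    Nat.card (Subgroup.centralizer ({invE} : Set Cfsg.Spor.He)) ≤ 21504 := by
  classical
  set C := Subgroup.centralizer ({invE} : Set Cfsg.Spor.He) with hC
  have h0 : hwalk [4] 0 = 0 := by decide +kernel
  have hmem : ∀ a : C, (act a.1 pt0).1 ∈ fixPts := fun a =>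
    fixed_mem fix_facts.1 (Nat.zero_le _) (by have := (act a.1 pt0).2; omega)
      (act_comm (Subgroup.mem_centralizer_singleton_iff.1 a.2) pt0 h0)
  let q : C → {x // x ∈ fixPts.toFinset} := fun a => ⟨(act a.1 pt0).1, List.mem_toFinset.2 (hmem a)⟩
  let r : {x // x ∈ fixPts.toFinset} → C := fun x =>
    if h : ∃ a : C, q a = x then h.choose else 1
  have hqr : ∀ a : C, act (r (q a)).1 pt0 = act a.1 pt0 := fun a => by
    have h : ∃ b : C, q b = q a := ⟨a, rfl⟩
    simp only [r, dif_pos h]
    exact Fin.ext (congrArg Subtype.val h.choose_spec)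
  have hinj : Function.Injective (fun a : C => (q a, (⟨((r (q a))⁻¹ * a : C).1,
      ((r (q a))⁻¹ * a).2, by
        show act _ pt0 = pt0
        rw [Subgroup.coe_mul, map_mul, Equiv.Perm.mul_apply, ← hqr a, ← Equiv.Perm.mul_apply, ← map_mul,
          Subgroup.coe_inv, inv_mul_cancel, map_one, Equiv.Perm.one_apply]⟩ :
      ↥(C ⊓ stab)))) := by
    intro a b h
    have h1 : q a = q b := congrArg Prod.fst h
    have h2 := congrArg (fun z : _ × ↥(C ⊓ stab) => (z.2 : Cfsg.Spor.He)) h
    simp only [h1, Subgroup.coe_mul] at h2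
    exact Subtype.ext (mul_left_cancel h2)
  have hle : Nat.card ↥(C ⊓ stab) ≤ 512 :=
    (Subgroup.card_le_of_le centralizer_inf_stab_le).trans card_stabP_le
  have hfix : Nat.card {x // x ∈ fixPts.toFinset} ≤ 42 := by
    rw [Nat.card_eq_fintype_card, Fintype.card_coe]
    exact (List.toFinset_card_le _).trans fix_facts.2.2.1.le
  calc Nat.card C ≤ _ := Nat.card_le_card_of_injective _ hinj
    _ = Nat.card {x // x ∈ fixPts.toFinset} * Nat.card ↥(C ⊓ stab) := Nat.card_prod _ _
    _ ≤ 42 * 512 := Nat.mul_le_mul hfix hle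

end Cfsg.Lib.CosetEnum.HeInvol
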