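import Cfsg.Agent.Lib.CosetEnum.Groups.HeTransvection
import Cfsg.Agent.Lib.CosetEnum.HeMult.Check
import Cfsg.Agent.Lib.CosetEnum.Trans.ClassLifts
import Cfsg.Prelude.Def_KGroupFacts

/-!
# The Schur multiplier of the presented Held group is trivial
-/

set_option autoImplicit false
set_option maxRecDepth 100000
set_option maxHeartbeats 1000000

open scoped commutatorElement

namespace Cfsg.Lib.CosetEnum.HeMult

open HeInvol HePres Cfsg.Spor

theorem xgen_sq (g : ℕ) : xgen g * xgen g = 1 := numbering.gens_mul_self He.extra g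

theorem val_rev (w : List ℕ) : wordVal xgen w.reverse = (wordVal xgen w)⁻¹ :=
  wordVal_reverse xgen_sq w

theorem ws_lt (i : ℕ) : ∀ g ∈ wsData.getD i [], g < 7 := getD_lt ws_ok i

theorem cwAt_lt (i : ℕ) : ∀ g ∈ cwAt wsData i, g < 7 := by
  intro g hg
  simp only [cwAt, cwW, List.mem_append, List.mem_reverse, List.mem_cons] at hg
  rcases hg with hg | rfl | hg
  · exact ws_lt i g hg
  · norm_num
  · exact ws_lt i g hg

/-- The conjugate with an index. -/
def el (i : ℕ) : Cfsg.Spor.He := wordVal xgen (cwAt wsData i)

theorem el_conj (i : ℕ) : IsConj invE (el i) := by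
  refine isConj_iff.2 ⟨wordVal xgen (wsData.getD i []), ?_⟩
  rw [el, cwAt, cwW, ← List.singleton_append (x := 4), wordVal_append', wordVal_append', val_rev]
  rfl

theorem el_swap {a b c : ℕ}
    (h : sameW (cwAt wsData a ++ cwAt wsData b ++ cwAt wsData a) (cwAt wsData c) = true) :
    el a * el b * el a = el c := by
  have e := eq_of_sameW (fun g hg => by
    simp only [List.mem_append] at hg
    rcases hg with (hg | hg) | hg <;> exact cwAt_lt _ g hg) (cwAt_lt c) h
  rw [wordVal_append', wordVal_append', ← mul_assoc] at e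
  exact e

section

variable {Q : Type} [Group Q] {π : Q →* Cfsg.Spor.He} (L : ClassLifts π invE)

/-- The product of the lifts of a sequence. -/
def prodW (q : List ℕ) : Q := (q.map fun i => L.Y (el i)).prod

theorem prodW_append (a b : List ℕ) : prodW L (a ++ b) = prodW L a * prodW L b := by
  simp [prodW]

theorem step_prod {op : ℕ × ℕ × ℕ} {q q' : List ℕ} (h : stepW wsData op q = some q') :
    prodW L q' = prodW L q := by
  obtain ⟨i, c, d⟩ := op
  have hq : prodW L q = prodW L (q.take i) * prodW L (q.drop i) := by
    rw [← prodW_append, List.take_append_drop]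
  rcases c with _ | _ | c
  · simp only [stepW] at h
    split at h
    · rename_i a b t hd
      cases hab : Nat.beq a b <;> simp only [hab, cond_true, cond_false] at h
      · exact absurd h (by simp)
      · obtain rfl := Option.some.inj h
        rw [hq, hd, prodW_append, Nat.eq_of_beq_eq_true hab]
        congr 1
        simp only [prodW, List.map_cons, List.prod_cons]
        rw [← mul_assoc, L.sq _ (el_conj b), one_mul]
    · exact absurd h (by simp)
  · simp only [stepW] at h
    split at h
    · rename_i a b t hd
      cases hab : sameW (cwAt wsData a ++ cwAt wsData b ++ cwAt wsData a) (cwAt wsData d) <;>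
        simp only [hab, cond_true, cond_false] at h
      · exact absurd h (by simp)
      · obtain rfl := Option.some.inj h
        rw [hq, hd, prodW_append]
        congr 1
        simp only [prodW, List.map_cons, List.prod_cons]
        rw [← el_swap hab, ← L.conj _ _ (el_conj a) (el_conj b)]
        calc L.Y (el a) * L.Y (el b) * L.Y (el a) * (L.Y (el a) * (List.map (fun i => L.Y (el i)) t).prod)
            = L.Y (el a) * L.Y (el b) * (L.Y (el a) * L.Y (el a)) * (List.map (fun i => L.Y (el i)) t).prod := by group
          _ = _ := by rw [L.sq _ (el_conj a), mul_one, mul_assoc]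
    · exact absurd h (by simp)
  · simp only [stepW, Option.some.injEq] at h
    subst h
    rw [hq, prodW_append]
    congr 1
    simp only [prodW, List.map_cons, List.prod_cons]
    rw [← mul_assoc, L.sq _ (el_conj d), one_mul]

theorem run_prod : ∀ {ops : List (ℕ × ℕ × ℕ)} {q r : List ℕ}, runW wsData ops q r = true →
    prodW L q = prodW L r
  | [], q, r, h => by rw [beqW_eq (show beqW q r = true from h)]
  | op :: ops, q, r, h => by
    rw [runW] at h
    cases hs : stepW wsData op q with
    | none => rw [hs] at h; exact absurd h (by simp)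
    | some q' => rw [hs] at h; rw [← step_prod L hs, run_prod h]

theorem progs_prod : ∀ {R : List (List ℕ)} {Ps : List (List (ℕ × ℕ × ℕ))},
    progsW wsData exs relOdd R Ps = true → ∀ r ∈ R, prodW L (target exs relOdd r) = 1
  | [], _, _, r, hr => absurd hr (by simp)
  | r₀ :: R, [], h, r, hr => by simp [progsW] at h
  | r₀ :: R, P :: Ps, h, r, hr => by
    rw [progsW, Bool.and_eq_true] at h
    rcases List.mem_cons.1 hr with rfl | hr
    · rw [run_prod L h.1]; rfl
    · exact progs_prod h.2 r hr

theorem target_prod : ∀ r ∈ HeS44.cert.R0, prodW L (target exs relOdd r) = 1 := by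
  intro r hr
  have hsplit : HeS44.cert.R0 = HeS44.cert.R0.take 50 ++
      [HeS44.cert.R0.getD 50 [], HeS44.cert.R0.getD 51 [], HeS44.cert.R0.getD 52 []] := by decide +kernel
  rw [hsplit, List.mem_append] at hr
  rcases hr with hr | hr
  · exact progs_prod L small_ok r hr
  simp only [List.mem_cons, List.not_mem_nil, or_false] at hr
  rcases hr with rfl | rfl | rfl
  · rw [start0, run_prod L run0_0, run_prod L run0_1, run_prod L run0_2, run_prod L run0_3, run_prod L run0_4, run_prod L run0_5, run_prod L run0_6, run_prod L run0_7, run_prod L run0_8, run_prod L run0_9,  end0]; rfl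
  · rw [start1, run_prod L run1_0, run_prod L run1_1, run_prod L run1_2, run_prod L run1_3, run_prod L run1_4, run_prod L run1_5, run_prod L run1_6,  end1]; rfl
  · rw [start2, run_prod L run2_0, run_prod L run2_1, run_prod L run2_2, run_prod L run2_3, run_prod L run2_4, run_prod L run2_5, run_prod L run2_6, run_prod L run2_7,  end2]; rfl

/-- The lift of a generator. -/
def ygen (g : ℕ) : Q := prodW L (exs.getD g [])

theorem wordVal_ygen : ∀ {w : List ℕ}, (∀ g ∈ w, g < 7) → wordVal (ygen L) w = prodW L (seqW exs w)
  | [], _ => rfl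
  | g :: w, h => by
    have hg : g < 7 := h g (by simp)
    rw [wordVal, wordVal_ygen fun a ha => h a (by simp [ha]), gen, if_neg (by unfold eps; omega), ygen,
      ← prodW_append, seqW, seqW, List.reverse_cons, List.flatMap_append, List.flatMap_singleton]

theorem proj_prodW : ∀ q : List ℕ, π (prodW L q) = wordVal xgen (q.reverse.flatMap (cwAt wsData))
  | [] => map_one π
  | i :: q => by
    have ih := proj_prodW q
    simp only [prodW, List.map_cons, List.prod_cons, map_mul] at ih ⊢
    rw [ih, L.proj _ (el_conj i), List.reverse_cons, List.flatMap_append, List.flatMap_singleton,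
      wordVal_append']
    rfl

theorem proj_ygen (g : ℕ) (hg : g < 7) : π (ygen L g) = xgen g := by
  have h := exs_ok
  simp only [exsOK, Bool.and_eq_true, List.all_eq_true, List.mem_range] at h
  rw [ygen, proj_prodW, eq_of_sameW (fun a ha => ?_) (v := [g]) (by simpa using hg) (h.2 g hg)]
  · simp [wordVal, gen, if_neg (show g ≠ eps by unfold eps; omega)]
  · obtain ⟨i, -, ha⟩ := List.mem_flatMap.1 ha
    exact cwAt_lt i a ha

theorem proj_word {w : List ℕ} (h : ∀ g ∈ w, g < 7) : π (wordVal (ygen L) w) = wordVal xgen w := by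
  induction w with
  | nil => exact map_one π
  | cons g w ih =>
    have hg : g < 7 := h g (by simp)
    rw [wordVal, wordVal, map_mul, ih fun a ha => h a (by simp [ha]), gen, gen,
      if_neg (by unfold eps; omega), if_neg (by unfold eps; omega), proj_ygen L g hg]

theorem R0_lt : ∀ r ∈ HeS44.cert.R0, ∀ g ∈ r, g < 7 := by
  have h : HeS44.cert.R0.all letters = true := by decide +kernel
  simp only [List.all_eq_true] at h
  exact fun r hr => letters_lt (h r hr)

theorem R0_val : ∀ r ∈ HeS44.cert.R0, wordVal xgen r = 1 := fun r hr =>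
  numbering.wordVal_gens (show numbering.k ≤ eps by decide) (map_extra xgen xgen_sq) r
    ((show HeS44.cert.R0 = numbering.pairs ++ extra by decide +kernel) ▸ hr)

theorem relOdd_mem : relOdd ∈ HeS44.cert.R0 := by decide +kernel

include L in
/-- A section, twisted by the product over the first extra relator. -/
theorem exists_section (hπ : π.ker ≤ Subgroup.center Q) :
    ∃ s : Cfsg.Spor.He →* Q, π.comp s = MonoidHom.id Cfsg.Spor.He := by
  set F := prodW L (seqW exs relOdd)
  have hrl := R0_lt relOdd relOdd_mem
  have hF1 : π F = 1 := by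
    rw [show F = wordVal (ygen L) relOdd from (wordVal_ygen L hrl).symm, proj_word L hrl,
      R0_val _ relOdd_mem]
  have hF : F ∈ Subgroup.center Q := hπ hF1
  have hFF : F * F = 1 := by
    have h := target_prod L relOdd relOdd_mem
    rwa [target, if_neg (by decide +kernel), prodW_append] at h
  have hpar : ∀ n : ℕ, F ^ n = if Nat.beq (n % 2) 0 then 1 else F := by
    intro n
    rcases Nat.mod_two_eq_zero_or_one n with h | h
    · rw [h, if_pos (by decide), ← Nat.div_add_mod n 2, h, add_zero, pow_mul, pow_two, hFF, one_pow]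
    · rw [h, if_neg (by decide), ← Nat.div_add_mod n 2, h, pow_add, pow_mul, pow_two, hFF, one_pow,
        one_mul, pow_one]
  -- the twisted lifts
  let y : ℕ → Q := fun g => F ^ (exs.getD g []).length * ygen L g
  have hy : ∀ w : List ℕ, (∀ g ∈ w, g < 7) →
      wordVal y w = F ^ (seqW exs w).length * wordVal (ygen L) w := by
    intro w
    induction w with
    | nil => intro _; simp [wordVal, seqW]
    | cons g w ih =>
      intro hw
      have hg : g < 7 := hw g (by simp)
      rw [wordVal, wordVal, ih fun a ha => hw a (by simp [ha]), gen, gen, if_neg (by unfold eps; omega),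
        if_neg (by unfold eps; omega)]
      have hc := Subgroup.mem_center_iff.1 (pow_mem hF (exs.getD g []).length) (wordVal (ygen L) w)
      have hl : (seqW exs (g :: w)).length = (seqW exs w).length + (exs.getD g []).length := by
        simp [seqW, List.flatMap_append]
      rw [hl, pow_add]
      calc F ^ (seqW exs w).length * wordVal (ygen L) w * (F ^ (exs.getD g []).length * ygen L g)
          = F ^ (seqW exs w).length * (wordVal (ygen L) w * F ^ (exs.getD g []).length) * ygen L g := by
            group
        _ = _ := by rw [hc]; group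
  have hrel : ∀ r ∈ HeS44.cert.R0, wordVal y r = 1 := by
    intro r hr
    rw [hy r (R0_lt r hr), wordVal_ygen L (R0_lt r hr), hpar]
    have h := target_prod L r hr
    rw [target] at h
    split
    · rename_i he
      rw [if_pos he] at h
      rw [one_mul, h]
    · rename_i he
      rw [if_neg he, prodW_append] at h
      exact h
  have hysq : ∀ g, y g * y g = 1 := by
    intro g
    by_cases hg : g < 7
    · have hm : [g, g] ∈ HeS44.cert.R0 := by
        have h : ∀ a : Fin 7, [a.1, a.1] ∈ HeS44.cert.R0 := by decide +kernel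
        exact h ⟨g, hg⟩
      have h := hrel _ hm
      simpa [wordVal, gen, show g ≠ eps by unfold eps; omega] using h
    · have hlen : exs.length = 7 := rfl
      show F ^ (exs.getD g []).length * ygen L g * (F ^ (exs.getD g []).length * ygen L g) = 1
      rw [ygen, List.getD_eq_default _ _ (by omega)]
      simp [prodW]
  have hy' := numbering.lift_eq_one (show numbering.k ≤ eps by decide) y (map_extra y hysq)
    (fun r hr => hrel r ((show HeS44.cert.R0 = numbering.pairs ++ extra by decide +kernel) ▸ hr))
  refine ⟨PresentedGroup.toGroup hy', PresentedGroup.ext fun a => ?_⟩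
  show π (PresentedGroup.toGroup hy' (PresentedGroup.of a)) = PresentedGroup.of a
  rw [PresentedGroup.toGroup.of]
  show π (F ^ _ * ygen L (numbering.num a)) = _
  rw [map_mul, map_pow, hF1, one_pow, one_mul, proj_ygen L _ (numbering.num_lt a), xgen]
  exact numbering.gens_num He.extra a

end

/-- The centraliser of the involution is perfect. -/
theorem centralizer_perfect : Subgroup.centralizer ({invE} : Set Cfsg.Spor.He) ≤
    ⁅Subgroup.centralizer ({invE} : Set Cfsg.Spor.He), Subgroup.centralizer ({invE} : Set Cfsg.Spor.He)⁆ := by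
  classical
  set C := Subgroup.centralizer ({invE} : Set Cfsg.Spor.He)
  have hl := letters_ok
  simp only [Bool.and_eq_true] at hl
  obtain ⟨⟨⟨⟨⟨⟨⟨hwQ, hwL⟩, -⟩, -⟩, -⟩, -⟩, hq0⟩, hl0⟩ := hl
  have hm := mats_ok
  simp only [Bool.and_eq_true, Nat.beq_eq] at hm
  obtain ⟨⟨hmQ, hmL⟩, -⟩ := hm
  have hpar := par_ok
  rw [Bool.and_eq_true] at hpar
  have hstQ : ∀ g < 6, stepOK' wordQ matQ stepQ 6 128 g = true := fun g hg => by
    interval_cases g
    exacts [stepQ0, stepQ1, stepQ2, stepQ3, stepQ4, stepQ5]
  have hstL : ∀ g < 2, stepOK' wordL matL stepL 2 168 g = true := fun g hg => by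
    interval_cases g
    exacts [stepL0, stepL1]
  obtain ⟨hQ1, hQs, hQp⟩ := family (n := 128) (by norm_num) hwQ hstQ hpar.1 hq0
    (by rw [hmQ]; exact mat_one) det_gens.1
  obtain ⟨hL1, hLs, hLp⟩ := family (n := 168) (by norm_num) hwL hstL hpar.2 hl0
    (by rw [hmL]; exact mat_one) det_gens.2
  have hkey := of_nodup (u := fun i => keyOf (wordQ.getD i [])) (v := fun i => keyOf (wordL.getD i []))
    (nodupB_iff keys_ok) (key_congr (getD_lt hwL 0) (getD_lt hwQ 0) (by
      rw [eq_of_sameW (getD_lt hwL 0) (by simp) hl0, eq_of_sameW (getD_lt hwQ 0) (by simp) hq0]))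
  let snd := MonoidHom.snd (Matrix.SpecialLinearGroup (Fin 5) (ZMod 2)) Cfsg.Spor.He
  set SQ := Subgroup.closure {p | ∃ g < 6, p = pairOf wordQ matQ (g + 1)}
  set SL := Subgroup.closure {p | ∃ g < 2, p = pairOf wordL matL (g + 1)}
  have hlen : gensC.length = 8 := by decide +kernel
  have hcomm := comm_ok
  simp only [Bool.and_eq_true, List.all_eq_true] at hcomm
  have hgs : ∀ w ∈ gensC, (∀ a ∈ w, a < 7) ∧ wordVal xgen w ∈ C := by
    have h : gensC.all (fun w => letters w && sameW (w ++ [4]) (4 :: w)) = true := by decide +kernel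
    simp only [List.all_eq_true, Bool.and_eq_true] at h
    intro w hw
    have hlt := letters_lt (h w hw).1
    refine ⟨hlt, Subgroup.mem_centralizer_singleton_iff.2 ?_⟩
    show wordVal xgen w * wordVal xgen [4] = wordVal xgen [4] * wordVal xgen w
    rw [← wordVal_append', ← wordVal_append']
    refine (eq_of_sameW (fun a ha => ?_) (fun a ha => ?_) (h w hw).2).symm
    · rcases List.mem_append.1 ha with ha | ha
      · exact hlt a ha
      · simp only [List.mem_singleton] at ha; omega
    · rcases List.mem_cons.1 ha with ha | ha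
      · omega
      · exact hlt a ha
  have hmem : ∀ i, (∀ a ∈ gensC.getD i [], a < 7) ∧ wordVal xgen (gensC.getD i []) ∈ C := fun i => by
    rcases Nat.lt_or_ge i gensC.length with h | h
    · rw [List.getD_eq_getElem _ _ h]; exact hgs _ (List.getElem_mem _)
    · rw [List.getD_eq_default _ _ h]; exact ⟨by simp, one_mem _⟩
  -- the generators are products of commutators
  have hgen : ∀ i < 8, wordVal xgen (gensC.getD i []) ∈ ⁅C, C⁆ := by
    have hc : ∀ u : List ℕ, (∀ a ∈ centW gensC u, a < 7) ∧ wordVal xgen (centW gensC u) ∈ C := by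
      intro u
      induction u with
      | nil => exact ⟨by simp [centW], one_mem _⟩
      | cons j u ih =>
        rw [centW, List.flatMap_cons, wordVal_append']
        refine ⟨fun a ha => ?_, mul_mem ih.2 (hmem j).2⟩
        rcases List.mem_append.1 ha with ha | ha
        · exact (hmem j).1 a ha
        · exact ih.1 a ha
    have hcs : ∀ cs : List (List ℕ × List ℕ),
        (∀ a ∈ cs.flatMap (fun p => commW (centW gensC p.1) (centW gensC p.2)), a < 7) ∧
          wordVal xgen (cs.flatMap fun p => commW (centW gensC p.1) (centW gensC p.2)) ∈ ⁅C, C⁆ := by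
      intro cs
      induction cs with
      | nil => exact ⟨by simp, one_mem _⟩
      | cons p cs ih =>
        rw [List.flatMap_cons, wordVal_append']
        refine ⟨fun a ha => ?_, mul_mem ih.2 ?_⟩
        · rcases List.mem_append.1 ha with ha | ha
          · simp only [commW, List.mem_append, List.mem_reverse] at ha
            rcases ha with ((ha | ha) | ha) | ha
            exacts [(hc _).1 a ha, (hc _).1 a ha, (hc _).1 a ha, (hc _).1 a ha]
          · exact ih.1 a ha
        · rw [commW, wordVal_append', wordVal_append', wordVal_append', val_rev, val_rev]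
          have := Subgroup.commutator_mem_commutator (hc p.1).2 (hc p.2).2
          rwa [commutatorElement_def, mul_assoc, mul_assoc] at this
    have h := comms_ok
    simp only [commsOK, List.all_eq_true, List.mem_range, hlen] at h
    intro i hi
    rw [← eq_of_sameW (hcs _).1 (hmem i).1 (h i hi)]
    exact (hcs _).2
  -- the generators generate
  have hK : SQ.map snd ⊔ SL.map snd ≤ ⁅C, C⁆ := by
    refine sup_le ?_ ?_ <;> rw [MonoidHom.map_closure, Subgroup.closure_le]
    · rintro _ ⟨_, ⟨g, hg, rfl⟩, rfl⟩
      have e : gensC.getD g [] = wordQ.getD (g + 1) [] := by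
        interval_cases g <;> decide +kernel
      show wordVal xgen (wordQ.getD (g + 1) []) ∈ ⁅C, C⁆
      rw [← e]
      exact hgen g (by omega)
    · rintro _ ⟨_, ⟨g, hg, rfl⟩, rfl⟩
      have e : gensC.getD (g + 6) [] = wordL.getD (g + 1) [] := by
        interval_cases g <;> decide +kernel
      show wordVal xgen (wordL.getD (g + 1) []) ∈ ⁅C, C⁆
      rw [← e]
      exact hgen (g + 6) (by omega)
  have hQi := range_mem_closure_of_parents _ _ hQp
  have hLi := range_mem_closure_of_parents _ _ hLp
  have hinj : Function.Injective fun x : Fin 128 × Fin 168 =>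
      (pairOf wordQ matQ x.1.1).2 * (pairOf wordL matL x.2.1).2 :=
    injective_mul_of_disjoint (SQ.map snd) (SL.map snd)
      (fun i : Fin 128 => (pairOf wordQ matQ i.1).2) (fun j : Fin 168 => (pairOf wordL matL j.1).2)
      (fun i => ⟨_, hQi i, rfl⟩) (fun j => ⟨_, hLi j, rfl⟩)
      (fun i j h => Fin.ext (hkey.1 i.1 i.2 j.1 j.2 (key_congr (getD_lt hwQ _) (getD_lt hwQ _) h)))
      (fun i j h => Fin.ext (hkey.2.1 i.1 i.2 j.1 j.2 (key_congr (getD_lt hwL _) (getD_lt hwL _) h)))
      (by
        rintro _ ⟨q, hq, rfl⟩ ⟨l, hl, he⟩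
        obtain ⟨i, rfl⟩ := closure_subset_range_of_steps _ _ hQ1 hQs q hq
        obtain ⟨j, rfl⟩ := closure_subset_range_of_steps _ _ hL1 hLs l hl
        have h0 := hkey.2.2 i.1 i.2 j.1 j.2 (key_congr (getD_lt hwQ _) (getD_lt hwL _) he.symm)
        show wordVal xgen _ = 1
        rw [h0, eq_of_sameW (getD_lt hwQ 0) (by simp) hq0]
        rfl)
  have hle : ⁅C, C⁆ ≤ C := Subgroup.commutator_le.2 fun a ha b hb =>
    mul_mem (mul_mem (mul_mem ha hb) (inv_mem ha)) (inv_mem hb)
  refine (Subgroup.eq_of_le_of_card_ge (hK.trans hle) ?_).symm.le.trans hK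
  have h1 := Nat.card_le_card_of_injective
    (fun x : Fin 128 × Fin 168 => (⟨_, mul_mem (Subgroup.mem_sup_left ⟨_, hQi x.1, rfl⟩)
      (Subgroup.mem_sup_right ⟨_, hLi x.2, rfl⟩)⟩ : ↥(SQ.map snd ⊔ SL.map snd)))
    (fun a b h => hinj (congrArg Subtype.val h))
  rw [Nat.card_prod, Nat.card_eq_fintype_card, Nat.card_eq_fintype_card, Fintype.card_fin,
    Fintype.card_fin] at h1
  exact card_centralizer_le.trans h1

theorem stem_ker {E : Type} [Group E] {σ : E →* Cfsg.Spor.He} (hσ : Cfsg.IsStemExtension σ) :
    σ.ker = ⊥ := by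
  obtain ⟨hsurj, hker, hcomm⟩ := hσ
  obtain ⟨Q, _, π, ι, hπ, hι, hcomp, ⟨L⟩⟩ := exists_classLifts hsurj hker invE_sq centralizer_perfect
  obtain ⟨s, hs⟩ := exists_section L hπ
  exact stem_ker_eq_bot_of_section hcomm hπ hι hcomp s hs

/-- The Schur multiplier of the Held group is trivial. -/
theorem multiplier : Cfsg.HasCyclicSchurMultiplier Cfsg.Spor.He 1 := by
  refine ⟨⟨Cfsg.Spor.He, inferInstance, finite_He, MonoidHom.id _, ⟨Function.surjective_id, ?_, ?_⟩,
    ?_⟩, fun E _ _ σ hσ => ⟨1, ?_⟩⟩
  · rw [show (MonoidHom.id Cfsg.Spor.He).ker = ⊥ from MonoidHom.ker_id]; exact bot_le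
  · rw [show (MonoidHom.id Cfsg.Spor.He).ker = ⊥ from MonoidHom.ker_id]; exact bot_le
  · have : Subsingleton (MonoidHom.id Cfsg.Spor.He).ker := by
      rw [show (MonoidHom.id Cfsg.Spor.He).ker = ⊥ from MonoidHom.ker_id]; infer_instance
    exact ⟨{ toFun := fun _ => 1, invFun := fun _ => 1
             left_inv := fun _ => Subsingleton.elim _ _
             right_inv := fun _ => Subsingleton.elim _ _
             map_mul' := fun _ _ => Subsingleton.elim _ _ }⟩
  · intro e
    refine ⟨1, Subtype.ext ?_⟩
    have h : (e : E) ∈ (⊥ : Subgroup E) := (stem_ker hσ).le e.2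
    rw [Subgroup.mem_bot] at h
    exact h.symm

end Cfsg.Lib.CosetEnum.HeMult
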