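import Cfsg.Agent.Lib.CosetEnum.Groups.HeInvol
import Cfsg.Agent.Lib.CosetEnum.HeInvol.CheckOuter
import Cfsg.Prelude.Def_KGroupFacts

/-!
# The outer automorphism group of the Held group has order two

An automorphism can be moved by an inner one so that it fixes an element `h` of order eight in the
normaliser of a subgroup of order seventeen and sends the generator `u` of that subgroup to `u` or `u^3`;
the image of a third generator then lies in the centraliser of `h^2`, which has 128 elements.
-/

set_option autoImplicit false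
set_option maxRecDepth 100000
set_option maxHeartbeats 1000000
set_option linter.style.haveILetI false

namespace Cfsg.Lib.CosetEnum.HeInvol

open Cfsg.Spor Cfsg.Lib.CosetEnum.HePres

/-- The value of a word. -/
def val (w : List ℕ) : Cfsg.Spor.He := wordVal xgen w

theorem val_nil : val [] = 1 := rfl

theorem val_append (u v : List ℕ) : val (u ++ v) = val v * val u := wordVal_append' u v

theorem val_reverse : ∀ w : List ℕ, val w.reverse = (val w)⁻¹
  | [] => by simp [val, wordVal]
  | g :: w => by
    have hg : gen xgen g * gen xgen g = 1 := by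
      unfold gen
      split
      · exact one_mul 1
      · exact numbering.gens_mul_self He.extra g
    rw [List.reverse_cons, val_append, val_reverse w]
    show val [g] * _ = (wordVal xgen w * gen xgen g)⁻¹
    rw [mul_inv_rev, inv_eq_of_mul_eq_one_left hg]
    simp [val, wordVal]

theorem val_replicate (w : List ℕ) : ∀ n : ℕ, val (List.replicate n w).flatten = val w ^ n
  | 0 => by simp [val, wordVal]
  | n + 1 => by rw [List.replicate_succ, List.flatten_cons, val_append, val_replicate w n, pow_succ]

theorem map_flatMap (α : Cfsg.Spor.He →* Cfsg.Spor.He) (V V' : ℕ → List ℕ) :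
    ∀ w : List ℕ, (∀ l ∈ w, α (val (V l)) = val (V' l)) → α (val (w.flatMap V)) = val (w.flatMap V')
  | [], _ => by simp [val_nil]
  | l :: w, h => by
    rw [List.flatMap_cons, List.flatMap_cons, val_append, val_append, map_mul,
      map_flatMap α V V' w (fun a ha => h a (List.mem_cons_of_mem _ ha)), h l (List.mem_cons_self ..)]

theorem val_congr {a b : List ℕ} (ha : letters a = true) (hb : letters b = true) (h : sameW a b = true) :
    val a = val b := eq_of_sameW (letters_lt ha) (letters_lt hb) h

theorem val_ne {a b : List ℕ} (ha : letters a = true) (hb : letters b = true) (h : sameW a b = false) :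
    val a ≠ val b := fun e => by
  have : sameW a b = true := by
    simp only [sameW, List.all_eq_true, Nat.beq_eq]
    intro p hp
    have hlt : p < 2058 := by
      simp only [basePts, List.mem_cons, List.not_mem_nil, or_false] at hp
      omega
    rw [← act_word (letters_lt ha) ⟨p, hlt⟩, ← act_word (letters_lt hb) ⟨p, hlt⟩]
    show (act (val a) _).1 = (act (val b) _).1
    rw [e]
  simp [this] at h

theorem letters_append {a b : List ℕ} (ha : letters a = true) (hb : letters b = true) :
    letters (a ++ b) = true := by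
  simp only [letters, List.all_append, Bool.and_eq_true]
  exact ⟨ha, hb⟩

theorem letters_reverse {a : List ℕ} (ha : letters a = true) : letters a.reverse = true := by
  simpa [letters] using ha

theorem letters_flatMap {V : ℕ → List ℕ} (hV : ∀ l, letters (V l) = true) :
    ∀ w : List ℕ, letters (w.flatMap V) = true
  | [] => rfl
  | l :: w => by rw [List.flatMap_cons]; exact letters_append (hV l) (letters_flatMap hV w)

theorem letters_replicate {w : List ℕ} (hw : letters w = true) :
    ∀ n : ℕ, letters (List.replicate n w).flatten = true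
  | 0 => rfl
  | n + 1 => by rw [List.replicate_succ, List.flatten_cons]; exact letters_append hw (letters_replicate hw n)

theorem letters_getD {ws : List (List ℕ)} (h : ws.all letters = true) (i : ℕ) :
    letters (ws.getD i []) = true := by
  rcases Nat.lt_or_ge i ws.length with hi | hi
  · rw [List.getD_eq_getElem _ _ hi]
    simp only [List.all_eq_true] at h
    exact h _ (List.getElem_mem _)
  · rw [List.getD_eq_default _ _ hi]
    rfl

theorem letters_sub {U H Y : List ℕ} (hU : letters U = true) (hH : letters H = true)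
    (hY : letters Y = true) (w : List ℕ) : letters (subW U H Y w) = true := by
  refine letters_flatMap (fun l => ?_) w
  match l with
  | 0 => exact hU
  | 1 => exact hH
  | 2 => exact hY
  | 3 => exact letters_reverse hU
  | _ + 4 => exact letters_reverse hH

/-- The element of order seventeen. -/
def elU : Cfsg.Spor.He := val wordU

/-- The element of order eight. -/
def elH : Cfsg.Spor.He := val wordH

/-- The third generator. -/
def elX : Cfsg.Spor.He := val wordX

/-- The facts on the three elements. -/
structure Elems : Prop where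
  lU : letters wordU = true
  lH : letters wordH = true
  lX : letters wordX = true
  lC : candWords.all letters = true
  lJ : conjWords.all letters = true
  lO : outImages.all letters = true
  nC : candWords.length = 128
  nJ : conjWords.length = 168
  gens : ∀ g < 7, val (subW wordU wordH wordX (genWords.getD g [])) = xgen g
  pow : elU ^ 17 = 1
  ne : elU ≠ 1
  conj : elH * elU * elH⁻¹ = elU ^ 2
  h2 : val wordH2 = elH ^ 2
  hS : val wordS = elH ^ 4
  hT : val wordT * invE * (val wordT)⁻¹ = elH ^ 4
  lS : letters wordS = true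
  l2 : letters wordH2 = true
  xcomm : elX * elH ^ 2 = elH ^ 2 * elX
  xsq : elX * elX = 1
  tests : ∀ j < 6, val (testPow wordU wordX j) = 1

theorem elems : Elems := by
  have h := elems_ok
  simp only [elemsOK, Bool.and_eq_true, Bool.not_eq_true', List.all_eq_true, List.mem_range,
    Nat.beq_eq] at h
  obtain ⟨⟨⟨⟨⟨⟨⟨⟨⟨⟨⟨⟨⟨⟨⟨⟨⟨⟨⟨⟨⟨⟨h1, h2⟩, h3⟩, h4⟩, h5⟩, h6⟩, h7⟩, h8⟩, h9⟩, h10⟩, h11⟩, h12⟩, h13⟩, h14⟩, h15⟩, h16⟩, h17⟩, h18⟩, h19⟩, h20⟩, h21⟩, h22⟩, h23⟩ := h
  have h7' : candWords.all letters = true := List.all_eq_true.2 h7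
  have h8' : conjWords.all letters = true := List.all_eq_true.2 h8
  have h9' : outImages.all letters = true := List.all_eq_true.2 h9
  have hS : val wordS = elH ^ 4 := by
    rw [← val_congr (letters_replicate h2 4) h4 h18]
    exact val_replicate wordH 4
  have hH2 : val wordH2 = elH ^ 2 := by
    rw [← val_congr (letters_append h2 h2) h5 h19, val_append, pow_two]
    rfl
  refine ⟨h1, h2, h3, h7', h8', h9', h12, h13, ?_, ?_, ?_, ?_, hH2, hS, ?_, h4, h5, ?_, ?_, ?_⟩
  · intro g hg
    rw [val_congr (letters_sub h1 h2 h3 _) (by simp [letters, Nat.blt_eq]; omega) (h14 g hg)]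
    show wordVal xgen [g] = xgen g
    rw [wordVal, wordVal, one_mul, gen, if_neg (by unfold eps; omega)]
  · rw [elU, ← val_replicate, val_congr (letters_replicate h1 17) rfl h15, val_nil]
  · exact fun e => val_ne h1 rfl h16 (by rw [val_nil]; exact e)
  · have := val_congr (letters_append (letters_append (letters_reverse h2) h1) h2) (letters_append h1 h1) h17
    rw [val_append, val_append, val_append, val_reverse, ← mul_assoc] at this
    rw [pow_two]
    exact this
  · have := val_congr (letters_append (letters_append (letters_reverse h6) (by rfl)) h6) h4 h20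
    rw [val_append, val_append, val_reverse, hS, ← mul_assoc] at this
    exact this
  · have := val_congr (letters_append h3 h5) (letters_append h5 h3) h21
    rw [val_append, val_append, hH2] at this
    exact this.symm
  · have := val_congr (letters_append h3 h3) rfl h22
    rw [val_append, val_nil] at this
    exact this
  · intro j hj
    have e := h23 j (by interval_cases j <;> simp)
    unfold testPow at e ⊢
    rw [val_congr (letters_replicate (letters_sub h1 h2 h3 _) _) rfl e, val_nil]

theorem orderOf_elU : orderOf elU = 17 := by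
  haveI : Fact (Nat.Prime 17) := ⟨by norm_num⟩
  exact orderOf_eq_prime elems.pow elems.ne

theorem inOrb_stab {O Pos : Tab} {c : ℕ}
    (h : orbitOK HeS44.tabP O Pos 7 2058 c HeS44.subWords c 0 = true)
    {a : Cfsg.Spor.He} (ha : a ∈ stab) :
    ∀ i : Fin 2058, memb O Pos c i.1 = true → memb O Pos c (act a i).1 = true := by
  have hget := fun j (hj : j < c) => orbitOK_get h j (Nat.zero_le _) (by omega)
  rw [← stab_eq_closure] at ha
  have ha' : a ∈ Submonoid.closure (wordVal xgen '' {u | u ∈ HeS44.subWords}) := by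
    rw [← Subgroup.closure_toSubmonoid_of_finite]
    exact ha
  clear ha
  induction ha' using Submonoid.closure_induction with
  | mem u hu =>
    obtain ⟨u, hu, rfl⟩ := hu
    intro i hi
    simp only [memb, Bool.and_eq_true, Nat.blt_eq, Nat.beq_eq] at hi ⊢
    obtain ⟨hlt, h1, h2⟩ := (hget _ hi.1).2.2.2 u hu
    rw [hi.2] at h1 h2
    rw [act_word hlt, hwalk]
    exact ⟨h1, h2⟩
  | one => intro i hi; simpa using hi
  | mul b c' _ _ hb hc =>
    intro i hi
    rw [map_mul, Equiv.Perm.mul_apply]
    exact hb _ (hc _ hi)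

theorem memb_stab_eq {O Pos : Tab} {c : ℕ}
    (h : orbitOK HeS44.tabP O Pos 7 2058 c HeS44.subWords c 0 = true)
    {a : Cfsg.Spor.He} (ha : a ∈ stab) (i : Fin 2058) :
    memb O Pos c (act a i).1 = memb O Pos c i.1 := by
  rw [Bool.eq_iff_iff]
  refine ⟨fun h1 => ?_, inOrb_stab h ha i⟩
  have := inOrb_stab h (inv_mem ha) (act a i) h1
  rwa [← Equiv.Perm.mul_apply, ← map_mul, inv_mul_cancel, map_one, Equiv.Perm.one_apply] at this

theorem labOf_stab {a : Cfsg.Spor.He} (ha : a ∈ stab) (i : Fin 2058) :
    labOf (act a i).1 = labOf i.1 := by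
  have h0 : Nat.beq (act a i).1 0 = Nat.beq i.1 0 := by
    rw [Bool.eq_iff_iff, Nat.beq_eq, Nat.beq_eq]
    have hp : act a pt0 = pt0 := ha
    constructor
    · intro h
      have : act a i = act a pt0 := by rw [hp]; exact Fin.ext h
      exact congrArg Fin.val ((act a).injective this)
    · intro h
      rw [show i = pt0 from Fin.ext h, hp]
      rfl
  unfold labOf
  rw [h0, memb_stab_eq HeS44.orb0_ok ha, memb_stab_eq HeS44.orb1_ok ha, memb_stab_eq HeS44.orb2_ok ha]

theorem rep_spec {x : ℕ} (hx : x ∈ repPts) :
    letters (findW repPts repWords x) = true ∧ hwalk (findW repPts repWords x) x = 0 := by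
  have h := reps_ok
  simp only [repsOK, List.all_eq_true, Bool.and_eq_true, Nat.beq_eq] at h
  exact h x hx

/-- The relation of two points is invariant. -/
theorem relOf_act (a : Cfsg.Spor.He) (x y : Fin 2058) (hx : x.1 ∈ repPts)
    (hx' : (act a x).1 ∈ repPts) : relOf (act a x).1 (act a y).1 = relOf x.1 y.1 := by
  obtain ⟨l1, w1⟩ := rep_spec hx
  obtain ⟨l2, w2⟩ := rep_spec hx'
  set r := val (findW repPts repWords x.1) with hr
  set r' := val (findW repPts repWords (act a x).1) with hr'
  have e1 : ∀ z : Fin 2058, (act r z).1 = hwalk (findW repPts repWords x.1) z.1 := fun z =>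
    act_word (letters_lt l1) z
  have e2 : ∀ z : Fin 2058, (act r' z).1 = hwalk (findW repPts repWords (act a x).1) z.1 := fun z =>
    act_word (letters_lt l2) z
  have hb : r' * a * r⁻¹ ∈ stab := by
    show act _ pt0 = pt0
    have h1 : act r x = pt0 := Fin.ext ((e1 x).trans w1)
    have h2 : act r' (act a x) = pt0 := Fin.ext ((e2 (act a x)).trans w2)
    rw [map_mul, map_mul, map_inv, Equiv.Perm.mul_apply, Equiv.Perm.mul_apply, Equiv.Perm.inv_def,
      show (act r).symm pt0 = x by rw [Equiv.symm_apply_eq, h1], h2]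
  unfold relOf
  rw [← e1 y, ← e2 (act a y), ← labOf_stab hb (act r y)]
  have : act (r' * a * r⁻¹) (act r y) = act r' (act a y) := by
    simp [map_mul, map_inv]
  rw [this]

/-- The cycle facts. -/
theorem cycle_facts :
    (∀ j < 8, (∀ i < 16, hwalk wordU (cycPt j i) = cycPt j (i + 1)) ∧ cycPt j 0 ∈ repPts ∧ cycPt j 0 < 2058) ∧
    (∀ k < 136, ∃ j < 8, ∃ i < 17, cycPt j i = HeS44.orb0.getP k / B / B) ∧
    memb HeS44.orb0 HeS44.pos0 136 (cycPt 0 0) = true ∧
    (∀ j < 8, j = 0 ∨ (cycWit.getD j 0 < 17 ∧
      relOf (cycPt 0 0) (cycPt 0 (cycWit.getD j 0)) ≠ relOf (cycPt j 0) (cycPt j (cycWit.getD j 0)))) ∧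
    ∀ x ∈ refPts, x < 2058 ∧ x ∈ repPts := by
  have h := cycles_ok
  simp only [cyclesOK, Bool.and_eq_true, Bool.or_eq_true, List.all_eq_true, List.any_eq_true,
    List.mem_range, Nat.beq_eq, Nat.blt_eq, Bool.not_eq_true', ← Bool.not_eq_true] at h
  obtain ⟨⟨⟨⟨h1, h2⟩, h3⟩, h4⟩, h5⟩ := h
  exact ⟨fun j hj => ⟨(h1 j hj).1.1, (by obtain ⟨y, hy, e⟩ := (h1 j hj).1.2; exact e ▸ hy), (h1 j hj).2⟩, h2, h3,
    h4, fun x hx => ⟨(h5 x hx).1, by obtain ⟨y, hy, e⟩ := (h5 x hx).2; exact e ▸ hy⟩⟩

theorem act_pow_cyc {j : ℕ} (hj : j < 8) : ∀ i < 17,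
    (act (elU ^ i) ⟨cycPt j 0, (cycle_facts.1 j hj).2.2⟩).1 = cycPt j i
  | 0, _ => by simp
  | i + 1, hi => by
    rw [pow_succ', map_mul, Equiv.Perm.mul_apply, ← (cycle_facts.1 j hj).1 i (by omega),
      ← act_pow_cyc hj i (by omega)]
    exact act_word (letters_lt elems.lU) _

theorem onlyFixed_get {i : ℕ} : ∀ {n s : ℕ}, onlyFixed n s = true → s ≤ i → i < s + n →
    hwalk wordU i = i → i = 0
  | 0, _, _, h1, h2, _ => by omega
  | n + 1, s, h, h1, h2, hi => by
    rw [onlyFixed, force_eq, Bool.and_eq_true] at h
    rcases Nat.eq_or_lt_of_le h1 with rfl | h1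
    · have h' := h.1
      simp only [Bool.or_eq_true, Nat.beq_eq, Bool.not_eq_true', ← Bool.not_eq_true, hi,
        not_true_eq_false, or_false] at h'
      exact h'
    · exact onlyFixed_get h.2 (by omega) (by omega) hi

theorem sep_get {T : Tab} {z i : ℕ} : ∀ {n s : ℕ}, sepOK T z n s = true → s ≤ i → i < s + n →
    i = z ∨ ∃ x ∈ refPts, relOf x i ≠ relOf x z
  | 0, _, _, h1, h2 => by omega
  | n + 1, s, h, h1, h2 => by
    rw [sepOK, force_eq, Bool.and_eq_true] at h
    rcases Nat.eq_or_lt_of_le h1 with rfl | h1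
    · have h' := h.1
      simp only [force_eq, Bool.or_eq_true, Bool.and_eq_true, Nat.beq_eq, Nat.blt_eq, Bool.not_eq_true',
        ← Bool.not_eq_true] at h'
      rcases h' with h' | ⟨hlt, hne⟩
      · exact Or.inl h'
      · refine Or.inr ⟨_, ?_, hne⟩
        have hlen : refPts.length = 18 := rfl
        rw [List.getD_eq_getElem _ _ (by omega)]
        exact List.getElem_mem _
    · exact sep_get h.2 (by omega) (by omega)

/-- The element of order seventeen is self-centralising. -/
theorem eq_pow_of_commute {c : Cfsg.Spor.He} (hc : Commute c elU) : ∃ i : ℕ, c = elU ^ i := by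
  obtain ⟨hcyc, hcov, hq, hwit, href⟩ := cycle_facts
  let q : Fin 2058 := ⟨cycPt 0 0, (hcyc 0 (by norm_num)).2.2⟩
  have hU : ∀ z : Fin 2058, (act elU z).1 = hwalk wordU z.1 := fun z => act_word (letters_lt elems.lU) z
  have h0 : ∀ d : Cfsg.Spor.He, Commute d elU → act d pt0 = pt0 := by
    intro d hd
    refine Fin.ext (onlyFixed_get onlyFixed_ok (Nat.zero_le _) (by have := (act d pt0).2; omega) ?_)
    rw [← hU, ← Equiv.Perm.mul_apply, ← map_mul, ← hd.eq, map_mul, Equiv.Perm.mul_apply]
    have : act elU pt0 = pt0 := Fin.ext (by rw [hU]; show hwalk wordU 0 = 0; decide +kernel)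
    rw [this]
  have hm := inOrb_stab HeS44.orb0_ok (show c ∈ stab from h0 c hc) q hq
  simp only [memb, Bool.and_eq_true, Nat.blt_eq, Nat.beq_eq] at hm
  obtain ⟨j, hj, i, hi, hji⟩ := hcov _ hm.1
  rw [hm.2] at hji
  set c' := (elU ^ i)⁻¹ * c with hc'
  have hcc : Commute c' elU := (Commute.refl elU).pow_left i |>.inv_left |>.mul_left hc
  have hst : act c' q = ⟨cycPt j 0, (hcyc j hj).2.2⟩ := by
    rw [hc', map_mul, Equiv.Perm.mul_apply, map_inv, Equiv.Perm.inv_def, Equiv.symm_apply_eq]
    exact Fin.ext ((act_pow_cyc hj i hi).trans hji).symm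
  have hpow : ∀ k < 17, (act c' (act (elU ^ k) q)).1 = cycPt j k := fun k hk => by
    rw [← Equiv.Perm.mul_apply, ← map_mul, (hcc.pow_right k).eq, map_mul, Equiv.Perm.mul_apply, hst]
    exact act_pow_cyc hj k hk
  have hj0 : j = 0 := by
    rcases hwit j hj with h | ⟨hw, hne⟩
    · exact h
    · exfalso
      apply hne
      have := relOf_act c' q (act (elU ^ cycWit.getD j 0) q) (hcyc 0 (by norm_num)).2.1
        (by rw [hst]; exact (hcyc j hj).2.1)
      rw [hst, hpow _ hw, act_pow_cyc (by norm_num) _ hw] at this
      exact this.symm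
  subst hj0
  have hfix : ∀ z : Fin 2058, z.1 ∈ refPts → act c' z = z := by
    intro z hz
    simp only [refPts, List.mem_cons, List.mem_map, List.mem_range] at hz
    rcases hz with h | ⟨k, hk, h⟩
    · rw [show z = pt0 from Fin.ext h]
      exact h0 c' hcc
    · have he : act (elU ^ k) q = z := Fin.ext ((act_pow_cyc (by norm_num) k hk).trans h)
      rw [← he]
      exact Fin.ext ((hpow k hk).trans (act_pow_cyc (by norm_num) k hk).symm)
  have hone : c' = 1 := by
    refine eq_one_of_fix fun z hz => ?_
    simp only [basePts, List.mem_cons, List.not_mem_nil, or_false] at hz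
    have key : ∀ T : Tab, sepOK T z.1 2058 0 = true → act c' z = z := by
      intro T hT
      rcases sep_get hT (Nat.zero_le _) (by have := (act c' z).2; omega : (act c' z).1 < 0 + 2058) with h | ⟨x, hx, hne⟩
      · exact Fin.ext h
      · exfalso
        apply hne
        obtain ⟨hxlt, hxr⟩ := href x hx
        have hfx := hfix ⟨x, hxlt⟩ hx
        have := relOf_act c' ⟨x, hxlt⟩ z hxr (by rw [hfx]; exact hxr)
        rw [hfx] at this
        exact this
    rcases hz with h | h | h | h
    · rw [show z = pt0 from Fin.ext h]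
      exact h0 c' hcc
    · exact key sepTab0 (h ▸ sep0_ok)
    · exact key sepTab1 (h ▸ sep1_ok)
    · exact key sepTab2 (h ▸ sep2_ok)
  exact ⟨i, by rwa [hc', inv_mul_eq_one, eq_comm] at hone⟩

/-- The centraliser of the square has at most 128 elements. -/
theorem card_centralizer_sq_le :
    Nat.card (Subgroup.centralizer ({elH ^ 2} : Set Cfsg.Spor.He)) ≤ 128 := by
  classical
  set C2 := Subgroup.centralizer ({elH ^ 2} : Set Cfsg.Spor.He)
  set C4 := Subgroup.centralizer ({elH ^ 4} : Set Cfsg.Spor.He)
  have h4 : Nat.card C4 ≤ 21504 := by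
    refine le_trans (Nat.card_le_card_of_injective
      (fun c : C4 => (⟨(val wordT)⁻¹ * c.1 * val wordT, Subgroup.mem_centralizer_singleton_iff.2 ?_⟩ :
        Subgroup.centralizer ({invE} : Set Cfsg.Spor.He))) ?_) card_centralizer_le
    · have e := Subgroup.mem_centralizer_singleton_iff.1 c.2
      rw [← elems.hT] at e
      calc (val wordT)⁻¹ * c.1 * val wordT * invE
          = (val wordT)⁻¹ * (c.1 * (val wordT * invE * (val wordT)⁻¹)) * val wordT := by group
        _ = (val wordT)⁻¹ * (val wordT * invE * (val wordT)⁻¹ * c.1) * val wordT := by rw [e]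
        _ = invE * ((val wordT)⁻¹ * c.1 * val wordT) := by group
    · intro a b h
      exact Subtype.ext (mul_left_cancel (mul_right_cancel (congrArg Subtype.val h)))
  have hcw := conjWords_ok
  simp only [conjWordsOK, Bool.and_eq_true, List.all_eq_true] at hcw
  obtain ⟨hcomm, hnd⟩ := hcw
  have hl : ∀ i : Fin 168, conjWords.getD i.1 [] ∈ conjWords := fun i => by
    rw [List.getD_eq_getElem _ _ (by rw [elems.nJ]; exact i.2)]
    exact List.getElem_mem _
  have hm : ∀ (i : Fin 168) (c : C2), val (conjWords.getD i.1 []) * c.1 ∈ C4 := by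
    intro i c
    refine mul_mem (Subgroup.mem_centralizer_singleton_iff.2 ?_) (Subgroup.mem_centralizer_singleton_iff.2 ?_)
    · have l := letters_getD elems.lJ i.1
      have := val_congr (letters_append l elems.lS) (letters_append elems.lS l) (hcomm _ (hl i))
      rw [val_append, val_append, elems.hS] at this
      exact this.symm
    · rw [show (4 : ℕ) = 2 * 2 from rfl, pow_mul]
      exact Commute.pow_right (Subgroup.mem_centralizer_singleton_iff.1 c.2) 2
  have hnd' : ((conjWords.map fun c => keyOf (c.reverse ++ wordH2 ++ c))).Nodup := by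
    have aux : ∀ l : List ℕ, nodupB l = true → l.Nodup := by
      intro l
      induction l with
      | nil => exact fun _ => List.nodup_nil
      | cons a l ih =>
        intro h
        simp only [nodupB, Bool.and_eq_true, List.all_eq_true, Bool.not_eq_true', ← Bool.not_eq_true,
          Nat.beq_eq] at h
        exact List.nodup_cons.2 ⟨fun ha => h.1 a ha rfl, ih h.2⟩
    exact aux _ hnd
  have hinj : Function.Injective fun x : Fin 168 × C2 =>
      (⟨val (conjWords.getD x.1.1 []) * x.2.1, hm x.1 x.2⟩ : C4) := by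
    rintro ⟨i, a⟩ ⟨j, b⟩ h
    have h' : val (conjWords.getD i.1 []) * a.1 = val (conjWords.getD j.1 []) * b.1 := congrArg Subtype.val h
    have hca : a.1 * elH ^ 2 * a.1⁻¹ = elH ^ 2 := by
      rw [Subgroup.mem_centralizer_singleton_iff.1 a.2, mul_inv_cancel_right]
    have hcb : b.1 * elH ^ 2 * b.1⁻¹ = elH ^ 2 := by
      rw [Subgroup.mem_centralizer_singleton_iff.1 b.2, mul_inv_cancel_right]
    have e : val (conjWords.getD i.1 []) * elH ^ 2 * (val (conjWords.getD i.1 []))⁻¹ =
        val (conjWords.getD j.1 []) * elH ^ 2 * (val (conjWords.getD j.1 []))⁻¹ := by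
      calc val (conjWords.getD i.1 []) * elH ^ 2 * (val (conjWords.getD i.1 []))⁻¹
          = val (conjWords.getD i.1 []) * (a.1 * elH ^ 2 * a.1⁻¹) * (val (conjWords.getD i.1 []))⁻¹ := by rw [hca]
        _ = (val (conjWords.getD i.1 []) * a.1) * elH ^ 2 * (val (conjWords.getD i.1 []) * a.1)⁻¹ := by group
        _ = (val (conjWords.getD j.1 []) * b.1) * elH ^ 2 * (val (conjWords.getD j.1 []) * b.1)⁻¹ := by rw [h']
        _ = val (conjWords.getD j.1 []) * (b.1 * elH ^ 2 * b.1⁻¹) * (val (conjWords.getD j.1 []))⁻¹ := by group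
        _ = _ := by rw [hcb]
    have hv : ∀ k : Fin 168, val ((conjWords.getD k.1 []).reverse ++ wordH2 ++ conjWords.getD k.1 []) =
        val (conjWords.getD k.1 []) * elH ^ 2 * (val (conjWords.getD k.1 []))⁻¹ := fun k => by
      rw [val_append, val_append, val_reverse, elems.h2, ← mul_assoc]
    have hk : ∀ k : Fin 168, letters ((conjWords.getD k.1 []).reverse ++ wordH2 ++ conjWords.getD k.1 []) = true :=
      fun k => letters_append (letters_append (letters_reverse (letters_getD elems.lJ _)) elems.l2)
        (letters_getD elems.lJ _)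
    have e' : keyOf ((conjWords.getD i.1 []).reverse ++ wordH2 ++ conjWords.getD i.1 []) =
        keyOf ((conjWords.getD j.1 []).reverse ++ wordH2 ++ conjWords.getD j.1 []) := by
      have e2 := (hv i).trans (e.trans (hv j).symm)
      have : ∀ p, p < 2058 → hwalk ((conjWords.getD i.1 []).reverse ++ wordH2 ++ conjWords.getD i.1 []) p =
          hwalk ((conjWords.getD j.1 []).reverse ++ wordH2 ++ conjWords.getD j.1 []) p := fun p hp => by
        rw [← act_word (letters_lt (hk i)) ⟨p, hp⟩, ← act_word (letters_lt (hk j)) ⟨p, hp⟩]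
        show (act (val _) _).1 = (act (val _) _).1
        rw [e2]
      simp only [keyOf, basePts, List.foldl_cons, List.foldl_nil]
      rw [this 0 (by norm_num), this 1 (by norm_num), this 7 (by norm_num), this 180 (by norm_num)]
    have hij : i = j := by
      have hlen := elems.nJ
      refine Fin.ext ((hnd'.getElem_inj_iff (hi := by rw [List.length_map, hlen]; exact i.2)
        (hj := by rw [List.length_map, hlen]; exact j.2)).1 ?_)
      rw [List.getElem_map, List.getElem_map]
      rw [List.getD_eq_getElem _ _ (by omega), List.getD_eq_getElem _ _ (by omega)] at e'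
      exact e'
    subst hij
    exact Prod.ext rfl (Subtype.ext (mul_left_cancel h'))
  have h := (Nat.card_le_card_of_injective _ hinj).trans h4
  rw [Nat.card_prod, Nat.card_eq_fintype_card, Fintype.card_fin] at h
  omega

/-- Every element commuting with the square is listed. -/
theorem exists_cand {y : Cfsg.Spor.He} (hy : y * elH ^ 2 = elH ^ 2 * y) :
    ∃ i < 128, y = val (candWords.getD i []) := by
  classical
  have hc := cand_ok
  simp only [candOK, Bool.and_eq_true, List.all_eq_true] at hc
  have hl : ∀ i : Fin 128, candWords.getD i.1 [] ∈ candWords := fun i => by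
    rw [List.getD_eq_getElem _ _ (by rw [elems.nC]; exact i.2)]
    exact List.getElem_mem _
  let f : Fin 128 → Subgroup.centralizer ({elH ^ 2} : Set Cfsg.Spor.He) := fun i =>
    ⟨val (candWords.getD i.1 []), Subgroup.mem_centralizer_singleton_iff.2 (by
      have l := letters_getD elems.lC i.1
      have := val_congr (letters_append l elems.l2) (letters_append elems.l2 l) (hc.1 _ (hl i))
      rw [val_append, val_append, elems.h2] at this
      exact this.symm)⟩
  have hinj : Function.Injective f := by
    intro i j h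
    have e2 : val (candWords.getD i.1 []) = val (candWords.getD j.1 []) := congrArg Subtype.val h
    have e' : keyOf (candWords.getD i.1 []) = keyOf (candWords.getD j.1 []) := by
      have : ∀ p, p < 2058 → hwalk (candWords.getD i.1 []) p = hwalk (candWords.getD j.1 []) p := fun p hp => by
        rw [← act_word (letters_lt (letters_getD elems.lC i.1)) ⟨p, hp⟩,
          ← act_word (letters_lt (letters_getD elems.lC j.1)) ⟨p, hp⟩]
        show (act (val _) _).1 = (act (val _) _).1
        rw [e2]
      simp only [keyOf, basePts, List.foldl_cons, List.foldl_nil]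
      rw [this 0 (by norm_num), this 1 (by norm_num), this 7 (by norm_num), this 180 (by norm_num)]
    have hnd : (candWords.map keyOf).Nodup := by
      have aux : ∀ l : List ℕ, nodupB l = true → l.Nodup := by
        intro l
        induction l with
        | nil => exact fun _ => List.nodup_nil
        | cons a l ih =>
          intro h
          simp only [nodupB, Bool.and_eq_true, List.all_eq_true, Bool.not_eq_true', ← Bool.not_eq_true,
            Nat.beq_eq] at h
          exact List.nodup_cons.2 ⟨fun ha => h.1 a ha rfl, ih h.2⟩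
      exact aux _ hc.2
    have hlen := elems.nC
    refine Fin.ext ((hnd.getElem_inj_iff (hi := by rw [List.length_map, hlen]; exact i.2)
      (hj := by rw [List.length_map, hlen]; exact j.2)).1 ?_)
    rw [List.getElem_map, List.getElem_map]
    rw [List.getD_eq_getElem _ _ (by omega), List.getD_eq_getElem _ _ (by omega)] at e'
    exact e'
  have hb : Function.Bijective f := (Nat.bijective_iff_injective_and_card f).2 ⟨hinj, by
    have := Nat.card_le_card_of_injective f hinj
    rw [Nat.card_eq_fintype_card, Fintype.card_fin] at this ⊢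
    exact le_antisymm this card_centralizer_sq_le⟩
  obtain ⟨i, hi⟩ := hb.2 ⟨y, Subgroup.mem_centralizer_singleton_iff.2 hy⟩
  exact ⟨i.1, i.2, (congrArg Subtype.val hi).symm⟩

/-- An automorphism fixing `h` and sending `u` to `u` or `u^3`. -/
def Normalised (α : MulAut Cfsg.Spor.He) : Prop :=
  (α elU = elU ∨ α elU = elU ^ 3) ∧ α elH = elH

theorem pow_ne_three : elU ^ 3 ≠ elU := fun e => by
  have := pow_inj_mod.1 (show elU ^ 3 = elU ^ 1 by rw [e, pow_one])
  rw [orderOf_elU] at this
  simp at this

theorem exists_normalised (α : MulAut Cfsg.Spor.He) :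
    ∃ g : Cfsg.Spor.He, Normalised (MulAut.conj g * α) := by
  classical
  haveI : Fact (Nat.Prime 17) := ⟨by norm_num⟩
  have hfac : (Nat.card Cfsg.Spor.He).factorization 17 = 1 := by
    rw [card_He, show (4030387200 : ℕ) = 17 * 237081600 by norm_num,
      Nat.factorization_mul (by norm_num) (by norm_num), Finsupp.add_apply,
      Nat.Prime.factorization_self (by norm_num), Nat.factorization_eq_zero_of_not_dvd (by norm_num)]
  have hcard : ∀ x : Cfsg.Spor.He, orderOf x = 17 →
      Nat.card (Subgroup.zpowers x) = 17 ^ (Nat.card Cfsg.Spor.He).factorization 17 := fun x hx => by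
    rw [Nat.card_zpowers, hx, hfac, pow_one]
  have hαo : orderOf (α elU) = 17 := by rw [MulEquiv.orderOf_eq]; exact orderOf_elU
  let P : Sylow 17 Cfsg.Spor.He := Sylow.ofCard (Subgroup.zpowers (α elU)) (hcard _ hαo)
  let Q : Sylow 17 Cfsg.Spor.He := Sylow.ofCard (Subgroup.zpowers elU) (hcard _ orderOf_elU)
  obtain ⟨g₀, hg₀⟩ := MulAction.exists_smul_eq Cfsg.Spor.He P Q
  have hmem : g₀ * α elU * g₀⁻¹ ∈ Subgroup.zpowers elU := by
    have h : g₀ * α elU * g₀⁻¹ ∈ ((g₀ • P : Sylow 17 Cfsg.Spor.He) : Subgroup Cfsg.Spor.He) := by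
      rw [Sylow.coe_subgroup_smul]
      exact ⟨α elU, Subgroup.mem_zpowers (α elU), rfl⟩
    rw [hg₀] at h
    exact h
  obtain ⟨m, hm⟩ := mem_powers_iff_mem_zpowers.2 hmem
  simp only at hm
  have hm0 : m % 17 ≠ 0 := fun e => by
    have h1 : elU ^ m = 1 := by rw [← pow_mod_orderOf, orderOf_elU, e, pow_zero]
    rw [hm, conj_eq_one_iff] at h1
    exact elems.ne (α.injective (h1.trans (map_one α).symm))
  have hsq : ∀ i m : ℕ, elH ^ i * elU ^ m * (elH ^ i)⁻¹ = elU ^ (m * 2 ^ i) := by
    intro i
    induction i with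
    | zero => intro m; simp
    | succ i ih =>
      intro m
      calc elH ^ (i + 1) * elU ^ m * (elH ^ (i + 1))⁻¹
          = elH ^ i * (elH * elU ^ m * elH⁻¹) * (elH ^ i)⁻¹ := by rw [pow_succ]; group
        _ = elH ^ i * elU ^ (2 * m) * (elH ^ i)⁻¹ := by rw [← conj_pow, elems.conj, ← pow_mul]
        _ = _ := by rw [ih]; congr 1; ring
  have key : ∀ r : ℕ, r < 17 → r ≠ 0 → ∃ i, i < 8 ∧ (r * 2 ^ i % 17 = 1 ∨ r * 2 ^ i % 17 = 3) := by decide
  obtain ⟨i, -, hi⟩ := key (m % 17) (Nat.mod_lt _ (by norm_num)) hm0
  set g₁ := elH ^ i * g₀ with hg₁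
  have hu : g₁ * α elU * g₁⁻¹ = elU ∨ g₁ * α elU * g₁⁻¹ = elU ^ 3 := by
    have e : g₁ * α elU * g₁⁻¹ = elU ^ ((m % 17) * 2 ^ i % 17) := by
      calc g₁ * α elU * g₁⁻¹ = elH ^ i * (g₀ * α elU * g₀⁻¹) * (elH ^ i)⁻¹ := by rw [hg₁]; group
        _ = elH ^ i * elU ^ m * (elH ^ i)⁻¹ := by rw [hm]
        _ = _ := by
          rw [hsq, ← pow_mod_orderOf, orderOf_elU, Nat.mod_mul_mod]
    rcases hi with hi | hi <;> rw [hi] at e
    · left; rw [e, pow_one]
    · right; exact e
  -- the image of `h`
  set u' := g₁ * α elU * g₁⁻¹ with hu'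
  set h' := g₁ * α elH * g₁⁻¹ with hh'
  have hact : h' * u' * h'⁻¹ = u' ^ 2 := by
    have : α (elH * elU * elH⁻¹) = α (elU ^ 2) := by rw [elems.conj]
    rw [map_mul, map_mul, map_inv, map_pow] at this
    calc h' * u' * h'⁻¹ = g₁ * (α elH * α elU * (α elH)⁻¹) * g₁⁻¹ := by rw [hh', hu']; group
      _ = g₁ * (α elU) ^ 2 * g₁⁻¹ := by rw [this]
      _ = u' ^ 2 := by rw [hu', conj_pow]
  have hact' : elH * u' * elH⁻¹ = u' ^ 2 := by
    rcases hu with e | e <;> rw [e]
    · exact elems.conj
    · rw [← conj_pow, elems.conj, ← pow_mul, ← pow_mul, mul_comm]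
  have hcom : Commute (elH⁻¹ * h') u' := by
    have e : h' * u' = elH * u' * elH⁻¹ * h' := by
      rw [hact', ← hact, inv_mul_cancel_right]
    show elH⁻¹ * h' * u' = u' * (elH⁻¹ * h')
    rw [mul_assoc, e]
    group
  have hcom' : Commute (elH⁻¹ * h') elU := by
    rcases hu with e | e
    · rwa [e] at hcom
    · rw [e] at hcom
      have := hcom.pow_right 6
      rwa [← pow_mul, show (3 * 6 : ℕ) = 17 + 1 from rfl, pow_add, elems.pow, one_mul, pow_one] at this
  obtain ⟨k, hk⟩ := eq_pow_of_commute hcom'
  refine ⟨elU ^ (2 * k) * g₁, ?_, ?_⟩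
  · show elU ^ (2 * k) * g₁ * α elU * (elU ^ (2 * k) * g₁)⁻¹ = elU ∨
      elU ^ (2 * k) * g₁ * α elU * (elU ^ (2 * k) * g₁)⁻¹ = elU ^ 3
    have e : elU ^ (2 * k) * g₁ * α elU * (elU ^ (2 * k) * g₁)⁻¹ = u' := by
      have hc : Commute (elU ^ (2 * k)) u' := by
        rcases hu with e | e <;> rw [e]
        · exact (Commute.refl elU).pow_left _
        · exact ((Commute.refl elU).pow_left _).pow_right _
      calc _ = elU ^ (2 * k) * u' * (elU ^ (2 * k))⁻¹ := by rw [hu']; group
        _ = u' := by rw [hc.eq, mul_inv_cancel_right]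
    rw [e]
    exact hu
  · show elU ^ (2 * k) * g₁ * α elH * (elU ^ (2 * k) * g₁)⁻¹ = elH
    have hh : h' = elH * elU ^ k := by rw [← hk, mul_inv_cancel_left]
    calc elU ^ (2 * k) * g₁ * α elH * (elU ^ (2 * k) * g₁)⁻¹
        = elU ^ (2 * k) * h' * (elU ^ (2 * k))⁻¹ := by rw [hh']; group
      _ = (elU ^ (2 * k) * elH) * elU ^ k * (elU ^ (2 * k))⁻¹ := by rw [hh]; group
      _ = elH * elU ^ (18 * k) * (elU ^ k * (elU ^ (2 * k))⁻¹) := by
          have : elU ^ (2 * k) * elH = elH * elU ^ (18 * k) := by
            have h18 : elH * elU ^ (18 * k) * elH⁻¹ = elU ^ (2 * (18 * k)) := by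
              rw [← conj_pow, elems.conj, ← pow_mul]
            have h36 : elU ^ (2 * (18 * k)) = elU ^ (2 * k) := by
              rw [show 2 * (18 * k) = 17 * (2 * k) + 2 * k by ring, pow_add, pow_mul, elems.pow, one_pow, one_mul]
            rw [← h36, ← h18, inv_mul_cancel_right]
          rw [this]; group
      _ = elH * (elU ^ (18 * k + k) * (elU ^ (2 * k))⁻¹) := by rw [pow_add]; group
      _ = elH := by
          rw [show 18 * k + k = 17 * k + 2 * k by ring, pow_add, pow_mul, elems.pow, one_pow, one_mul,
            mul_inv_cancel, mul_one]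

theorem excl_spec {U code : List ℕ} (h : exclOK U code = true) {i : ℕ} (hi : i < 128) :
    (code.getD i 0 = 0 ∧ sameW (candWords.getD i [] ++ candWords.getD i []) [] = false) ∨
      code.getD i 0 = 7 ∨
      (0 < code.getD i 0 ∧ code.getD i 0 < 7 ∧
        sameW (testPow U (candWords.getD i []) (code.getD i 0 - 1)) [] = false) := by
  simp only [exclOK, Bool.and_eq_true, List.all_eq_true, List.mem_range, force_eq] at h
  have := h.1 i hi
  by_cases h0 : code.getD i 0 = 0
  · left
    rw [h0] at this
    exact ⟨h0, by simpa using this⟩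
  · right
    rw [show Nat.beq (code.getD i 0) 0 = false from Bool.eq_false_iff.2 fun e => h0 (Nat.eq_of_beq_eq_true e),
      cond_false, Bool.or_eq_true, Nat.beq_eq, Bool.and_eq_true, Nat.blt_eq, Bool.not_eq_true'] at this
    rcases this with h7 | ⟨h7, h8⟩
    · exact Or.inl h7
    · exact Or.inr ⟨Nat.pos_of_ne_zero h0, h7, h8⟩

theorem excl_unique {U code : List ℕ} (h : exclOK U code = true) {i j : ℕ} (hi : i < 128) (hj : j < 128)
    (ei : code.getD i 0 = 7) (ej : code.getD j 0 = 7) : i = j := by
  simp only [exclOK, Bool.and_eq_true, Nat.ble_eq] at h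
  by_contra hne
  have h1 : [i, j] ⊆ (List.range 128).filter fun i => Nat.beq (code.getD i 0) 7 := by
    intro z hz
    simp only [List.mem_cons, List.not_mem_nil, or_false] at hz
    rcases hz with rfl | rfl <;> exact List.mem_filter.2 ⟨List.mem_range.2 ‹_›, by rw [Nat.beq_eq]; assumption⟩
  have h2 : [i, j].Nodup := by simp [hne]
  have := (h2.subperm h1).length_le
  simp only [List.length_cons, List.length_nil] at this
  omega

/-- The image of the third generator is the distinguished candidate. -/
theorem image_x {α : MulAut Cfsg.Spor.He} (hh : α elH = elH) {U code : List ℕ} (hU : letters U = true)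
    (hu : α elU = val U) (h : exclOK U code = true) :
    ∃ i < 128, code.getD i 0 = 7 ∧ α elX = val (candWords.getD i []) := by
  have hy : α elX * elH ^ 2 = elH ^ 2 * α elX := by
    rw [← hh, ← map_pow, ← map_mul, ← map_mul, elems.xcomm]
  obtain ⟨i, hi, hyi⟩ := exists_cand hy
  refine ⟨i, hi, ?_, hyi⟩
  have lY := letters_getD elems.lC i
  rcases excl_spec h hi with ⟨-, hbad⟩ | h7 | ⟨-, hlt, hbad⟩
  · refine absurd ?_ (val_ne (letters_append lY lY) rfl hbad)
    rw [val_append, val_nil, ← hyi, ← map_mul, elems.xsq, map_one]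
  · exact h7
  · refine absurd ?_ (val_ne (letters_replicate (letters_sub hU elems.lH lY _) _) rfl hbad)
    set j := code.getD i 0 - 1 with hj
    rw [val_nil, val_replicate]
    have hw : ∀ l ∈ testWords.getD j [], α (val (letW wordU wordH wordX l)) =
        val (letW U wordH (candWords.getD i []) l) := by
      intro l hl
      have hl3 : l < 3 := (show ∀ j < 6, ∀ l ∈ testWords.getD j [], l < 3 by decide) j (by omega) l hl
      interval_cases l
      · exact hu
      · exact hh
      · exact hyi
    have := map_flatMap α.toMonoidHom (letW wordU wordH wordX) (letW U wordH (candWords.getD i []))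
      (testWords.getD j []) hw
    show val (subW U wordH (candWords.getD i []) _) ^ _ = 1
    rw [subW, ← this]
    show α (val _) ^ _ = 1
    rw [← map_pow, ← val_replicate]
    have ht := elems.tests j (by omega)
    rw [testPow] at ht
    rw [show (List.flatMap (letW wordU wordH wordX) (testWords.getD j [])) = subW wordU wordH wordX (testWords.getD j []) from rfl,
      ht, map_one]

/-- A normalised automorphism is determined by the image of the element of order seventeen. -/
theorem normalised_ext {α β : MulAut Cfsg.Spor.He} (hα : Normalised α) (hβ : Normalised β)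
    (h : α elU = β elU) : α = β := by
  obtain ⟨U, code, hl, hu, hex⟩ : ∃ U code, letters U = true ∧ α elU = val U ∧ exclOK U code = true := by
    rcases hα.1 with e | e
    · exact ⟨wordU, candCode0, elems.lU, e, excl0_ok⟩
    · refine ⟨wordU3, candCode1, letters_append (letters_append elems.lU elems.lU) elems.lU, ?_, excl1_ok⟩
      rw [e, wordU3, val_append, val_append, pow_succ', pow_two]
      rfl
  obtain ⟨i, hi, hi7, hxi⟩ := image_x hα.2 hl hu hex
  obtain ⟨j, hj, hj7, hxj⟩ := image_x hβ.2 hl (h ▸ hu) hex
  have hx : α elX = β elX := by rw [hxi, hxj, excl_unique hex hi hj hi7 hj7]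
  have key : ∀ γ : MulAut Cfsg.Spor.He, γ elU = α elU → γ elH = α elH → γ elX = α elX →
      ∀ w : List ℕ, γ (val (subW wordU wordH wordX w)) = α (val (subW wordU wordH wordX w)) := by
    intro γ e1 e2 e3 w
    induction w with
    | nil => simp [subW, val_nil]
    | cons l w ih =>
      rw [subW, List.flatMap_cons, val_append, map_mul, map_mul]
      congr 1
      match l with
      | 0 => exact e1
      | 1 => exact e2
      | 2 => exact e3
      | 3 => show γ (val wordU.reverse) = α (val wordU.reverse)
             rw [val_reverse, map_inv, map_inv]; exact congrArg _ e1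
      | _ + 4 => show γ (val wordH.reverse) = α (val wordH.reverse)
                 rw [val_reverse, map_inv, map_inv]; exact congrArg _ e2
  refine MulEquiv.toMonoidHom_injective (MonoidHom.eq_of_eqOn_dense
    (numbering.closure_gens He.extra) ?_)
  rintro _ ⟨g, hg, rfl⟩
  show α (xgen g) = β (xgen g)
  rw [← elems.gens g hg]
  exact (key β h.symm (hβ.2.trans hα.2.symm) hx.symm _).symm

theorem out_facts :
    (∀ r ∈ numbering.pairs ++ HePres.extra, (∀ g ∈ r, g < 7) ∧
      sameW (r.flatMap fun g => outImages.getD g []) [] = true) ∧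
    (∀ g < 7, sameW (outImages.getD g [] ++ outImages.getD g []) [] = true) ∧
    sameW (wordU.flatMap fun g => outImages.getD g []) wordU3 = true ∧
    sameW (wordH.flatMap fun g => outImages.getD g []) wordH = true ∧
    ∀ c ∈ candWords, sameW (c.reverse ++ wordU ++ c) wordU3 = false := by
  have h := out_ok
  simp only [outOK, Bool.and_eq_true, List.all_eq_true, List.mem_range, Nat.blt_eq,
    Bool.not_eq_true'] at h
  obtain ⟨⟨⟨⟨h1, h2⟩, h3⟩, h4⟩, h5⟩ := h
  exact ⟨h1, h2, h3, h4, h5⟩

/-- An automorphism that is not inner. -/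
theorem exists_outer : ∃ α : MulAut Cfsg.Spor.He, α ∉ Cfsg.Inn Cfsg.Spor.He := by
  classical
  haveI := isHe.1
  obtain ⟨hrel, hsq, hU, hH, hnc⟩ := out_facts
  let y : ℕ → Cfsg.Spor.He := fun g => if g < 7 then val (outImages.getD g []) else 1
  have lim : ∀ g, letters (outImages.getD g []) = true := letters_getD elems.lO
  have hy : ∀ g, y g * y g = 1 := fun g => by
    by_cases hg : g < 7
    · simp only [y, if_pos hg, ← val_append]
      rw [val_congr (letters_append (lim g) (lim g)) rfl (hsq g hg), val_nil]
    · simp [y, hg]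
  have hval : ∀ w : List ℕ, (∀ g ∈ w, g < 7) → wordVal y w = val (w.flatMap fun g => outImages.getD g []) := by
    intro w
    induction w with
    | nil => intro _; rfl
    | cons g w ih =>
      intro hw
      have hg : g < 7 := hw g (List.mem_cons_self ..)
      rw [wordVal, ih fun a ha => hw a (List.mem_cons_of_mem _ ha), List.flatMap_cons, val_append,
        gen, if_neg (by unfold eps; omega)]
      simp [y, hg]
  let φ : Cfsg.Spor.He →* Cfsg.Spor.He := PresentedGroup.toGroup
    (f := fun a => y (numbering.num a))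
    (numbering.lift_eq_one (show numbering.k ≤ eps by decide) y (map_extra y hy) fun r hr => by
      obtain ⟨hlt, hs⟩ := hrel r hr
      rw [hval r hlt, val_congr (letters_flatMap lim r) rfl hs, val_nil])
  have hφ : ∀ g < 7, φ (xgen g) = y g := fun g hg => by
    show φ (numbering.gens He.extra g) = y g
    rw [Numbering.gens, if_pos (show g < numbering.k from hg)]
    show PresentedGroup.toGroup _ (PresentedGroup.of _) = _
    rw [PresentedGroup.toGroup.of, numbering.num_letter g hg]
  have hφv : ∀ w : List ℕ, (∀ g ∈ w, g < 7) → φ (val w) = val (w.flatMap fun g => outImages.getD g []) := by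
    intro w hw
    rw [← hval w hw]
    induction w with
    | nil => exact map_one φ
    | cons g w ih =>
      have hg : g < 7 := hw g (List.mem_cons_self ..)
      show φ (wordVal xgen w * gen xgen g) = wordVal y w * gen y g
      rw [map_mul]
      congr 1
      · exact ih fun a ha => hw a (List.mem_cons_of_mem _ ha)
      · rw [gen, gen, if_neg (by unfold eps; omega), if_neg (by unfold eps; omega), hφ g hg]
  have lU3 : letters wordU3 = true := letters_append (letters_append elems.lU elems.lU) elems.lU
  have v3 : val wordU3 = elU ^ 3 := by rw [wordU3, val_append, val_append, pow_succ', pow_two]; rfl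
  have hu : φ elU = elU ^ 3 := by
    rw [elU, hφv _ (letters_lt elems.lU), val_congr (letters_flatMap lim _) lU3 hU, v3]
    rfl
  have hh : φ elH = elH := by
    rw [elH, hφv _ (letters_lt elems.lH), val_congr (letters_flatMap lim _) elems.lH hH]
  have hinj : Function.Injective φ := by
    rw [← MonoidHom.ker_eq_bot_iff]
    refine (IsSimpleGroup.eq_bot_or_eq_top_of_normal φ.ker inferInstance).resolve_right fun e => ?_
    have h3 : elU ^ 3 = 1 := hu.symm.trans (MonoidHom.mem_ker.1 (e ▸ Subgroup.mem_top elU))
    refine elems.ne ?_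
    have h18 : elU = elU ^ 18 := by
      rw [show (18 : ℕ) = 17 + 1 from rfl, pow_add, elems.pow, one_mul, pow_one]
    rw [h18, show (18 : ℕ) = 3 * 6 from rfl, pow_mul, h3, one_pow]
  refine ⟨MulEquiv.ofBijective φ ⟨hinj, Finite.injective_iff_surjective.1 hinj⟩, ?_⟩
  rintro ⟨g, hg⟩
  have e1 : g * elH * g⁻¹ = elH := (DFunLike.congr_fun hg elH).trans hh
  have e2 : g * elU * g⁻¹ = elU ^ 3 := (DFunLike.congr_fun hg elU).trans hu
  have hc : g * elH = elH * g := by
    conv_rhs => rw [← e1]
    rw [inv_mul_cancel_right]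
  obtain ⟨i, hi, rfl⟩ := exists_cand (Commute.pow_right hc 2).eq
  have hmem : candWords.getD i [] ∈ candWords := by
    rw [List.getD_eq_getElem _ _ (by rw [elems.nC]; exact hi)]
    exact List.getElem_mem _
  have lc := letters_getD elems.lC i
  refine val_ne (letters_append (letters_append (letters_reverse lc) elems.lU) lc) lU3 (hnc _ hmem) ?_
  rw [val_append, val_append, val_reverse, v3, ← mul_assoc]
  exact e2

/-- The outer automorphism group has order two. -/
theorem card_out : Nat.card (Cfsg.Out Cfsg.Spor.He) = 2 := by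
  classical
  haveI : Finite (MulAut Cfsg.Spor.He) :=
    Finite.of_injective (fun α : MulAut Cfsg.Spor.He => (α : Cfsg.Spor.He → Cfsg.Spor.He))
      DFunLike.coe_injective
  let f : {α : MulAut Cfsg.Spor.He // Normalised α} → Cfsg.Out Cfsg.Spor.He := fun α => QuotientGroup.mk α.1
  have hf : Function.Surjective f := fun q => by
    obtain ⟨α, rfl⟩ := QuotientGroup.mk_surjective q
    obtain ⟨g, hg⟩ := exists_normalised α
    refine ⟨⟨_, hg⟩, ?_⟩
    show (QuotientGroup.mk (MulAut.conj g * α) : Cfsg.Out Cfsg.Spor.He) = QuotientGroup.mk α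
    rw [QuotientGroup.mk_mul, (QuotientGroup.eq_one_iff (N := Cfsg.Inn Cfsg.Spor.He) (MulAut.conj g)).2 ⟨g, rfl⟩,
      one_mul]
  have hle : Nat.card {α : MulAut Cfsg.Spor.He // Normalised α} ≤ 2 := by
    have := Nat.card_le_card_of_injective
      (fun α : {α : MulAut Cfsg.Spor.He // Normalised α} => decide (α.1 elU = elU)) (fun α β h => by
      refine Subtype.ext (normalised_ext α.2 β.2 ?_)
      have h' := decide_eq_decide.1 h
      rcases α.2.1 with e | e <;> rcases β.2.1 with e' | e'
      · rw [e, e']
      · exact absurd (e'.symm.trans (h'.1 e)) pow_ne_three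
      · exact absurd (e.symm.trans (h'.2 e')) pow_ne_three
      · rw [e, e'])
    simpa using this
  refine le_antisymm ((Nat.card_le_card_of_surjective f hf).trans hle) ?_
  obtain ⟨α, hα⟩ := exists_outer
  exact Finite.one_lt_card_iff_nontrivial.2
    ⟨QuotientGroup.mk α, 1, fun e => hα ((QuotientGroup.eq_one_iff α).1 e)⟩

end Cfsg.Lib.CosetEnum.HeInvol
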