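import Cfsg.Agent.Lib.CosetEnum.Groups.HeInvol
import Cfsg.Agent.Lib.CosetEnum.HeInvol.CheckIso
import Cfsg.Agent.Lib.CosetEnum.PairIso

/-!
# The involution centraliser of the Held group is that of a transvection of `SL(5, 2)`
-/

set_option autoImplicit false
set_option maxRecDepth 100000
set_option maxHeartbeats 1000000
set_option linter.style.haveILetI false

namespace Cfsg.Lib.CosetEnum.HeInvol

open Matrix

/-- The value of a bit. -/
def bitVal (b : Bool) : ZMod 2 := if b then 1 else 0

/-- The matrix of a code. -/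
def mat (c : ℕ) : Matrix (Fin 5) (Fin 5) (ZMod 2) := Matrix.of fun i j => bitVal (mbit c i.1 j.1)

theorem bitVal_xor (a b : Bool) : bitVal (a ^^ b) = bitVal a + bitVal b := by
  cases a <;> cases b <;> decide

theorem bitVal_and (a b : Bool) : bitVal (a && b) = bitVal a * bitVal b := by
  cases a <;> cases b <;> decide

theorem mat_mul_apply (a b : ℕ) (i j : Fin 5) : (mat a * mat b) i j =
    bitVal (((((mbit a i.1 0 && mbit b 0 j.1) ^^ (mbit a i.1 1 && mbit b 1 j.1)) ^^
      (mbit a i.1 2 && mbit b 2 j.1)) ^^ (mbit a i.1 3 && mbit b 3 j.1)) ^^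
      (mbit a i.1 4 && mbit b 4 j.1)) := by
  simp [Matrix.mul_apply, Fin.sum_univ_five, mat, bitVal_xor, bitVal_and, add_assoc]

theorem all_five {p : ℕ → Bool} (h : ([0, 1, 2, 3, 4].all p) = true) (i : Fin 5) : p i.1 = true := by
  simp only [List.all_eq_true] at h
  exact h i.1 (by fin_cases i <;> simp)

theorem mat_mul {a b c : ℕ} (h : mmulOK a b c = true) : mat a * mat b = mat c := by
  ext i j
  rw [mat_mul_apply]
  have := all_five (all_five h i) j
  have key : ∀ c x l : Bool, ((c == x) ^^ l) = true → c = (x ^^ l) := by decide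
  show _ = bitVal (mbit c i.1 j.1)
  rw [key _ _ _ this]

theorem mat_inj {a b : ℕ} (ha : a < 2 ^ 25) (hb : b < 2 ^ 25) (h : mat a = mat b) : a = b := by
  refine Nat.eq_of_testBit_eq fun k => ?_
  by_cases hk : k < 25
  · have h' := congrFun (congrFun h ⟨k / 5, by omega⟩) ⟨k % 5, by omega⟩
    simp only [mat, Matrix.of_apply, mbit] at h'
    rw [show 5 * (k / 5) + k % 5 = k from Nat.div_add_mod k 5] at h'
    revert h'
    cases a.testBit k <;> cases b.testBit k <;> decide
  · have h1 : 2 ^ 25 ≤ 2 ^ k := Nat.pow_le_pow_right (by norm_num) (by omega)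
    rw [Nat.testBit_lt_two_pow (lt_of_lt_of_le ha h1), Nat.testBit_lt_two_pow (lt_of_lt_of_le hb h1)]

/-- The special linear matrix of a code. -/
@[irreducible] noncomputable def sl (c : ℕ) : SpecialLinearGroup (Fin 5) (ZMod 2) :=
  @dite (SpecialLinearGroup (Fin 5) (ZMod 2)) ((mat c).det = 1) (Classical.propDecidable _)
    (fun h => ⟨mat c, h⟩) (fun _ => 1)

theorem coe_sl {c : ℕ} (h : (mat c).det = 1) :
    (sl c : Matrix (Fin 5) (Fin 5) (ZMod 2)) = mat c := by
  have e : sl c = (⟨mat c, h⟩ : SpecialLinearGroup (Fin 5) (ZMod 2)) := by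
    rw [sl]
    exact dif_pos h
  rw [e]

theorem sl_eq_one {c : ℕ} (h : mat c = 1) : sl c = 1 := by
  refine Subtype.ext ?_
  rw [coe_sl (by rw [h, Matrix.det_one]), h, Matrix.SpecialLinearGroup.coe_one]

theorem sl_mul {a b c : ℕ} (ha : (mat a).det = 1) (hb : (mat b).det = 1) (hc : (mat c).det = 1)
    (h : mat a * mat b = mat c) : sl a * sl b = sl c := by
  refine Subtype.ext ?_
  rw [Matrix.SpecialLinearGroup.coe_mul, coe_sl ha, coe_sl hb, coe_sl hc, h]

theorem sl_mul_mul {a b c : ℕ} (ha : (mat a).det = 1) (hb : (mat b).det = 1) (hc : (mat c).det = 1)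
    (h : mat a * mat b = mat c * mat a) : sl a * sl b = sl c * sl a := by
  refine Subtype.ext ?_
  rw [Matrix.SpecialLinearGroup.coe_mul, Matrix.SpecialLinearGroup.coe_mul, coe_sl ha, coe_sl hb, coe_sl hc, h]

theorem sl_mem_centralizer {a : ℕ} (ha : (mat a).det = 1)
    {s : SpecialLinearGroup (Fin 5) (ZMod 2)}
    (h : mat a * (s : Matrix (Fin 5) (Fin 5) (ZMod 2)) = (s : Matrix (Fin 5) (Fin 5) (ZMod 2)) * mat a) :
    sl a ∈ Subgroup.centralizer ({s} : Set (SpecialLinearGroup (Fin 5) (ZMod 2))) := by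
  refine Subgroup.mem_centralizer_singleton_iff.2 (Subtype.ext ?_)
  rw [Matrix.SpecialLinearGroup.coe_mul, Matrix.SpecialLinearGroup.coe_mul, coe_sl ha]
  exact h

/-- A listed pair. -/
noncomputable def pairOf (word : List (List ℕ)) (ms : List ℕ) (i : ℕ) :
    SpecialLinearGroup (Fin 5) (ZMod 2) × Cfsg.Spor.He :=
  (sl (ms.getD i 0), wordVal xgen (word.getD i []))

theorem getD_lt {word : List (List ℕ)} (h : word.all letters = true) (i : ℕ) :
    ∀ g ∈ word.getD i [], g < 7 := by
  rcases Nat.lt_or_ge i word.length with hi | hi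
  · rw [List.getD_eq_getElem _ _ hi]
    simp only [List.all_eq_true] at h
    exact letters_lt (h _ (List.getElem_mem _))
  · rw [List.getD_eq_default _ _ hi]
    simp

theorem step_get {word : List (List ℕ)} {ms : List ℕ} {step : List (List ℕ)} {ng n g i : ℕ}
    (h : stepOK' word ms step ng n g = true) (hi : i < n) :
    g < ng ∧ (step.getD g []).getD i 0 < n ∧
      sameW (word.getD i [] ++ word.getD (g + 1) []) (word.getD ((step.getD g []).getD i 0) []) = true ∧
      mmulOK (ms.getD (g + 1) 0) (ms.getD i 0) (ms.getD ((step.getD g []).getD i 0) 0) = true := by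
  simp only [stepOK', force_eq, Bool.and_eq_true, Nat.blt_eq, List.all_eq_true, List.mem_range] at h
  exact ⟨h.1, (h.2 i hi).1.1, (h.2 i hi).1.2, (h.2 i hi).2⟩

theorem par_get {par : List ℕ} {step : List (List ℕ)} {ng n i : ℕ}
    (h : parOK par step ng n = true) (hi : i < n) (h0 : i ≠ 0) :
    ∃ g < ng, ∃ j < i, (step.getD g []).getD j 0 = i := by
  simp only [parOK, List.all_eq_true, List.mem_range, Bool.or_eq_true, Nat.beq_eq, Bool.and_eq_true,
    Nat.ble_eq, Nat.blt_eq] at h
  obtain ⟨⟨⟨h1, h2⟩, h3⟩, h4⟩ := (h i hi).resolve_left h0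
  exact ⟨par.getD i 0 / 256 - 1, by omega, _, h3, h4⟩

/-- The determinants of a listed family are one when those of the generators are. -/
theorem det_one {word : List (List ℕ)} {ms : List ℕ} {par : List ℕ} {step : List (List ℕ)}
    {ng n : ℕ} (hstep : ∀ g < ng, stepOK' word ms step ng n g = true)
    (hpar : parOK par step ng n = true)
    (h0 : (mat (ms.getD 0 0)).det = 1) (hgen : ∀ g < ng, (mat (ms.getD (g + 1) 0)).det = 1) :
    ∀ i < n, (mat (ms.getD i 0)).det = 1 := by
  intro i
  induction i using Nat.strong_induction_on with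
  | _ i ih =>
    intro hi
    by_cases h : i = 0
    · subst h; exact h0
    · obtain ⟨g, hg, j, hj, e⟩ := par_get hpar hi h
      have hs := step_get (hstep g hg) (by omega : j < n)
      rw [e] at hs
      rw [← mat_mul hs.2.2.2, Matrix.det_mul, hgen g hg, ih j hj (by omega), one_mul]

theorem family {word : List (List ℕ)} {ms : List ℕ} {par : List ℕ} {step : List (List ℕ)}
    {ng n : ℕ} (hn : ng < n) (hw : word.all letters = true)
    (hstep : ∀ g < ng, stepOK' word ms step ng n g = true)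
    (hpar : parOK par step ng n = true) (h1 : sameW (word.getD 0 []) [] = true)
    (h0 : mat (ms.getD 0 0) = 1) (hgen : ∀ g < ng, (mat (ms.getD (g + 1) 0)).det = 1) :
    let f := fun i : Fin n => pairOf word ms i.1
    (∃ i, f i = 1) ∧
      (∀ s ∈ {p | ∃ g < ng, p = pairOf word ms (g + 1)}, ∀ i, ∃ j, s * f i = f j) ∧
      ∀ i, f i = 1 ∨ ∃ s ∈ {p | ∃ g < ng, p = pairOf word ms (g + 1)}, ∃ j, j.1 < i.1 ∧ f i = s * f j := by
  intro f
  have hdet := det_one hstep hpar (by rw [h0, Matrix.det_one]) hgen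
  have hone : pairOf word ms 0 = 1 := by
    refine Prod.ext (sl_eq_one h0) ?_
    · show wordVal xgen (word.getD 0 []) = 1
      rw [eq_of_sameW (getD_lt hw 0) (by simp) h1]
      rfl
  have hmul : ∀ g < ng, ∀ i < n,
      pairOf word ms (g + 1) * pairOf word ms i = pairOf word ms ((step.getD g []).getD i 0) := by
    intro g hg i hi
    obtain ⟨-, hj, hs, hm⟩ := step_get (hstep g hg) hi
    refine Prod.ext ?_ ?_
    · exact sl_mul (hgen g hg) (hdet i hi) (hdet _ hj) (mat_mul hm)
    · show wordVal xgen _ * wordVal xgen _ = wordVal xgen _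
      rw [← wordVal_append']
      refine eq_of_sameW (fun a ha => ?_) (getD_lt hw _) hs
      rcases List.mem_append.1 ha with ha | ha <;> exact getD_lt hw _ a ha
  refine ⟨⟨⟨0, by omega⟩, hone⟩, ?_, ?_⟩
  · rintro s ⟨g, hg, rfl⟩ i
    exact ⟨⟨_, (step_get (hstep g hg) i.2).2.1⟩, hmul g hg i.1 i.2⟩
  · intro i
    by_cases h : i.1 = 0
    · left
      show pairOf word ms i.1 = 1
      rw [h, hone]
    · obtain ⟨g, hg, j, hj, e⟩ := par_get hpar i.2 h
      exact Or.inr ⟨_, ⟨g, hg, rfl⟩, ⟨j, by omega⟩, hj, by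
        show pairOf word ms i.1 = _ * pairOf word ms j
        rw [hmul g hg j (by omega), e]⟩

theorem nodupB_iff : ∀ {l : List ℕ}, nodupB l = true → l.Nodup
  | [], _ => List.nodup_nil
  | a :: l, h => by
    rw [nodupB, Bool.and_eq_true] at h
    refine List.nodup_cons.2 ⟨fun ha => ?_, nodupB_iff h.2⟩
    simp only [List.all_eq_true, Bool.not_eq_true', ← Bool.not_eq_true, Nat.beq_eq] at h
    exact h.1 a ha rfl

/-- Two listed families with distinct keys are injective and disjoint. -/
theorem of_nodup {u v : ℕ → ℕ} (h : ((List.range 128).map u ++ (List.range 167).map fun i => v (i + 1)).Nodup)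
    (h0 : v 0 = u 0) :
    (∀ i < 128, ∀ j < 128, u i = u j → i = j) ∧ (∀ i < 168, ∀ j < 168, v i = v j → i = j) ∧
      ∀ i < 128, ∀ j < 168, u i = v j → i = 0 := by
  obtain ⟨h1, h2, h3⟩ := List.nodup_append.1 h
  have hu : ∀ i < 128, ∀ j < 128, u i = u j → i = j := fun i hi j hj e =>
    List.inj_on_of_nodup_map h1 (List.mem_range.2 hi) (List.mem_range.2 hj) e
  have hd : ∀ i < 128, ∀ j < 167, u i ≠ v (j + 1) := fun i hi j hj =>
    h3 _ (List.mem_map.2 ⟨i, List.mem_range.2 hi, rfl⟩) _ (List.mem_map.2 ⟨j, List.mem_range.2 hj, rfl⟩)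
  refine ⟨hu, ?_, ?_⟩
  · intro i hi j hj e
    rcases Nat.eq_zero_or_eq_succ_pred i with rfl | hi' <;> rcases Nat.eq_zero_or_eq_succ_pred j with rfl | hj'
    · rfl
    · rw [hj', h0] at e
      exact absurd e (hd 0 (by norm_num) _ (by omega))
    · rw [hi', h0] at e
      exact absurd e.symm (hd 0 (by norm_num) _ (by omega))
    · rw [hi', hj'] at e
      have := List.inj_on_of_nodup_map h2 (List.mem_range.2 (by omega : i.pred < 167))
        (List.mem_range.2 (by omega : j.pred < 167)) e
      omega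
  · intro i hi j hj e
    rcases Nat.eq_zero_or_eq_succ_pred j with rfl | hj'
    · exact hu i hi 0 (by norm_num) (e.trans h0)
    · rw [hj'] at e
      exact absurd e (hd i hi _ (by omega))

theorem key_congr {u v : List ℕ} (hu : ∀ g ∈ u, g < 7) (hv : ∀ g ∈ v, g < 7)
    (h : wordVal xgen u = wordVal xgen v) : keyOf u = keyOf v := by
  have e : ∀ p, p < 2058 → hwalk u p = hwalk v p := fun p hp => by
    rw [← act_word hu ⟨p, hp⟩, ← act_word hv ⟨p, hp⟩, h]
  simp [keyOf, basePts, e]

theorem det_gens : (∀ g < 6, (mat (matQ.getD (g + 1) 0)).det = 1) ∧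
    (∀ g < 2, (mat (matL.getD (g + 1) 0)).det = 1) := by
  decide +kernel

theorem codes_lt : ((matQ.all fun c => Nat.blt c (2 ^ 25)) && matL.all fun c => Nat.blt c (2 ^ 25)) = true := by
  decide +kernel

theorem mat_one : mat 17043521 = 1 := by decide +kernel

theorem mat_transvection : mat matS = Matrix.transvection 0 1 1 := by decide +kernel

theorem comm_gens : ∀ g ∈ [1, 2, 3, 4, 5, 6], mat (matQ.getD g 0) * mat matS = mat matS * mat (matQ.getD g 0) := by
  decide +kernel

theorem comm_gens' : ∀ g ∈ [1, 2], mat (matL.getD g 0) * mat matS = mat matS * mat (matL.getD g 0) := by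
  decide +kernel

theorem eq_one_of_mul_eq_one : ∀ x y : ZMod 2, x * y = 1 → x = 1 := by decide

theorem one_shift : ∀ i j : Fin 3, (1 : Matrix (Fin 5) (Fin 5) (ZMod 2)) ⟨i.1 + 2, by omega⟩ ⟨j.1 + 2, by omega⟩ =
    (1 : Matrix (Fin 3) (Fin 3) (ZMod 2)) i j := by
  intro i j
  simp [Matrix.one_apply, Fin.ext_iff]

/-- The matrices commuting with the transvection are few. -/
theorem card_centralizer_transvection_le {s : SpecialLinearGroup (Fin 5) (ZMod 2)}
    (hs : (s : Matrix (Fin 5) (Fin 5) (ZMod 2)) = Matrix.transvection 0 1 1) :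
    Nat.card (Subgroup.centralizer ({s} : Set (SpecialLinearGroup (Fin 5) (ZMod 2)))) ≤ 21504 := by
  classical
  haveI : Fact (Nat.Prime 2) := ⟨Nat.prime_two⟩
  set C := Subgroup.centralizer ({s} : Set (SpecialLinearGroup (Fin 5) (ZMod 2)))
  let M : C → Matrix (Fin 5) (Fin 5) (ZMod 2) := fun g => g.1.1
  have hMmul : ∀ g h : C, M g * M h = M (g * h) := fun g h => rfl
  have hM1 : M 1 = 1 := rfl
  have hcomm : ∀ g : C, M g * Matrix.transvection 0 1 1 = Matrix.transvection 0 1 1 * M g := fun g => by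
    rw [← hs]
    have h := congrArg (fun x : SpecialLinearGroup (Fin 5) (ZMod 2) => (x : Matrix (Fin 5) (Fin 5) (ZMod 2)))
      (Subgroup.mem_centralizer_singleton_iff.1 g.2)
    simpa only [Matrix.SpecialLinearGroup.coe_mul] using h
  have hcol : ∀ (g : C) (a : Fin 5), a ≠ 0 → M g a 0 = 0 := fun g a ha => by
    have h := congrFun (congrFun (hcomm g) a) 1
    rw [Matrix.mul_transvection_apply_same, Matrix.transvection_mul_apply_of_ne 0 1 a 1 ha] at h
    simpa using h
  have hrow : ∀ (g : C) (b : Fin 5), b ≠ 1 → M g 1 b = 0 := fun g b hb => by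
    have h := congrFun (congrFun (hcomm g) 0) b
    rw [Matrix.transvection_mul_apply_same, Matrix.mul_transvection_apply_of_ne 0 1 0 b hb] at h
    simpa using h
  have hdiag : ∀ g : C, M g 1 1 = M g 0 0 := fun g => by
    have h := congrFun (congrFun (hcomm g) 0) 1
    rw [Matrix.transvection_mul_apply_same, Matrix.mul_transvection_apply_same, one_mul, one_mul] at h
    exact (add_left_cancel h).symm
  have h00 : ∀ g : C, M g 0 0 = 1 := fun g => by
    have h := congrFun (congrFun (hMmul g g⁻¹) 0) 0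
    rw [mul_inv_cancel, hM1, Matrix.mul_apply, Fin.sum_univ_five, hcol g⁻¹ 1 (by decide),
      hcol g⁻¹ 2 (by decide), hcol g⁻¹ 3 (by decide), hcol g⁻¹ 4 (by decide)] at h
    simp only [mul_zero, add_zero, Matrix.one_apply_eq] at h
    revert h
    exact eq_one_of_mul_eq_one _ _
  let e : Fin 3 → Fin 5 := fun i => ⟨i.1 + 2, by omega⟩
  have he0 : ∀ i, e i ≠ 0 := by decide
  have he1 : ∀ i, e i ≠ 1 := by decide
  let A : C → Matrix (Fin 3) (Fin 3) (ZMod 2) := fun g => Matrix.of fun i j => M g (e i) (e j)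
  have hA : ∀ g h : C, A g * A h = A (g * h) := fun g h => by
    ext i j
    show _ = M (g * h) (e i) (e j)
    rw [← hMmul, Matrix.mul_apply, Matrix.mul_apply, Fin.sum_univ_three, Fin.sum_univ_five,
      hcol g (e i) (he0 i), hrow h (e j) (he1 j), zero_mul, mul_zero, zero_add, zero_add]
    rfl
  have hA1 : A 1 = 1 := by
    ext i j
    show M 1 (e i) (e j) = _
    rw [hM1]
    exact one_shift i j
  let φ : C → ZMod 2 × (Fin 3 → ZMod 2) × (Fin 3 → ZMod 2) × GL (Fin 3) (ZMod 2) := fun g =>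
    (M g 0 1, fun j => M g 0 (e j), fun i => M g (e i) 1,
      ⟨A g, A g⁻¹, by rw [hA, mul_inv_cancel, hA1], by rw [hA, inv_mul_cancel, hA1]⟩)
  have hφ : Function.Injective φ := by
    intro g h he
    obtain ⟨h01, ha, hb, hAe⟩ : M g 0 1 = M h 0 1 ∧ (fun j => M g 0 (e j)) = (fun j => M h 0 (e j)) ∧
        (fun i => M g (e i) 1) = (fun i => M h (e i) 1) ∧ A g = A h := by
      simp only [φ, Prod.mk.injEq] at he
      exact ⟨he.1, he.2.1, he.2.2.1, congrArg Units.val he.2.2.2⟩
    have hsplit : ∀ a : Fin 5, a = 0 ∨ a = 1 ∨ ∃ i, a = e i := by decide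
    refine Subtype.ext (Subtype.ext (Matrix.ext fun a b => ?_))
    show M g a b = M h a b
    rcases hsplit a with rfl | rfl | ⟨i, rfl⟩ <;> rcases hsplit b with rfl | rfl | ⟨j, rfl⟩
    · rw [h00, h00]
    · exact h01
    · exact congrFun ha j
    · rw [hcol g 1 (by decide), hcol h 1 (by decide)]
    · rw [hdiag, hdiag, h00, h00]
    · rw [hrow g _ (he1 j), hrow h _ (he1 j)]
    · rw [hcol g _ (he0 i), hcol h _ (he0 i)]
    · exact congrFun hb i
    · exact congrFun (congrFun hAe i) j
  refine (Nat.card_le_card_of_injective φ hφ).trans (le_of_eq ?_)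
  rw [Nat.card_prod, Nat.card_prod, Nat.card_prod, Matrix.card_GL_field]
  simp [Fin.prod_univ_three]

/-- The centraliser of the involution is that of the transvection. -/
theorem nonempty_equiv (s : SpecialLinearGroup (Fin 5) (ZMod 2))
    (hs : (s : Matrix (Fin 5) (Fin 5) (ZMod 2)) = Matrix.transvection 0 1 1) :
    Nonempty (↥(Subgroup.centralizer ({invE} : Set Cfsg.Spor.He)) ≃*
      ↥(Subgroup.centralizer ({s} : Set (SpecialLinearGroup (Fin 5) (ZMod 2))))) := by
  classical
  have hl := letters_ok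
  simp only [Bool.and_eq_true] at hl
  obtain ⟨⟨⟨⟨⟨⟨⟨hwQ, hwL⟩, -⟩, -⟩, -⟩, -⟩, hq0⟩, hl0⟩ := hl
  have hm := mats_ok
  simp only [Bool.and_eq_true, Nat.beq_eq] at hm
  obtain ⟨⟨hmQ, hmL⟩, hmnd⟩ := hm
  have hpar := par_ok
  rw [Bool.and_eq_true] at hpar
  have hstQ : ∀ g < 6, stepOK' wordQ matQ stepQ 6 128 g = true := fun g hg => by
    interval_cases g
    exacts [stepQ0, stepQ1, stepQ2, stepQ3, stepQ4, stepQ5]
  have hstL : ∀ g < 2, stepOK' wordL matL stepL 2 168 g = true := fun g hg => by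
    interval_cases g
    exacts [stepL0, stepL1]
  have FQ := family (n := 128) (by norm_num) hwQ hstQ hpar.1 hq0 (by rw [hmQ]; exact mat_one) det_gens.1
  have FL := family (n := 168) (by norm_num) hwL hstL hpar.2 hl0 (by rw [hmL]; exact mat_one) det_gens.2
  have dQ := det_one hstQ hpar.1 (by rw [hmQ, mat_one, Matrix.det_one]) det_gens.1
  have dL := det_one hstL hpar.2 (by rw [hmL, mat_one, Matrix.det_one]) det_gens.2
  have hkey := of_nodup (u := fun i => keyOf (wordQ.getD i [])) (v := fun i => keyOf (wordL.getD i []))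
    (nodupB_iff keys_ok) (key_congr (getD_lt hwL 0) (getD_lt hwQ 0) (by
      rw [eq_of_sameW (getD_lt hwL 0) (by simp) hl0, eq_of_sameW (getD_lt hwQ 0) (by simp) hq0]))
  have hcode := of_nodup (u := fun i => matQ.getD i 0) (v := fun i => matL.getD i 0) (nodupB_iff hmnd)
    (hmL.trans hmQ.symm)
  have hlt := codes_lt
  simp only [Bool.and_eq_true, List.all_eq_true, Nat.blt_eq] at hlt
  have ltQ : ∀ i, matQ.getD i 0 < 2 ^ 25 := fun i => by
    rcases Nat.lt_or_ge i matQ.length with h | h
    · rw [List.getD_eq_getElem _ _ h]; exact hlt.1 _ (List.getElem_mem _)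
    · rw [List.getD_eq_default _ _ h]; norm_num
  have ltL : ∀ i, matL.getD i 0 < 2 ^ 25 := fun i => by
    rcases Nat.lt_or_ge i matL.length with h | h
    · rw [List.getD_eq_getElem _ _ h]; exact hlt.2 _ (List.getElem_mem _)
    · rw [List.getD_eq_default _ _ h]; norm_num
  have hsl : ∀ {a b : ℕ}, (mat a).det = 1 → (mat b).det = 1 → a < 2 ^ 25 → b < 2 ^ 25 → sl a = sl b → a = b :=
    fun {a b} da db la lb e => mat_inj la lb (by rw [← coe_sl da, ← coe_sl db, e])
  have hcomm := comm_ok
  simp only [Bool.and_eq_true, List.all_eq_true] at hcomm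
  refine (nonempty_mulEquiv_of_pairs (Subgroup.centralizer ({s} : Set _))
    (Subgroup.centralizer ({invE} : Set Cfsg.Spor.He))
    (fun i : Fin 128 => pairOf wordQ matQ i.1) (fun i : Fin 168 => pairOf wordL matL i.1)
    {p | ∃ g < 6, p = pairOf wordQ matQ (g + 1)} {p | ∃ g < 2, p = pairOf wordL matL (g + 1)}
    FQ.1 FL.1 FQ.2.1 FL.2.1 FQ.2.2 FL.2.2 ?_ ?_
    (fun i j h => Fin.ext (hcode.1 i.1 i.2 j.1 j.2 (hsl (dQ _ i.2) (dQ _ j.2) (ltQ _) (ltQ _) h)))
    (fun i j h => Fin.ext (hcode.2.1 i.1 i.2 j.1 j.2 (hsl (dL _ i.2) (dL _ j.2) (ltL _) (ltL _) h)))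
    ?_
    (fun i j h => Fin.ext (hkey.1 i.1 i.2 j.1 j.2 (key_congr (getD_lt hwQ _) (getD_lt hwQ _) h)))
    (fun i j h => Fin.ext (hkey.2.1 i.1 i.2 j.1 j.2 (key_congr (getD_lt hwL _) (getD_lt hwL _) h)))
    ?_ (card_centralizer_transvection_le hs) card_centralizer_le).map MulEquiv.symm
  · rintro a ⟨a', ha', rfl⟩ q ⟨g, hg, rfl⟩
    have hc := conj_ok
    simp only [conjOK, force_eq, List.all_eq_true, Bool.and_eq_true, Nat.blt_eq] at hc
    obtain ⟨⟨hj, hw⟩, hmm⟩ := hc a' (by interval_cases a' <;> simp) g (by interval_cases g <;> simp)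
    refine ⟨⟨_, hj⟩, Prod.ext (sl_mul_mul (dL _ (by omega)) (dQ _ (by omega)) (dQ _ hj) ?_) ?_⟩
    · ext i k
      rw [mat_mul_apply, mat_mul_apply]
      have := hmm i.1 (by fin_cases i <;> simp) k.1 (by fin_cases k <;> simp)
      rw [beq_iff_eq] at this
      rw [this]
    · show wordVal xgen _ * wordVal xgen _ = wordVal xgen _ * wordVal xgen _
      rw [← wordVal_append', ← wordVal_append']
      refine eq_of_sameW (fun a ha => ?_) (fun a ha => ?_) hw <;>
        rcases List.mem_append.1 ha with ha | ha <;>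
        first | exact getD_lt hwQ _ a ha | exact getD_lt hwL _ a ha
  · have hg : ∀ (word : List (List ℕ)) (ms : List ℕ) (i : ℕ), (mat (ms.getD i 0)).det = 1 →
        mat (ms.getD i 0) * mat matS = mat matS * mat (ms.getD i 0) →
        sameW (word.getD i [] ++ [4]) (4 :: word.getD i []) = true → word.all letters = true →
        (pairOf word ms i).1 ∈ Subgroup.centralizer ({s} : Set (SpecialLinearGroup (Fin 5) (ZMod 2))) ∧
          (pairOf word ms i).2 ∈ Subgroup.centralizer ({invE} : Set Cfsg.Spor.He) := by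
      intro word ms i hd hc hw hl
      refine ⟨sl_mem_centralizer hd (by rw [hs, ← mat_transvection, hc]),
        Subgroup.mem_centralizer_singleton_iff.2 ?_⟩
      · show wordVal xgen _ * wordVal xgen [4] = wordVal xgen [4] * wordVal xgen _
        rw [← wordVal_append', ← wordVal_append']
        refine (eq_of_sameW ?_ ?_ hw).symm
        · intro a ha
          rcases List.mem_append.1 ha with ha | ha
          · exact getD_lt hl _ a ha
          · simp only [List.mem_singleton] at ha; omega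
        · intro a ha
          rcases List.mem_cons.1 ha with ha | ha
          · omega
          · exact getD_lt hl _ a ha
    rintro p (⟨g, hg', rfl⟩ | ⟨g, hg', rfl⟩)
    · exact hg wordQ matQ (g + 1) (det_gens.1 g hg') (comm_gens _ (by interval_cases g <;> simp))
        (hcomm.1 _ (by interval_cases g <;> simp)) hwQ
    · exact hg wordL matL (g + 1) (det_gens.2 g hg') (comm_gens' _ (by interval_cases g <;> simp))
        (hcomm.2 _ (by interval_cases g <;> simp)) hwL
  · intro i j h
    have hi := hcode.2.2 i.1 i.2 j.1 j.2 (hsl (dQ _ i.2) (dL _ j.2) (ltQ _) (ltL _) h)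
    show sl _ = 1
    exact sl_eq_one (by rw [hi, hmQ, mat_one])
  · intro i j h
    have hi := hkey.2.2 i.1 i.2 j.1 j.2 (key_congr (getD_lt hwQ _) (getD_lt hwL _) h)
    show wordVal xgen _ = 1
    rw [hi, eq_of_sameW (getD_lt hwQ 0) (by simp) hq0]
    rfl

theorem orderOf_invE : orderOf invE = 2 := by
  haveI : Fact (Nat.Prime 2) := ⟨Nat.prime_two⟩
  refine orderOf_eq_prime (by rw [pow_two]; exact invE_sq) fun h => ?_
  have h1 : hwalk [4] 5 = 5 := by
    have := act_invE ⟨5, by norm_num⟩
    rw [h, map_one, Equiv.Perm.one_apply] at this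
    exact this.symm
  have h2 : Nat.beq (hwalk [4] 5) 5 = false := by decide +kernel
  rw [h1] at h2
  simp at h2

end Cfsg.Lib.CosetEnum.HeInvol
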