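import Cfsg.Agent.Lib.CosetEnum.Order
import Cfsg.Agent.Lib.CosetEnum.Simple
import Cfsg.Agent.Lib.CosetEnum.Groups.ON
import Cfsg.Agent.Lib.CosetEnum.ONL37.Data
import Cfsg.Agent.Lib.Linear.SLBasic

/-!
# A permutation realisation of `L₃(7):2` on points and lines
-/

set_option autoImplicit false
set_option maxRecDepth 20000

namespace Cfsg.Lib.CosetEnum.ONL37

open scoped Matrix

instance fact_prime_seven : Fact (Nat.Prime 7) := ⟨by decide⟩

/-- The relator words in the letters `a, …, f`. -/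
def sub6 : List (List ℕ) := ONPres.relWords.filter fun r => r.all fun g => Nat.blt g 6

/-- The letters as free generators. -/
def of6 (g : ℕ) : FreeGroup (Fin 6) := if h : g < 6 then FreeGroup.of ⟨g, h⟩ else 1

/-- The relators. -/
def rels : Set (FreeGroup (Fin 6)) := {w | ∃ r ∈ sub6, w = wordVal of6 r}

/-- The group presented on `a, …, f`. -/
abbrev P6 : Type := PresentedGroup rels

/-- The generators. -/
def y (g : ℕ) : P6 := PresentedGroup.mk rels (of6 g)

theorem wordVal_y : ∀ r ∈ sub6, wordVal y r = 1 := by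
  intro r hr
  rw [show y = fun g => PresentedGroup.mk rels (of6 g) from rfl, ← map_wordVal]
  exact PresentedGroup.one_of_mem ⟨r, hr, rfl⟩

theorem y_mul_self (g : ℕ) : y g * y g = 1 := by
  by_cases h : g < 6
  · have := wordVal_y [g, g] ((show ∀ g < 6, [g, g] ∈ sub6 by decide +kernel) g h)
    have he : g ≠ eps := by simp only [eps]; omega
    simpa [wordVal, gen, he] using this
  · simp [y, of6, h]

theorem closure_y : Subgroup.closure (y '' {g | g < 6}) = ⊤ := by
  rw [← top_le_iff, ← PresentedGroup.closure_range_of rels, Subgroup.closure_le]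
  rintro _ ⟨a, rfl⟩
  refine Subgroup.subset_closure ⟨a.1, a.2, ?_⟩
  simp [y, of6]
  rfl

/-- The homomorphism given by involutions satisfying the relators. -/
theorem exists_hom {M : Type*} [Group M] (z : ℕ → M) (h : ∀ r ∈ sub6, wordVal z r = 1) :
    ∃ φ : P6 →* M, ∀ g < 6, φ (y g) = z g := by
  have hlift : ∀ r ∈ sub6, FreeGroup.lift (fun a : Fin 6 => z a.1) (wordVal of6 r) =
      wordVal z r := by
    intro r hr
    rw [map_wordVal]
    have hlt : ∀ g ∈ r, g < 6 :=
      (show ∀ r ∈ sub6, ∀ g ∈ r, g < 6 by decide +kernel) r hr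
    clear hr
    induction r with
    | nil => rfl
    | cons g w ih =>
      rw [wordVal, wordVal, ih fun a ha => hlt a (by simp [ha]), gen, gen,
        if_neg (by simp only [eps]; have := hlt g (by simp); omega),
        if_neg (by simp only [eps]; have := hlt g (by simp); omega),
        of6, dif_pos (hlt g (by simp)), FreeGroup.lift_apply_of]
  have hrel : ∀ w ∈ rels, FreeGroup.lift (fun a : Fin 6 => z a.1) w = 1 := by
    rintro w ⟨r, hr, rfl⟩
    rw [hlift r hr, h r hr]
  refine ⟨PresentedGroup.toGroup hrel, fun g hg => ?_⟩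
  rw [y, of6, dif_pos hg]
  exact PresentedGroup.toGroup.of hrel

/-- The coordinates of a point or a line. -/
noncomputable def vec (j : ℕ) : Fin 3 → ZMod 7 :=
  ![((Nat.mod (tabV.getP j) 7 : ℕ) : ZMod 7), ((Nat.mod (Nat.div (tabV.getP j) 7) 7 : ℕ) : ZMod 7),
    ((Nat.div (tabV.getP j) 49 : ℕ) : ZMod 7)]

/-- A matrix from its list of entries. -/
def matOf (l : List ℕ) : Matrix (Fin 3) (Fin 3) (ZMod 7) :=
  fun i k => ((l.getD (3 * i.1 + k.1) 0 : ℕ) : ZMod 7)

/-- Matrix times vector, written out. -/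
def mulV (A : Matrix (Fin 3) (Fin 3) (ZMod 7)) (v : Fin 3 → ZMod 7) : Fin 3 → ZMod 7 :=
  fun i => A i 0 * v 0 + A i 1 * v 1 + A i 2 * v 2

theorem mulV_eq (A : Matrix (Fin 3) (Fin 3) (ZMod 7)) (v : Fin 3 → ZMod 7) :
    A *ᵥ v = mulV A v := by
  funext i
  simp [Matrix.mulVec, dotProduct, mulV, Fin.sum_univ_three]

/-- The nonzero scalars. -/
def units7 : List (ZMod 7) := [1, 2, 3, 4, 5, 6]

/-- A product of two generators moves points and lines as its matrix does. -/
noncomputable def moveOK (g : ℕ) (A A' : Matrix (Fin 3) (Fin 3) (ZMod 7)) : Bool :=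
  (List.range 114).all fun j =>
    let t := img tabQ 6 0 (img tabQ 6 g j)
    (Nat.blt j 57 == Nat.blt t 57) &&
      units7.any fun l =>
        (List.finRange 3).all fun i =>
          (mulV (cond (Nat.blt j 57) A A') (vec j) i == l * vec t i)

/-- No two points, and no two lines, are proportional. -/
noncomputable def distinctOK : Bool :=
  (List.range 114).all fun i => (List.range 114).all fun j =>
    !(Nat.blt i 57 == Nat.blt j 57) || Nat.beq i j ||
      units7.all fun l => !((List.finRange 3).all fun k => l * vec i k == vec j k)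

theorem distinct_ok : distinctOK = true := by decide +kernel

theorem moves_ok : ((List.range 5).all fun g =>
    moveOK (g + 1) (matOf (mats.getD g [])) (matOf (dualMats.getD g []))) = true := by
  decide +kernel

theorem mats_ok : ∀ g < 5, (matOf (mats.getD g [])).det = 1 ∧
    matOf (mats.getD g []) * (matOf (dualMats.getD g []))ᵀ = 1 := by
  have h : ((List.range 5).all fun g =>
      let A := matOf (mats.getD g [])
      let B := matOf (dualMats.getD g [])
      decide (A 0 0 * A 1 1 * A 2 2 - A 0 0 * A 1 2 * A 2 1 - A 0 1 * A 1 0 * A 2 2 +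
        A 0 1 * A 1 2 * A 2 0 + A 0 2 * A 1 0 * A 2 1 - A 0 2 * A 1 1 * A 2 0 = 1) &&
      ((List.finRange 3).all fun i => (List.finRange 3).all fun k =>
        decide (A i 0 * B k 0 + A i 1 * B k 1 + A i 2 * B k 2 = if i = k then 1 else 0))) = true := by
    decide +kernel
  intro g hg
  have h1 := List.all_eq_true.1 h g (List.mem_range.2 hg)
  simp only [Bool.and_eq_true, decide_eq_true_eq, List.all_eq_true] at h1
  refine ⟨by rw [Matrix.det_fin_three]; exact h1.1, ?_⟩
  ext i k
  rw [Matrix.mul_apply, Fin.sum_univ_three, Matrix.one_apply]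
  exact h1.2 i (List.mem_finRange i) k (List.mem_finRange k)

theorem perm_ok : permOK tabQ 6 114 sub6 114 0 = true := by decide +kernel

/-- The base used for the lower bound. -/
def levels : List BaseLevel := [level0, level1, level2, level3]

theorem base_ok : BaseOK tabQ 6 114 levels :=
  ⟨by decide +kernel, by decide +kernel, by decide +kernel, by decide +kernel, by decide +kernel,
    by decide +kernel, by decide +kernel, by decide +kernel, trivial⟩

/-- The matrices `A` and permutations `σ` such that `A` induces `σ` on points and lines. -/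
def Maps (A : Matrix.SpecialLinearGroup (Fin 3) (ZMod 7)) (σ : Equiv.Perm (Fin 114)) : Prop :=
  ∀ j : Fin 114, (j.1 < 57 ↔ (σ j).1 < 57) ∧ ∃ l : ZMod 7, l ≠ 0 ∧
    (if j.1 < 57 then A.1 *ᵥ vec j.1 else (A⁻¹).1ᵀ *ᵥ vec j.1) = l • vec (σ j).1

/-- The pairs of a matrix and the permutation it induces. -/
def mapsGroup : Subgroup (Matrix.SpecialLinearGroup (Fin 3) (ZMod 7) × Equiv.Perm (Fin 114)) where
  carrier := {p | Maps p.1 p.2}
  one_mem' := fun j => ⟨Iff.rfl, 1, one_ne_zero, by simp⟩
  mul_mem' := by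
    rintro ⟨A, σ⟩ ⟨B, τ⟩ hA hB j
    obtain ⟨hj, c, hc, hcj⟩ := hB j
    obtain ⟨hi, d, hd, hdj⟩ := hA (τ j)
    refine ⟨hj.trans hi, c * d, mul_ne_zero hc hd, ?_⟩
    show (if j.1 < 57 then (A * B).1 *ᵥ vec j.1 else ((A * B)⁻¹).1ᵀ *ᵥ vec j.1) =
      (c * d) • vec (σ (τ j)).1
    by_cases h : j.1 < 57
    · rw [if_pos h] at hcj ⊢
      rw [if_pos (hj.1 h)] at hdj
      rw [Matrix.SpecialLinearGroup.coe_mul, ← Matrix.mulVec_mulVec, hcj, Matrix.mulVec_smul, hdj,
        smul_smul]
    · rw [if_neg h] at hcj ⊢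
      rw [if_neg fun h' => h (hj.2 h')] at hdj
      rw [mul_inv_rev, Matrix.SpecialLinearGroup.coe_mul, Matrix.transpose_mul,
        ← Matrix.mulVec_mulVec, hcj, Matrix.mulVec_smul, hdj, smul_smul]
  inv_mem' := by
    rintro ⟨A, σ⟩ hA j
    obtain ⟨hi, c, hc, hcj⟩ := hA (σ⁻¹ j)
    simp only [Equiv.Perm.inv_def, Equiv.apply_symm_apply] at hcj hi
    refine ⟨hi.symm, c⁻¹, inv_ne_zero hc, ?_⟩
    show (if j.1 < 57 then (A⁻¹).1 *ᵥ vec j.1 else ((A⁻¹)⁻¹).1ᵀ *ᵥ vec j.1) =
      c⁻¹ • vec (σ⁻¹ j).1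
    by_cases h : j.1 < 57
    · rw [if_pos h]
      rw [if_pos (hi.2 h)] at hcj
      have h1 := congrArg ((A⁻¹).1 *ᵥ ·) hcj
      simp only [Matrix.mulVec_mulVec, Matrix.mulVec_smul] at h1
      rw [← Matrix.SpecialLinearGroup.coe_mul, inv_mul_cancel, Matrix.SpecialLinearGroup.coe_one,
        Matrix.one_mulVec] at h1
      rw [Equiv.Perm.inv_def, h1, smul_smul, inv_mul_cancel₀ hc, one_smul]
    · rw [if_neg h, inv_inv]
      rw [if_neg fun h' => h (hi.1 h')] at hcj
      have h1 := congrArg (A.1ᵀ *ᵥ ·) hcj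
      simp only [Matrix.mulVec_mulVec, Matrix.mulVec_smul] at h1
      rw [← Matrix.transpose_mul, ← Matrix.SpecialLinearGroup.coe_mul, inv_mul_cancel,
        Matrix.SpecialLinearGroup.coe_one, Matrix.transpose_one, Matrix.one_mulVec] at h1
      rw [Equiv.Perm.inv_def, h1, smul_smul, inv_mul_cancel₀ hc, one_smul]

/-- A matrix inducing the identity is central. -/
theorem mem_center {A : Matrix.SpecialLinearGroup (Fin 3) (ZMod 7)} (h : Maps A 1) :
    A ∈ Subgroup.center (Matrix.SpecialLinearGroup (Fin 3) (ZMod 7)) := by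
  have hv : ((List.range 57).any fun j => (List.finRange 3).all fun k => vec j k == ![1, 0, 0] k) ∧
      ((List.range 57).any fun j => (List.finRange 3).all fun k => vec j k == ![0, 1, 0] k) ∧
      ((List.range 57).any fun j => (List.finRange 3).all fun k => vec j k == ![0, 0, 1] k) ∧
      ((List.range 57).any fun j => (List.finRange 3).all fun k => vec j k == ![1, 1, 1] k) := by
    decide +kernel
  have key : ∀ v : Fin 3 → ZMod 7,
      ((List.range 57).any fun j => (List.finRange 3).all fun k => vec j k == v k) = true →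
      ∃ l : ZMod 7, A.1 *ᵥ v = l • v := by
    intro v hv
    obtain ⟨j, hj, hjv⟩ := List.any_eq_true.1 hv
    have hj' := List.mem_range.1 hj
    have e : vec j = v := funext fun k =>
      beq_iff_eq.1 (List.all_eq_true.1 hjv k (List.mem_finRange k))
    obtain ⟨-, l, -, hl⟩ := h ⟨j, by omega⟩
    rw [if_pos hj'] at hl
    exact ⟨l, e ▸ hl⟩
  obtain ⟨h0, h1, h2, h3⟩ := hv
  obtain ⟨a, ha⟩ := key _ h0
  obtain ⟨b, hb⟩ := key _ h1
  obtain ⟨c, hc⟩ := key _ h2
  obtain ⟨d, hd⟩ := key _ h3
  simp only [funext_iff, Fin.forall_fin_succ, Matrix.mulVec, dotProduct, Fin.sum_univ_three,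
    Pi.smul_apply, smul_eq_mul] at ha hb hc hd
  simp at ha hb hc hd
  have hA : A.1 = Matrix.scalar (Fin 3) d := by
    ext i k
    fin_cases i <;> fin_cases k <;> simp <;> grind
  rw [Matrix.SpecialLinearGroup.mem_center_iff]
  refine ⟨d, ?_, hA.symm⟩
  have h1 := A.2
  rw [hA] at h1
  simpa using h1

theorem maps_pair : ∀ g, 1 ≤ g → g < 6 →
    ∃ A, Maps A (tperm tabQ 6 114 0 * tperm tabQ 6 114 g) := by
  intro g h1 h6
  obtain ⟨hdet, hinv⟩ := mats_ok (g - 1) (by omega)
  let A : Matrix.SpecialLinearGroup (Fin 3) (ZMod 7) := ⟨matOf (mats.getD (g - 1) []), hdet⟩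
  have hA : (A⁻¹).1ᵀ = matOf (dualMats.getD (g - 1) []) := by
    have h2 : (A⁻¹).1 * A.1 = 1 := by
      rw [← Matrix.SpecialLinearGroup.coe_mul, inv_mul_cancel, Matrix.SpecialLinearGroup.coe_one]
    calc (A⁻¹).1ᵀ = ((A⁻¹).1 * (A.1 * (matOf (dualMats.getD (g - 1) []))ᵀ))ᵀ := by
          rw [show A.1 = matOf (mats.getD (g - 1) []) from rfl, hinv, mul_one]
      _ = _ := by rw [← mul_assoc, h2, one_mul, Matrix.transpose_transpose]
  refine ⟨A, fun j => ?_⟩
  have h3 := List.all_eq_true.1
    (List.all_eq_true.1 moves_ok (g - 1) (List.mem_range.2 (by omega))) j.1 (List.mem_range.2 j.2)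
  rw [show g - 1 + 1 = g by omega] at h3
  simp only [Bool.and_eq_true, beq_iff_eq, List.any_eq_true, List.all_eq_true] at h3
  obtain ⟨hb, l, hl, heq⟩ := h3
  have ht : ((tperm tabQ 6 114 0 * tperm tabQ 6 114 g) j).1 =
      img tabQ 6 0 (img tabQ 6 g j.1) := by
    rw [Equiv.Perm.mul_apply, tperm_apply perm_ok (by omega), tperm_apply perm_ok h6]
  rw [ht]
  refine ⟨?_, l, (show ∀ l ∈ units7, l ≠ 0 by decide) l hl, ?_⟩
  · rw [← Nat.blt_eq, ← Nat.blt_eq, hb]
  funext i
  have h4 := heq i (List.mem_finRange i)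
  by_cases hj : j.1 < 57
  · rw [show Nat.blt j.1 57 = true by simpa [Nat.blt_eq] using hj, cond_true, ← mulV_eq] at h4
    rw [if_pos hj]
    exact h4
  · rw [show Nat.blt j.1 57 = false by simpa [← Bool.not_eq_true, Nat.blt_eq] using hj, cond_false,
      ← mulV_eq] at h4
    rw [if_neg hj, hA]
    exact h4

theorem card_psl : Nat.card (Matrix.ProjectiveSpecialLinearGroup (Fin 3) (ZMod 7)) = 1876896 := by
  have h1 := Cfsg.Lib.Linear.card_SL_mul (F := ZMod 7) 3 (by decide)
  have h2 := Cfsg.Lib.Linear.card_SL_eq_gcd_mul_card_PSL (ι := Fin 3) (F := ZMod 7)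
  rw [ZMod.card, Fintype.card_fin, show Nat.gcd 3 (7 - 1) = 3 by decide] at h2
  rw [ZMod.card, h2, Fin.prod_univ_three] at h1
  norm_num at h1
  rw [← Nat.card_eq_fintype_card] at h1
  omega

/-- A word in `a, …, f` is a product of a pair product and at most the first generator. -/
theorem maps_or {φ : P6 →* Equiv.Perm (Fin 114)}
    (hφ : ∀ g < 6, φ (y g) = tperm tabQ 6 114 g) (p : P6) :
    (∃ A, Maps A (φ p)) ∨ ∃ A, Maps A (φ p * tperm tabQ 6 114 0) := by
  let L : Subgroup (Equiv.Perm (Fin 114)) :=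
    mapsGroup.map (MonoidHom.snd (Matrix.SpecialLinearGroup (Fin 3) (ZMod 7)) (Equiv.Perm (Fin 114)))
  have hL : ∀ σ, σ ∈ L ↔ ∃ A, Maps A σ := fun σ =>
    ⟨fun ⟨⟨A, τ⟩, hA, he⟩ => ⟨A, he ▸ hA⟩, fun ⟨A, hA⟩ => ⟨(A, σ), hA, rfl⟩⟩
  simp only [← hL]
  set s := tperm tabQ 6 114 0 with hs
  have hss : s * s = 1 := tperm_mul_self _ _ _ _
  have hgen : ∀ g < 6, s * tperm tabQ 6 114 g ∈ L := by
    intro g hg
    rcases Nat.eq_zero_or_pos g with rfl | h
    · rw [hss]; exact one_mem L
    · exact (hL _).2 (maps_pair g h hg)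
  have hgen' : ∀ g < 6, tperm tabQ 6 114 g * s ∈ L := by
    intro g hg
    have h := inv_mem (hgen g hg)
    rwa [mul_inv_rev, inv_eq_of_mul_eq_one_left hss,
      inv_eq_of_mul_eq_one_left (tperm_mul_self _ _ _ _)] at h
  have hp : p ∈ Subgroup.closure (y '' {g | g < 6}) := closure_y ▸ Subgroup.mem_top p
  induction hp using Subgroup.closure_induction_right with
  | one => exact Or.inl (by rw [map_one]; exact one_mem L)
  | mul_right q z _ hz ih =>
    obtain ⟨g, hg, rfl⟩ := hz
    rw [map_mul, hφ g hg]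
    rcases ih with ih | ih
    · exact Or.inr (by rw [mul_assoc]; exact mul_mem ih (hgen' g hg))
    · left
      rw [show φ q * tperm tabQ 6 114 g = φ q * s * (s * tperm tabQ 6 114 g) by
        rw [mul_assoc (φ q) s, ← mul_assoc s s, hss, one_mul]]
      exact mul_mem ih (hgen g hg)
  | mul_inv_cancel q z _ hz ih =>
    obtain ⟨g, hg, rfl⟩ := hz
    rw [map_mul, map_inv, hφ g hg, inv_eq_of_mul_eq_one_left (tperm_mul_self _ _ _ _)]
    rcases ih with ih | ih
    · exact Or.inr (by rw [mul_assoc]; exact mul_mem ih (hgen' g hg))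
    · left
      rw [show φ q * tperm tabQ 6 114 g = φ q * s * (s * tperm tabQ 6 114 g) by
        rw [mul_assoc (φ q) s, ← mul_assoc s s, hss, one_mul]]
      exact mul_mem ih (hgen g hg)

/-- The parity map. -/
theorem exists_parity : ∃ ε : P6 →* ℤˣ, ∀ g < 6, ε (y g) = -1 :=
  exists_hom (fun _ => (-1 : ℤˣ)) (by decide +kernel)

/-- The permutation action, faithful by counting. -/
theorem exists_action (hfin : Finite P6) (hle : Nat.card P6 ≤ 3753792) :
    Nat.card P6 = 3753792 ∧ ∃ φ : P6 →* Equiv.Perm (Fin 114), Function.Injective φ ∧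
      ∀ g < 6, φ (y g) = tperm tabQ 6 114 g := by
  obtain ⟨φ, hφ⟩ := exists_hom (tperm tabQ 6 114)
    fun r hr => wordVal_tperm_eq_one perm_ok (by decide) hr
  have hs : baseSize levels = 3753792 := by decide +kernel
  obtain ⟨h1, h2⟩ := card_eq_of_base y φ perm_ok (by decide) hφ base_ok (hs ▸ hle)
  exact ⟨h1.trans hs, φ, h2, hφ⟩

/-- The kernel of the parity map is `PSL(3, 7)`. -/
theorem ker_equiv (hfin : Finite P6) (hle : Nat.card P6 ≤ 3753792) (ε : P6 →* ℤˣ)
    (hε : ∀ g < 6, ε (y g) = -1) :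
    ε.ker.index = 2 ∧
      Nonempty (ε.ker ≃* Matrix.ProjectiveSpecialLinearGroup (Fin 3) (ZMod 7)) := by
  obtain ⟨hcard, φ, hinj, hφ⟩ := exists_action hfin hle
  have hsurj : Function.Surjective ε := fun u => by
    rcases Int.units_eq_one_or u with rfl | rfl
    · exact ⟨1, map_one ε⟩
    · exact ⟨y 0, hε 0 (by omega)⟩
  have hidx : ε.ker.index = 2 := by
    rw [Subgroup.index_ker, MonoidHom.range_eq_top.2 hsurj, Subgroup.card_top,
      Nat.card_eq_fintype_card]
    rfl
  refine ⟨hidx, ?_⟩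
  have hker : Nat.card ε.ker = 1876896 := by
    have := Subgroup.card_mul_index ε.ker
    rw [hidx, hcard] at this
    omega
  -- even elements are induced by matrices
  have hex : ∀ p : ε.ker, ∃ A, Maps A (φ p.1) := by
    intro p
    rcases maps_or hφ p.1 with h | ⟨A, hA⟩
    · exact h
    exfalso
    -- an odd permutation swaps points and lines
    have key : ∀ q : P6, ∀ j : Fin 114, ((φ q j).1 < 57 ↔ j.1 < 57) ↔ ε q = 1 := by
      intro q
      have hq : q ∈ Subgroup.closure (y '' {g | g < 6}) := closure_y ▸ Subgroup.mem_top q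
      have hswap : ∀ g < 6, ∀ j : Fin 114,
          ((tperm tabQ 6 114 g j).1 < 57 ↔ ¬ j.1 < 57) := by
        intro g hg j
        rw [tperm_apply perm_ok hg]
        exact (show ∀ g < 6, ∀ j < 114, (img tabQ 6 g j < 57 ↔ ¬ j < 57) by decide +kernel)
          g hg j.1 j.2
      induction hq using Subgroup.closure_induction_left with
      | one => intro j; simp
      | mul_left z hz r _ ih =>
        obtain ⟨g, hg, rfl⟩ := hz
        intro j
        rw [map_mul, Equiv.Perm.mul_apply, hφ g hg, hswap g hg, map_mul, hε g hg]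
        have := ih j
        rcases Int.units_eq_one_or (ε r) with e | e <;> rw [e] at this ⊢ <;>
          by_cases h1 : (φ r j).1 < 57 <;> by_cases h2 : j.1 < 57 <;> simp_all
      | inv_mul_cancel z hz r _ ih =>
        obtain ⟨g, hg, rfl⟩ := hz
        intro j
        rw [inv_eq_of_mul_eq_one_left (y_mul_self g), map_mul, Equiv.Perm.mul_apply, hφ g hg,
          hswap g hg, map_mul, hε g hg]
        have := ih j
        rcases Int.units_eq_one_or (ε r) with e | e <;> rw [e] at this ⊢ <;>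
          by_cases h1 : (φ r j).1 < 57 <;> by_cases h2 : j.1 < 57 <;> simp_all
    have h1 := (hA 0).1
    rw [Equiv.Perm.mul_apply] at h1
    have h2 := (key p.1 (tperm tabQ 6 114 0 0)).2 p.2
    have h3 : ¬ (tperm tabQ 6 114 0 0).1 < 57 := by
      rw [tperm_apply perm_ok (by omega)]; decide +kernel
    exact h3 (h2.1 (h1.1 (by decide)))
  choose A hA using hex
  let θ : ε.ker → Matrix.ProjectiveSpecialLinearGroup (Fin 3) (ZMod 7) :=
    fun p => QuotientGroup.mk (A p)
  have hθ : ∀ p q, θ (p * q) = θ p * θ q := by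
    intro p q
    show QuotientGroup.mk (A (p * q)) = QuotientGroup.mk (A p * A q)
    rw [QuotientGroup.eq]
    refine mem_center ?_
    have h1 : (A p * A q, φ p.1 * φ q.1) ∈ mapsGroup :=
      mul_mem (show (A p, φ p.1) ∈ mapsGroup from hA p) (show (A q, φ q.1) ∈ mapsGroup from hA q)
    have h2 : (A (p * q), φ p.1 * φ q.1) ∈ mapsGroup := by
      rw [← map_mul]; exact hA (p * q)
    have h3 := mul_mem (inv_mem h2) h1
    simp only [Prod.inv_mk, Prod.mk_mul_mk, inv_mul_cancel] at h3
    exact h3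
  let Θ : ε.ker →* Matrix.ProjectiveSpecialLinearGroup (Fin 3) (ZMod 7) := MonoidHom.mk' θ hθ
  have hΘ : Function.Injective Θ := by
    rw [injective_iff_map_eq_one]
    intro p hp
    refine Subtype.ext (hinj ?_)
    rw [Subgroup.coe_one, map_one]
    have hc : A p ∈ Subgroup.center _ := (QuotientGroup.eq_one_iff _).1 hp
    obtain ⟨c, -, hc⟩ := Matrix.SpecialLinearGroup.mem_center_iff.1 hc
    have hc' : ∀ v : Fin 3 → ZMod 7, (A p).1 *ᵥ v = c • v := by
      intro v
      rw [← hc]
      funext i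
      simp [Matrix.mulVec_diagonal]
    refine Equiv.ext fun j => ?_
    obtain ⟨hside, l, hl, heq⟩ := hA p j
    have hd : ∀ i k : Fin 114, (i.1 < 57 ↔ k.1 < 57) → ∀ m : ZMod 7,
        m • vec i.1 = vec k.1 → m ≠ 0 → i = k := by
      intro i k hik m hm hm0
      by_contra hne
      have h1 := List.all_eq_true.1 (List.all_eq_true.1 distinct_ok i.1
        (List.mem_range.2 i.2)) k.1 (List.mem_range.2 k.2)
      simp only [Bool.or_eq_true, Bool.not_eq_true', beq_eq_false_iff_ne, ne_eq, Nat.beq_eq,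
        List.all_eq_true, Fin.val_inj] at h1
      rcases h1 with (h1 | h1) | h1
      · exact h1 (Bool.eq_iff_iff.2 (by simpa [Nat.blt_eq] using hik))
      · exact hne h1
      · have h2 := h1 m ((show ∀ m : ZMod 7, m ≠ 0 → m ∈ units7 by decide) m hm0)
        have h3 : ((List.finRange 3).all fun q => m * vec i.1 q == vec k.1 q) = true :=
          List.all_eq_true.2 fun q _ => beq_iff_eq.2 (congrFun hm q)
        simp [h3] at h2
    rw [Equiv.Perm.one_apply]
    have hc0 : c ≠ 0 := by
      rintro rfl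
      have h1 := (A p).2
      rw [← hc] at h1
      simp at h1
    by_cases hj : j.1 < 57
    · rw [if_pos hj, hc'] at heq
      exact (hd _ _ hside (l⁻¹ * c) (by rw [mul_smul, heq, smul_smul, inv_mul_cancel₀ hl, one_smul])
        (mul_ne_zero (inv_ne_zero hl) hc0)).symm
    · have hT : (A p)⁻¹.1ᵀ *ᵥ vec j.1 = c⁻¹ • vec j.1 := by
        have h1 : (A p).1ᵀ *ᵥ ((A p)⁻¹.1ᵀ *ᵥ vec j.1) = vec j.1 := by
          rw [Matrix.mulVec_mulVec, ← Matrix.transpose_mul, ← Matrix.SpecialLinearGroup.coe_mul,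
            inv_mul_cancel, Matrix.SpecialLinearGroup.coe_one, Matrix.transpose_one,
            Matrix.one_mulVec]
        rw [← hc, Matrix.scalar_apply, Matrix.diagonal_transpose] at h1
        conv_rhs => rw [← h1]
        funext i
        rw [Pi.smul_apply, Matrix.mulVec_diagonal, smul_eq_mul, ← mul_assoc, inv_mul_cancel₀ hc0,
          one_mul]
      rw [if_neg hj, hT] at heq
      exact (hd _ _ hside (l⁻¹ * c⁻¹) (by rw [mul_smul, heq, smul_smul, inv_mul_cancel₀ hl, one_smul])
        (mul_ne_zero (inv_ne_zero hl) (inv_ne_zero hc0))).symm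
  have hbij := (Nat.bijective_iff_injective_and_card Θ).2 ⟨hΘ, by rw [hker, card_psl]⟩
  exact ⟨MulEquiv.ofBijective Θ hbij⟩

end Cfsg.Lib.CosetEnum.ONL37
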