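import Cfsg.Agent.Lib.CosetEnum.Groups.ONSimple
import Cfsg.Agent.Lib.CosetEnum.BaseFix
import Cfsg.Agent.Lib.CosetEnum.ONOut.CheckElems
import Cfsg.Agent.Lib.CosetEnum.ONOut.CheckCycles
import Cfsg.Agent.Lib.CosetEnum.ONOut.CheckExcl
import Cfsg.Agent.Lib.CosetEnum.ONOut.CheckHit0
import Cfsg.Agent.Lib.CosetEnum.ONOut.CheckHit1
import Cfsg.Agent.Lib.CosetEnum.ONOut.CheckHit2
import Cfsg.Agent.Lib.CosetEnum.ONOut.CheckOut
import Cfsg.Agent.Lib.CosetEnum.ONOut.Scan
import Cfsg.Prelude.Def_KGroupFacts

/-!
# The outer automorphism group of the O'Nan group has order two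

An automorphism can be moved by an inner one so that it fixes an element `h` of order six normalising
a subgroup of order nineteen and sends a generator `u` of that subgroup to `u`, `u^2` or `u^4`; the
image of a third generator lies in the centraliser of `h`, which has 72 elements.
-/

set_option autoImplicit false
set_option maxRecDepth 100000
set_option maxHeartbeats 1000000
set_option linter.style.haveILetI false

namespace Cfsg.Lib.CosetEnum.ONOut

open Cfsg.Spor

/-- The value of a word. -/
def val (w : List ℕ) : Cfsg.Spor.ON := wordVal ONPres.x w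

theorem val_nil : val [] = 1 := rfl

theorem val_append (u v : List ℕ) : val (u ++ v) = val v * val u := wordVal_append ONPres.x u v

theorem val_reverse (w : List ℕ) : val w.reverse = (val w)⁻¹ :=
  wordVal_reverse ONPres.x_mul_self w

theorem val_rep (w : List ℕ) : ∀ n : ℕ, val (rep n w) = val w ^ n
  | 0 => by simp [rep, val, wordVal]
  | n + 1 => by
    rw [rep, List.replicate_succ, List.flatten_cons, val_append, ← rep, val_rep w n, pow_succ]

instance instFiniteON : Finite Cfsg.Spor.ON := ONPres.card_H.2.1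

theorem card_ON : Nat.card Cfsg.Spor.ON = 460815505920 := ONPres.card_H.2.2

/-- The permutation action. -/
noncomputable def perm : Cfsg.Spor.ON →* Equiv.Perm (Fin 122760) := ONPres.exists_table_hom.choose

theorem perm_x : ∀ g < 7, perm (ONPres.x g) = tperm ONMain.tabP 7 122760 g :=
  ONPres.exists_table_hom.choose_spec

theorem tab_ok : permOK ONMain.tabP 7 122760 ONMain.cert.R1 122760 0 = true := ONMain.cert_valid.perm

theorem letters_lt {w : List ℕ} (hw : letters w = true) : ∀ g ∈ w, g < 7 := by
  simpa [letters, Nat.blt_eq] using hw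

theorem perm_word {w : List ℕ} (hw : ∀ g ∈ w, g < 7) (p : Fin 122760) :
    (perm (wordVal ONPres.x w) p).1 = owalk w p.1 := by
  rw [map_wordVal_tperm ONPres.x perm (by decide) perm_x hw, wordVal_tperm tab_ok (by decide) w hw]
  rfl

theorem perm_val {w : List ℕ} (hw : letters w = true) (p : Fin 122760) :
    (perm (val w) p).1 = owalk w p.1 := perm_word (letters_lt hw) p

/-- The first base point. -/
def pt0 : Fin 122760 := ⟨0, by norm_num⟩

/-- The second base point. -/
def pt16 : Fin 122760 := ⟨16, by norm_num⟩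

/-- The third base point. -/
def pt75 : Fin 122760 := ⟨75, by norm_num⟩

theorem bpts_eq : bpts = [0, 16, 75] := by decide +kernel

theorem levels_pts : basePts ONPres.levels = [0, 16, 75] := bpts_eq

theorem eq_one_of_fix {g : Cfsg.Spor.ON} (h0 : perm g pt0 = pt0) (h16 : perm g pt16 = pt16)
    (h75 : perm g pt75 = pt75) : g = 1 := by
  have h1 := base_mul_le ONPres.x perm tab_ok (by decide) perm_x ONPres.base_ok ⊤
    (Subgroup.zpowers g) le_top (fun u _ => Subgroup.mem_top _) (by
      intro t ht p hp
      obtain ⟨i, rfl⟩ := Subgroup.mem_zpowers_iff.1 ht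
      rw [map_zpow]
      refine Equiv.Perm.zpow_apply_eq_self_of_apply_eq_self ?_ i
      rw [levels_pts] at hp
      simp only [List.mem_cons, List.not_mem_nil, or_false] at hp
      rcases hp with h | h | h
      · rw [show p = pt0 from Fin.ext h, h0]
      · rw [show p = pt16 from Fin.ext h, h16]
      · rw [show p = pt75 from Fin.ext h, h75])
  rw [Subgroup.card_top, card_ON, ONPres.baseSize_levels] at h1
  have h3 : Nat.card (Subgroup.zpowers g) ≤ 1 :=
    Nat.le_of_mul_le_mul_left (h1.trans (mul_one _).ge) (by norm_num)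
  exact Subgroup.zpowers_eq_bot.1 (Subgroup.eq_bot_of_card_le _ h3)

theorem ext_pts {a b : Cfsg.Spor.ON} (h0 : perm a pt0 = perm b pt0)
    (h16 : perm a pt16 = perm b pt16) (h75 : perm a pt75 = perm b pt75) : a = b := by
  have key : ∀ p : Fin 122760, perm a p = perm b p → perm (b⁻¹ * a) p = p := fun p hp => by
    rw [map_mul, Equiv.Perm.mul_apply, hp, map_inv, Equiv.Perm.inv_def, Equiv.symm_apply_apply]
  exact (inv_mul_eq_one.1 (eq_one_of_fix (key _ h0) (key _ h16) (key _ h75))).symm

theorem sameW_iff {a b : List ℕ} (ha : letters a = true) (hb : letters b = true) :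
    sameW a b = true ↔ val a = val b := by
  simp only [sameW, bpts_eq, List.all_cons, List.all_nil, Bool.and_true, Bool.and_eq_true, Nat.beq_eq]
  constructor
  · rintro ⟨h0, h1, h2⟩
    refine ext_pts ?_ ?_ ?_ <;> refine Fin.ext ?_ <;> rw [perm_val ha, perm_val hb]
    · exact h0
    · exact h1
    · exact h2
  · intro h
    refine ⟨?_, ?_, ?_⟩
    · show owalk a pt0.1 = owalk b pt0.1
      rw [← perm_val ha, ← perm_val hb, h]
    · show owalk a pt16.1 = owalk b pt16.1
      rw [← perm_val ha, ← perm_val hb, h]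
    · show owalk a pt75.1 = owalk b pt75.1
      rw [← perm_val ha, ← perm_val hb, h]

theorem val_congr {a b : List ℕ} (ha : letters a = true) (hb : letters b = true)
    (h : sameW a b = true) : val a = val b := (sameW_iff ha hb).1 h

theorem val_ne {a b : List ℕ} (ha : letters a = true) (hb : letters b = true)
    (h : sameW a b = false) : val a ≠ val b := fun e => by
  rw [(sameW_iff ha hb).2 e] at h
  exact absurd h (by decide)

theorem letters_append {a b : List ℕ} (ha : letters a = true) (hb : letters b = true) :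
    letters (a ++ b) = true := by
  simp only [letters, List.all_append, Bool.and_eq_true]
  exact ⟨ha, hb⟩

theorem letters_reverse {a : List ℕ} (ha : letters a = true) : letters a.reverse = true := by
  simpa [letters] using ha

theorem letters_rep {w : List ℕ} (hw : letters w = true) : ∀ n : ℕ, letters (rep n w) = true
  | 0 => rfl
  | n + 1 => by
    rw [rep, List.replicate_succ, List.flatten_cons]
    exact letters_append hw (letters_rep hw n)

theorem letters_getD {ws : List (List ℕ)} (h : ws.all letters = true) (i : ℕ) :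
    letters (ws.getD i []) = true := by
  rcases Nat.lt_or_ge i ws.length with hi | hi
  · rw [List.getD_eq_getElem _ _ hi]
    simp only [List.all_eq_true] at h
    exact h _ (List.getElem_mem _)
  · rw [List.getD_eq_default _ _ hi]
    rfl

theorem letters_flatMap {V : ℕ → List ℕ} (hV : ∀ l, letters (V l) = true) :
    ∀ w : List ℕ, letters (w.flatMap V) = true
  | [] => rfl
  | l :: w => by rw [List.flatMap_cons]; exact letters_append (hV l) (letters_flatMap hV w)

theorem letters_sub {U H X : List ℕ} (hU : letters U = true) (hH : letters H = true)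
    (hX : letters X = true) (w : List ℕ) : letters (subW U H X w) = true := by
  refine letters_flatMap (fun l => ?_) w
  match l with
  | 0 => exact hU
  | 1 => exact hH
  | 2 => exact hX
  | 3 => exact letters_reverse hU
  | 4 => exact letters_reverse hH
  | _ + 5 => exact letters_reverse hX

theorem map_subW (α : Cfsg.Spor.ON →* Cfsg.Spor.ON) {U H X U' H' X' : List ℕ}
    (eu : α (val U) = val U') (eh : α (val H) = val H') (ex : α (val X) = val X') :
    ∀ w : List ℕ, α (val (subW U H X w)) = val (subW U' H' X' w)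
  | [] => map_one α
  | l :: w => by
    rw [subW, subW, List.flatMap_cons, List.flatMap_cons, val_append, val_append, map_mul]
    congr 1
    · exact map_subW α eu eh ex w
    · match l with
      | 0 => exact eu
      | 1 => exact eh
      | 2 => exact ex
      | 3 => show α (val U.reverse) = val U'.reverse
             rw [val_reverse, val_reverse, map_inv, eu]
      | 4 => show α (val H.reverse) = val H'.reverse
             rw [val_reverse, val_reverse, map_inv, eh]
      | _ + 5 => show α (val X.reverse) = val X'.reverse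
                 rw [val_reverse, val_reverse, map_inv, ex]

/-- The element of order nineteen. -/
def elU : Cfsg.Spor.ON := val wordU

/-- The element of order six. -/
def elH : Cfsg.Spor.ON := val wordH

/-- The third generator. -/
def elX : Cfsg.Spor.ON := val wordX

/-- The facts on the three elements. -/
structure Elems : Prop where
  lU : letters wordU = true
  lH : letters wordH = true
  lX : letters wordX = true
  lX2 : letters wordX2 = true
  lR : letters wordR = true
  lC : candWords.all letters = true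
  r16 : owalk wordR 16 = 0
  u0 : owalk wordU 0 = 0
  h16 : owalk wordH 16 = 16
  pow : elU ^ 19 = 1
  ne : elU ≠ 1
  conj : elH * elU * elH⁻¹ = elU ^ 8
  xcomm : elX * elH = elH * elX
  t1 : val (rep 11 (subW wordU wordH wordX [2, 0])) = 1
  t2 : val (rep 2 (subW wordU wordH wordX [2, 2, 0])) = 1
  x2 : val wordX2 ≠ elX
  gens : ∀ g < 7, val (subW wordU wordH wordX (genW.getD g [])) = ONPres.x g
  only : ∀ i < 72, val (candWords.getD i []) * elU = elU * val (candWords.getD i []) →
    val (candWords.getD i []) = 1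

theorem elems : Elems := by
  have h := elems_ok
  simp only [elemsOK, Bool.and_eq_true, Bool.not_eq_true',
    Nat.beq_eq] at h
  obtain ⟨⟨⟨⟨⟨⟨⟨⟨⟨⟨⟨⟨⟨⟨⟨⟨⟨⟨⟨h1, h2⟩, h3⟩, h4⟩, h5⟩, h6⟩, -⟩, -⟩, h9⟩, h10⟩, h11⟩, h12⟩, h13⟩, h14⟩, h15⟩, h16⟩, h17⟩, h18⟩, h19⟩, h20⟩ := h
  simp only [List.all_eq_true, List.mem_range, Bool.and_eq_true, Bool.or_eq_true,
    Bool.not_eq_true'] at h19 h20
  refine ⟨h1, h2, h3, h4, h5, h6, h9, h10, h11, ?_, ?_, ?_, ?_, ?_, ?_, ?_, ?_, ?_⟩
  · rw [elU, ← val_rep, val_congr (letters_rep h1 19) rfl h12, val_nil]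
  · exact fun e => val_ne h1 rfl h13 (by rw [val_nil]; exact e)
  · have := val_congr (letters_append (letters_append (letters_reverse h2) h1) h2) (letters_rep h1 8) h14
    rw [val_append, val_append, val_reverse, val_rep, ← mul_assoc] at this
    exact this
  · have := val_congr (letters_append h3 h2) (letters_append h2 h3) h15
    rw [val_append, val_append] at this
    exact this.symm
  · rw [val_congr (letters_rep (letters_sub h1 h2 h3 _) _) rfl h16, val_nil]
  · rw [val_congr (letters_rep (letters_sub h1 h2 h3 _) _) rfl h17, val_nil]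
  · exact (val_ne h3 h4 h18).symm
  · intro g hg
    rw [val_congr (letters_sub h1 h2 h3 _) (by simpa [letters, Nat.blt_eq] using hg) (h19 g hg).2]
    show wordVal ONPres.x [g] = ONPres.x g
    rw [wordVal, wordVal, one_mul, gen, if_neg (by unfold eps; omega)]
  · intro i hi hc
    have lc := letters_getD h6 i
    rcases h20 i hi with h | h
    · exact val_congr lc rfl h
    · refine absurd ?_ (val_ne (letters_append h1 lc) (letters_append lc h1) h)
      rw [val_append, val_append]
      exact hc

theorem orderOf_elU : orderOf elU = 19 := by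
  haveI : Fact (Nat.Prime 19) := ⟨by norm_num⟩
  exact orderOf_eq_prime elems.pow elems.ne

/-! ### Stabilisers -/

theorem perm_elU (p : Fin 122760) : (perm elU p).1 = owalk wordU p.1 := perm_val elems.lU p

theorem perm_elH (p : Fin 122760) : (perm elH p).1 = owalk wordH p.1 := perm_val elems.lH p

theorem elU_pt0 : perm elU pt0 = pt0 := Fin.ext ((perm_elU pt0).trans elems.u0)

theorem elH_pt16 : perm elH pt16 = pt16 := Fin.ext ((perm_elH pt16).trans elems.h16)

theorem elH_pt0 : perm elH pt0 = pt0 :=
  Fin.ext ((perm_elH pt0).trans (show owalk wordH 0 = 0 by decide +kernel))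

theorem subWords_fix : (ONMain.subWords.all fun w =>
    (w.all fun g => Nat.blt g 7) && Nat.beq (owalk w 0) 0) = true := by decide +kernel

/-- The stabiliser of the first point. -/
noncomputable def stab0 : Subgroup Cfsg.Spor.ON :=
  (MulAction.stabilizer (Equiv.Perm (Fin 122760)) pt0).comap perm

theorem mem_stab0 {a : Cfsg.Spor.ON} : a ∈ stab0 ↔ perm a pt0 = pt0 := Iff.rfl

theorem stab0_eq : stab0 = Subgroup.closure (wordVal ONPres.x '' {u | u ∈ ONMain.subWords}) := by
  refine Eq.trans ?_ ONPres.H_eq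
  symm
  refine Subgroup.eq_of_le_of_card_ge ?_ ?_
  · rw [ONPres.H_eq, Subgroup.closure_le]
    rintro _ ⟨u, hu, rfl⟩
    have h := subWords_fix
    simp only [List.all_eq_true, Bool.and_eq_true, Nat.blt_eq, Nat.beq_eq] at h
    exact mem_stab0.2 (Fin.ext ((perm_word (h u hu).1 pt0).trans (h u hu).2))
  · have hb : BaseOK ONMain.tabP 7 122760 [ONBase.level0] :=
      ⟨by decide +kernel, ONBase.orbit0_ok, trivial⟩
    have h1 := base_mul_le ONPres.x perm tab_ok (by decide) perm_x hb ⊤ stab0 le_top
      (fun u _ => Subgroup.mem_top _) (by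
        intro t ht p hp
        rw [show basePts [ONBase.level0] = [0] by decide +kernel, List.mem_singleton] at hp
        rw [show p = pt0 from Fin.ext hp]
        exact ht)
    rw [Subgroup.card_top, card_ON, show baseSize [ONBase.level0] = 122760 from rfl] at h1
    have h2 : Nat.card ONPres.H = 3753792 := ONPres.card_H.1
    rw [h2]
    omega

theorem member_stab {O Pos : Tab} {c : ℕ}
    (h : orbitOK ONMain.tabP O Pos 7 122760 c ONMain.subWords c 0 = true)
    {a : Cfsg.Spor.ON} (ha : perm a pt0 = pt0) :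
    ∀ i : Fin 122760, member O Pos c i.1 = true → member O Pos c (perm a i).1 = true := by
  have hget := fun j (hj : j < c) => orbitOK_get h j (Nat.zero_le _) (by omega)
  have ha0 : a ∈ stab0 := ha
  rw [stab0_eq] at ha0
  have ha' : a ∈ Submonoid.closure (wordVal ONPres.x '' {u | u ∈ ONMain.subWords}) := by
    rw [← Subgroup.closure_toSubmonoid_of_finite]
    exact ha0
  clear ha ha0
  induction ha' using Submonoid.closure_induction with
  | mem u hu =>
    obtain ⟨u, hu, rfl⟩ := hu
    intro i hi
    simp only [member, Bool.and_eq_true, Nat.blt_eq, Nat.beq_eq] at hi ⊢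
    obtain ⟨hlt, h1, h2⟩ := (hget _ hi.1).2.2.2 u hu
    rw [hi.2] at h1 h2
    rw [perm_word hlt]
    exact ⟨h1, h2⟩
  | one => intro i hi; simpa using hi
  | mul b c' _ _ hb hc =>
    intro i hi
    rw [map_mul, Equiv.Perm.mul_apply]
    exact hb _ (hc _ hi)

theorem member_stab_eq {O Pos : Tab} {c : ℕ}
    (h : orbitOK ONMain.tabP O Pos 7 122760 c ONMain.subWords c 0 = true)
    {a : Cfsg.Spor.ON} (ha : perm a pt0 = pt0) (i : Fin 122760) :
    member O Pos c (perm a i).1 = member O Pos c i.1 := by
  rw [Bool.eq_iff_iff]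
  refine ⟨fun h1 => ?_, member_stab h ha i⟩
  have := member_stab h (a := a⁻¹) (mem_stab0.1 (inv_mem (mem_stab0.2 ha))) (perm a i) h1
  rwa [← Equiv.Perm.mul_apply, ← map_mul, inv_mul_cancel, map_one, Equiv.Perm.one_apply] at this

theorem labOf_stab {a : Cfsg.Spor.ON} (ha : perm a pt0 = pt0) (i : Fin 122760) :
    labOf (perm a i).1 = labOf i.1 := by
  rw [labOf, labOf, member_stab_eq ONOrb.orbit0_ok ha, member_stab_eq ONOrb.orbit1_ok ha]

theorem orb1_ok' :
    orbitOK ONMain.tabP ONBase.orb1 ONBase.pos1 7 122760 5586 ONMain.subWords 5586 0 = true := by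
  rw [show ONMain.subWords = ONBase.words1 by decide +kernel]
  exact ONBase.orbit1_ok

theorem member16 : member ONBase.orb1 ONBase.pos1 5586 16 = true := by decide +kernel

/-- The stabiliser of the first two points is listed. -/
theorem exists_two_point {g : Cfsg.Spor.ON} (h0 : perm g pt0 = pt0) (h16 : perm g pt16 = pt16) :
    ∃ k < 672, g = val (kWords.getD k []) ∧ (perm g pt75).1 = kPts.getD k 0 := by
  classical
  have hk := kList_ok
  simp only [kOK, Bool.and_eq_true, List.all_eq_true, List.mem_range, Nat.beq_eq, force_eq,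
    decide_eq_true_eq] at hk
  obtain ⟨⟨⟨hp, -⟩, hnd⟩, hall⟩ := hk
  let K : Subgroup Cfsg.Spor.ON :=
    stab0 ⊓ (MulAction.stabilizer (Equiv.Perm (Fin 122760)) pt16).comap perm
  have hle : Nat.card K ≤ 672 := by
    have hb : BaseOK ONMain.tabP 7 122760 [ONBase.level0, ONBase.level1] :=
      ⟨ONBase.nest0_ok, ONBase.orbit0_ok, by decide +kernel, ONBase.orbit1_ok, trivial⟩
    have h1 := base_mul_le ONPres.x perm tab_ok (by decide) perm_x hb ⊤ K le_top
      (fun u _ => Subgroup.mem_top _) (by
        intro t ht p hp'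
        rw [show basePts [ONBase.level0, ONBase.level1] = [0, 16] by decide +kernel] at hp'
        simp only [List.mem_cons, List.not_mem_nil, or_false] at hp'
        rcases hp' with h | h
        · rw [show p = pt0 from Fin.ext h]; exact ht.1
        · rw [show p = pt16 from Fin.ext h]; exact ht.2)
    rw [Subgroup.card_top, card_ON,
      show baseSize [ONBase.level0, ONBase.level1] = 685737360 by decide +kernel] at h1
    exact Nat.le_of_mul_le_mul_left
      (h1.trans (by norm_num : (460815505920 : ℕ) ≤ 685737360 * 672)) (by norm_num)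
  have hf : ∀ k : Fin 672, val (kWords.getD k.1 []) ∈ K := fun k => by
    obtain ⟨⟨⟨hl, h1⟩, h2⟩, -⟩ := hall k.1 k.2
    exact ⟨Fin.ext ((perm_val hl pt0).trans h1), Fin.ext ((perm_val hl pt16).trans h2)⟩
  have hval : ∀ k : Fin 672, (perm (val (kWords.getD k.1 [])) pt75).1 = kPts.getD k.1 0 := fun k =>
    (perm_val (hall k.1 k.2).1.1.1 pt75).trans (hall k.1 k.2).2
  have hinj : Function.Injective fun k : Fin 672 => (⟨_, hf k⟩ : K) := by
    intro i j h
    have e : kPts.getD i.1 0 = kPts.getD j.1 0 := by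
      rw [← hval, ← hval, show val (kWords.getD i.1 []) = val (kWords.getD j.1 []) from congrArg Subtype.val h]
    rw [List.getD_eq_getElem _ _ (by rw [hp]; exact i.2), List.getD_eq_getElem _ _ (by rw [hp]; exact j.2)] at e
    exact Fin.ext ((hnd.getElem_inj_iff).1 e)
  have hb := (Nat.bijective_iff_injective_and_card _).2 ⟨hinj, le_antisymm
    (Nat.card_le_card_of_injective _ hinj) (hle.trans (Nat.card_fin 672).ge)⟩
  obtain ⟨k, hk⟩ := hb.2 ⟨g, h0, h16⟩
  have e : val (kWords.getD k.1 []) = g := congrArg Subtype.val hk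
  exact ⟨k.1, k.2, e.symm, by rw [← hval k, e]⟩

/-! ### The element of order nineteen -/

theorem scan_get : ∀ {m s i : ℕ}, scanOK m s = true → s ≤ i → i < s + m →
    (owalk wordU i = i → i = 0) ∧ (owalk wordH i = i → i ∈ fixH)
  | 0, s, i, _, h1, h2 => by omega
  | m + 1, s, i, h, h1, h2 => by
    rw [scanOK, force_eq, Bool.and_eq_true] at h
    rcases Nat.eq_or_lt_of_le h1 with rfl | h1
    · have h' := h.1
      simp only [Bool.and_eq_true, Bool.or_eq_true, Bool.not_eq_true', List.contains_eq_mem,
        decide_eq_true_eq, Nat.beq_eq, ← Bool.not_eq_true] at h'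
      exact ⟨fun e => h'.1.resolve_right fun n => n e, fun e => h'.2.resolve_right fun n => n e⟩
    · exact scan_get h.2 (by omega) (by omega)

theorem fix_U {p : Fin 122760} (h : perm elU p = p) : p = pt0 :=
  Fin.ext ((scan_get scan_ok (Nat.zero_le p.1) (by have := p.2; omega)).1
    ((perm_elU p).symm.trans (congrArg Fin.val h)))

theorem fix_H {p : Fin 122760} (h : perm elH p = p) : p.1 ∈ fixH :=
  (scan_get scan_ok (Nat.zero_le p.1) (by have := p.2; omega)).2
    ((perm_elH p).symm.trans (congrArg Fin.val h))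

theorem cycle_get : ∀ {m s k : ℕ}, cycleOK m s = true → s ≤ k → k < s + m →
    cycPos.getP k < 5586 ∧ cycTab.getP (cycPos.getP k) = ONBase.orb1.getP k / B / B
  | 0, s, k, _, h1, h2 => by omega
  | m + 1, s, k, h, h1, h2 => by
    rw [cycleOK, force_eq, force_eq, Bool.and_eq_true] at h
    rcases Nat.eq_or_lt_of_le h1 with rfl | h1
    · have h' := h.1
      simp only [Bool.and_eq_true, Nat.blt_eq, Nat.beq_eq] at h'
      exact h'
    · exact cycle_get h.2 (by omega) (by omega)

theorem wit_facts : (∀ j < 294, letters (repJ.getD j []) = true) ∧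
    ∀ j < 294, (∀ i < 18, owalk wordU (cyc j i) = cyc j (i + 1)) ∧ cyc j 0 < 122760 ∧
      owalk (repJ.getD j []) 0 = 0 ∧ owalk (repJ.getD j []) 16 = cyc j 0 ∧
      (j = 0 ∨ (witJ.getD j 0 < 19 ∧ labOf (owalk wordR (cyc 0 (witJ.getD j 0))) ≠
        labOf (owalk wordR (owalk (repJ.getD j []).reverse (cyc j (witJ.getD j 0)))))) := by
  have h := wit_ok
  simp only [witOK, Bool.and_eq_true, force_eq] at h
  obtain ⟨⟨-, hl⟩, h⟩ := h
  refine ⟨fun j _ => letters_getD hl j, fun j hj => ?_⟩
  simp only [List.all_eq_true, List.mem_range, Bool.and_eq_true, Bool.or_eq_true, Nat.beq_eq,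
    Nat.blt_eq, Bool.not_eq_true'] at h
  obtain ⟨⟨⟨⟨h1, h2⟩, h3⟩, h4⟩, h5⟩ := h j hj
  refine ⟨h1, h2, h3, h4, h5.imp id fun h5 => ⟨h5.1, fun e => ?_⟩⟩
  have := h5.2
  rw [e, beq_self_eq_true] at this
  exact absurd this (by decide)

theorem perm_pow_cyc {j : ℕ} (hj : j < 294) : ∀ i < 19,
    (perm (elU ^ i) ⟨cyc j 0, (wit_facts.2 j hj).2.1⟩).1 = cyc j i
  | 0, _ => by simp
  | i + 1, hi => by
    rw [pow_succ', map_mul, Equiv.Perm.mul_apply, ← (wit_facts.2 j hj).1 i (by omega),
      ← perm_pow_cyc hj i (by omega)]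
    exact perm_elU _

theorem cyc00 : cyc 0 0 = 16 := by decide +kernel

/-- The element of order nineteen is self-centralising. -/
theorem eq_pow_of_commute {c : Cfsg.Spor.ON} (hc : Commute c elU) : ∃ i : ℕ, c = elU ^ i := by
  have h0 : ∀ d : Cfsg.Spor.ON, Commute d elU → perm d pt0 = pt0 := by
    intro d hd
    refine fix_U ?_
    rw [← Equiv.Perm.mul_apply, ← map_mul, ← hd.eq, map_mul, Equiv.Perm.mul_apply, elU_pt0]
  have hm := member_stab orb1_ok' (h0 c hc) pt16 member16
  simp only [member, Bool.and_eq_true, Nat.blt_eq, Nat.beq_eq] at hm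
  obtain ⟨hk, hpos⟩ := cycle_get cycle_ok (Nat.zero_le _)
    (show ONBase.pos1.getP (perm c pt16).1 < 0 + 5586 by omega)
  rw [hm.2] at hpos
  generalize cycPos.getP (ONBase.pos1.getP (perm c pt16).1) = q at hk hpos
  obtain ⟨j, hj, i, hi, hji⟩ : ∃ j < 294, ∃ i < 19, cyc j i = (perm c pt16).1 :=
    ⟨q / 19, by omega, q % 19, Nat.mod_lt _ (by norm_num), by rw [cyc, Nat.div_add_mod]; exact hpos⟩
  obtain ⟨-, hwit⟩ := wit_facts
  let pj : Fin 122760 := ⟨cyc j 0, (hwit j hj).2.1⟩
  set c' := (elU ^ i)⁻¹ * c with hc'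
  have hcc : Commute c' elU := (Commute.refl elU).pow_left i |>.inv_left |>.mul_left hc
  have hst : perm c' pt16 = pj := by
    rw [hc', map_mul, Equiv.Perm.mul_apply, map_inv, Equiv.Perm.inv_def, Equiv.symm_apply_eq]
    exact Fin.ext ((perm_pow_cyc hj i hi).trans hji).symm
  have h16 : (⟨cyc 0 0, (hwit 0 (by norm_num)).2.1⟩ : Fin 122760) = pt16 := by
    simp only [cyc00]
    rfl
  have hj0 : j = 0 := by
    rcases (hwit j hj).2.2.2.2 with h | ⟨hw, hne⟩
    · exact h
    · exfalso
      apply hne
      have lt := wit_facts.1 j hj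
      set t := val (repJ.getD j [])
      set r := val wordR
      set w := witJ.getD j 0
      have ht0 : perm t pt0 = pt0 := Fin.ext ((perm_val lt pt0).trans (hwit j hj).2.2.1)
      have ht16 : perm t pt16 = pj := Fin.ext ((perm_val lt pt16).trans (hwit j hj).2.2.2.1)
      have hr : perm r pt16 = pt0 := Fin.ext ((perm_val elems.lR pt16).trans elems.r16)
      let z : Fin 122760 := perm (elU ^ w) pt16
      have hz : z.1 = cyc 0 w := by
        show (perm (elU ^ w) pt16).1 = cyc 0 w
        rw [← h16]
        exact perm_pow_cyc (by norm_num) w hw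
      have hcz : (perm c' z).1 = cyc j w := by
        show (perm c' (perm (elU ^ w) pt16)).1 = cyc j w
        rw [← Equiv.Perm.mul_apply, ← map_mul, (hcc.pow_right w).eq, map_mul, Equiv.Perm.mul_apply, hst]
        exact perm_pow_cyc hj w hw
      have hd : perm (t⁻¹ * c') pt16 = pt16 := by
        rw [map_mul, Equiv.Perm.mul_apply, hst, map_inv, Equiv.Perm.inv_def, Equiv.symm_apply_eq, ht16]
      have hd' : perm (r * (t⁻¹ * c') * r⁻¹) pt0 = pt0 := by
        rw [map_mul, map_mul, map_inv perm r, Equiv.Perm.mul_apply, Equiv.Perm.mul_apply,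
          Equiv.Perm.inv_def, show (perm r).symm pt0 = pt16 by rw [Equiv.symm_apply_eq, hr], hd, hr]
      have e := labOf_stab hd' (perm r z)
      rw [← hz, ← hcz, ← perm_val elems.lR z]
      have e' : owalk (repJ.getD j []).reverse (perm c' z).1 = (perm (t⁻¹ * c') z).1 := by
        rw [← perm_val (letters_reverse lt), val_reverse, ← Equiv.Perm.mul_apply, ← map_mul]
      rw [e', ← perm_val elems.lR]
      have : perm (r * (t⁻¹ * c') * r⁻¹) (perm r z) = perm r (perm (t⁻¹ * c') z) := by
        simp [map_mul, map_inv]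
      rw [this] at e
      exact e.symm
  subst hj0
  obtain ⟨k, hk', hck, hck75⟩ := exists_two_point (h0 c' hcc) (hst.trans h16)
  have hkl : letters (kWords.getD k []) = true := by
    have h := kList_ok
    simp only [kOK, Bool.and_eq_true, List.all_eq_true, List.mem_range, force_eq] at h
    exact (h.2 k hk').1.1.1
  have hone : c' = 1 := by
    have h := kComm_ok
    simp only [kCommOK, Bool.or_eq_true, List.all_eq_true, List.mem_range, Nat.beq_eq,
      Bool.not_eq_true'] at h
    rcases h k hk' with h | h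
    · exact eq_one_of_fix (h0 c' hcc) (hst.trans h16) (Fin.ext (hck75.trans h))
    · refine absurd ?_ (val_ne (letters_append elems.lU hkl) (letters_append hkl elems.lU) h)
      rw [val_append, val_append, ← hck]
      exact hcc.eq
  exact ⟨i, by rwa [hc', inv_mul_eq_one, eq_comm] at hone⟩

/-! ### The element of order six -/

theorem hit_ok {q : ℕ} (hq : q < 18) : hitOK q = true := by
  interval_cases q
  exacts [hit0_ok, hit1_ok, hit2_ok, hit3_ok, hit4_ok, hit5_ok, hit6_ok, hit7_ok, hit8_ok, hit9_ok,
    hit10_ok, hit11_ok, hit12_ok, hit13_ok, hit14_ok, hit15_ok, hit16_ok, hit17_ok]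

/-- Every element commuting with the element of order six is listed. -/
theorem exists_cand {c : Cfsg.Spor.ON} (hc : Commute c elH) :
    ∃ i < 72, c = val (candWords.getD i []) := by
  have hfix : ∀ p : Fin 122760, perm elH p = p → perm elH (perm c p) = perm c p := fun p hp => by
    rw [← Equiv.Perm.mul_apply, ← map_mul, ← hc.eq, map_mul, Equiv.Perm.mul_apply, hp]
  have ha := fix_H (hfix pt0 elH_pt0)
  have hb := fix_H (hfix pt16 elH_pt16)
  have hp := pair_ok
  simp only [pairOK, Bool.and_eq_true] at hp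
  obtain ⟨⟨⟨⟨⟨hlen, hlw⟩, hlf⟩, -⟩, hpairs⟩, hpw⟩ := hp
  simp only [List.all_eq_true, List.mem_range, Bool.and_eq_true, Bool.or_eq_true, Nat.beq_eq,
    Bool.not_eq_true', List.contains_eq_mem, decide_eq_true_eq] at hpairs hpw
  obtain ⟨ia, hia, hia'⟩ := List.getElem_of_mem ha
  obtain ⟨hf0, hfb⟩ := hpairs ia hia
  rw [List.getD_eq_getElem _ _ hia, hia'] at hf0 hfb
  have lf := letters_getD hlf ia
  have hmem : ((perm c pt0).1, (perm c pt16).1) ∈ pairPts := by
    rcases hfb _ hb with h | h
    · exfalso
      set f := val (repF.getD ia []) with hf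
      have h1 : perm (f * c) pt0 = pt0 := by
        rw [map_mul, Equiv.Perm.mul_apply]
        exact Fin.ext ((perm_val lf _).trans hf0)
      have h2 := member_stab orb1_ok' h1 pt16 member16
      rw [map_mul, Equiv.Perm.mul_apply, hf, perm_val lf, h] at h2
      exact absurd h2 (by decide)
    · exact h
  obtain ⟨q, hq, hq'⟩ := List.getElem_of_mem hmem
  have hqlen : q < 18 := lt_of_lt_of_eq hq (by decide +kernel)
  have lt := letters_getD hlw q
  obtain ⟨ht0, ht16⟩ := hpw q hq
  rw [List.getD_eq_getElem _ _ hq, hq'] at ht0 ht16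
  set t := val (pairWords.getD q []) with ht
  have e0 : perm t pt0 = perm c pt0 := Fin.ext ((perm_val lt pt0).trans ht0)
  have e16 : perm t pt16 = perm c pt16 := Fin.ext ((perm_val lt pt16).trans ht16)
  have k0 : perm (t⁻¹ * c) pt0 = pt0 := by
    rw [map_mul, Equiv.Perm.mul_apply, ← e0, map_inv, Equiv.Perm.inv_def, Equiv.symm_apply_apply]
  have k16 : perm (t⁻¹ * c) pt16 = pt16 := by
    rw [map_mul, Equiv.Perm.mul_apply, ← e16, map_inv, Equiv.Perm.inv_def, Equiv.symm_apply_apply]
  obtain ⟨k, hk, hck, hck75⟩ := exists_two_point k0 k16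
  have lk : letters (kWords.getD k []) = true := by
    have h := kList_ok
    simp only [kOK, Bool.and_eq_true, List.all_eq_true, List.mem_range, force_eq] at h
    exact (h.2 k hk).1.1.1
  have h := hit_ok hqlen
  simp only [hitOK, hitOK.force', force_eq, Bool.and_eq_true, List.all_eq_true, List.mem_range,
    Bool.or_eq_true, Nat.blt_eq, Bool.not_eq_true', ← Bool.not_eq_true, Nat.beq_eq] at h
  have key : owalk (pairWords.getD q [] ++ wordH ++ (pairWords.getD q []).reverse) (kPts.getD k 0) =
      owalk (wordH ++ kWords.getD k []) 75 := by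
    rw [← hck75, ← perm_val (letters_append (letters_append lt elems.lH) (letters_reverse lt))]
    rw [show (75 : ℕ) = pt75.1 from rfl, ← perm_val (letters_append elems.lH lk)]
    rw [← Equiv.Perm.mul_apply, ← map_mul]
    congr 3
    rw [val_append, val_append, val_append, val_reverse, ← ht, ← hck]
    show t⁻¹ * (elH * t) * (t⁻¹ * c) = t⁻¹ * c * elH
    rw [mul_assoc t⁻¹ c, hc.eq]
    group
  rcases h k hk with h | h
  · exact absurd key h
  · refine ⟨_, h.1, ?_⟩
    rw [← val_congr (letters_append lk lt) (letters_getD elems.lC _) h.2, val_append, ← hck, ← ht,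
      mul_inv_cancel_left]

/-! ### Normalised automorphisms -/

/-- An automorphism fixing `h` and sending `u` to `u`, `u^2` or `u^4`. -/
def Normalised (α : MulAut Cfsg.Spor.ON) : Prop :=
  (∃ e ∈ [1, 2, 4], α elU = elU ^ e) ∧ α elH = elH

theorem hU_comm (j : ℕ) : elU ^ j * elH = elH * elU ^ (12 * j) := by
  have h : elH * elU ^ (12 * j) * elH⁻¹ = elU ^ (8 * (12 * j)) := by
    rw [← conj_pow, elems.conj, ← pow_mul]
  have h' : elU ^ (8 * (12 * j)) = elU ^ j := by
    rw [show 8 * (12 * j) = 19 * (5 * j) + j by ring, pow_add, pow_mul, elems.pow, one_pow, one_mul]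
  rw [← h', ← h, inv_mul_cancel_right]

theorem exists_normalised (α : MulAut Cfsg.Spor.ON) :
    ∃ g : Cfsg.Spor.ON, Normalised (MulAut.conj g * α) := by
  classical
  haveI : Fact (Nat.Prime 19) := ⟨by norm_num⟩
  have hfac : (Nat.card Cfsg.Spor.ON).factorization 19 = 1 := by
    rw [card_ON, show (460815505920 : ℕ) = 19 * 24253447680 by norm_num,
      Nat.factorization_mul (by norm_num) (by norm_num), Finsupp.add_apply,
      Nat.Prime.factorization_self (by norm_num), Nat.factorization_eq_zero_of_not_dvd (by norm_num)]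
  have hcard : ∀ x : Cfsg.Spor.ON, orderOf x = 19 →
      Nat.card (Subgroup.zpowers x) = 19 ^ (Nat.card Cfsg.Spor.ON).factorization 19 := fun x hx => by
    rw [Nat.card_zpowers, hx, hfac, pow_one]
  have hαo : orderOf (α elU) = 19 := by rw [MulEquiv.orderOf_eq]; exact orderOf_elU
  let P : Sylow 19 Cfsg.Spor.ON := Sylow.ofCard (Subgroup.zpowers (α elU)) (hcard _ hαo)
  let Q : Sylow 19 Cfsg.Spor.ON := Sylow.ofCard (Subgroup.zpowers elU) (hcard _ orderOf_elU)
  obtain ⟨g₀, hg₀⟩ := MulAction.exists_smul_eq Cfsg.Spor.ON P Q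
  have hmem : g₀ * α elU * g₀⁻¹ ∈ Subgroup.zpowers elU := by
    have h : g₀ * α elU * g₀⁻¹ ∈ ((g₀ • P : Sylow 19 Cfsg.Spor.ON) : Subgroup Cfsg.Spor.ON) := by
      rw [Sylow.coe_subgroup_smul]
      exact ⟨α elU, Subgroup.mem_zpowers (α elU), rfl⟩
    rw [hg₀] at h
    exact h
  obtain ⟨m, hm⟩ := mem_powers_iff_mem_zpowers.2 hmem
  simp only at hm
  have hm0 : m % 19 ≠ 0 := fun e => by
    have h1 : elU ^ m = 1 := by rw [← pow_mod_orderOf, orderOf_elU, e, pow_zero]
    rw [hm, conj_eq_one_iff] at h1
    exact elems.ne (α.injective (h1.trans (map_one α).symm))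
  have hsq : ∀ i m : ℕ, elH ^ i * elU ^ m * (elH ^ i)⁻¹ = elU ^ (m * 8 ^ i) := by
    intro i
    induction i with
    | zero => intro m; simp
    | succ i ih =>
      intro m
      calc elH ^ (i + 1) * elU ^ m * (elH ^ (i + 1))⁻¹
          = elH ^ i * (elH * elU ^ m * elH⁻¹) * (elH ^ i)⁻¹ := by rw [pow_succ]; group
        _ = elH ^ i * elU ^ (8 * m) * (elH ^ i)⁻¹ := by rw [← conj_pow, elems.conj, ← pow_mul]
        _ = _ := by rw [ih]; congr 1; ring
  have key : ∀ r : ℕ, r < 19 → r ≠ 0 → ∃ i, i < 6 ∧ r * 8 ^ i % 19 ∈ [1, 2, 4] := by decide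
  obtain ⟨i, -, hi⟩ := key (m % 19) (Nat.mod_lt _ (by norm_num)) hm0
  set e := (m % 19) * 8 ^ i % 19 with he
  set g₁ := elH ^ i * g₀ with hg₁
  set u' := g₁ * α elU * g₁⁻¹ with hu'
  have hue : u' = elU ^ e := by
    calc g₁ * α elU * g₁⁻¹ = elH ^ i * (g₀ * α elU * g₀⁻¹) * (elH ^ i)⁻¹ := by rw [hg₁]; group
      _ = elH ^ i * elU ^ m * (elH ^ i)⁻¹ := by rw [hm]
      _ = _ := by rw [hsq, ← pow_mod_orderOf, orderOf_elU, he, Nat.mod_mul_mod]
  set h' := g₁ * α elH * g₁⁻¹ with hh'
  have hact : h' * u' * h'⁻¹ = u' ^ 8 := by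
    have : α (elH * elU * elH⁻¹) = α (elU ^ 8) := by rw [elems.conj]
    rw [map_mul, map_mul, map_inv, map_pow] at this
    calc h' * u' * h'⁻¹ = g₁ * (α elH * α elU * (α elH)⁻¹) * g₁⁻¹ := by rw [hh', hu']; group
      _ = g₁ * (α elU) ^ 8 * g₁⁻¹ := by rw [this]
      _ = u' ^ 8 := by rw [hu', conj_pow]
  have hact' : elH * u' * elH⁻¹ = u' ^ 8 := by
    rw [hue, ← conj_pow, elems.conj, ← pow_mul, ← pow_mul, mul_comm]
  have hcom : Commute (elH⁻¹ * h') u' := by
    have e1 : h' * u' = elH * u' * elH⁻¹ * h' := by rw [hact', ← hact, inv_mul_cancel_right]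
    show elH⁻¹ * h' * u' = u' * (elH⁻¹ * h')
    rw [mul_assoc, e1]
    group
  have hcom' : Commute (elH⁻¹ * h') elU := by
    have hinv : ∀ e ∈ ([1, 2, 4] : List ℕ), ∃ f < 19, e * f % 19 = 1 := by decide
    obtain ⟨f, -, hf⟩ := hinv e hi
    have hp : u' ^ f = elU := by
      rw [hue, ← pow_mul, ← pow_mod_orderOf, orderOf_elU, hf, pow_one]
    exact hp ▸ hcom.pow_right f
  obtain ⟨k, hk⟩ := eq_pow_of_commute hcom'
  refine ⟨elU ^ (12 * k) * g₁, ⟨e, hi, ?_⟩, ?_⟩
  · show elU ^ (12 * k) * g₁ * α elU * (elU ^ (12 * k) * g₁)⁻¹ = elU ^ e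
    calc _ = elU ^ (12 * k) * u' * (elU ^ (12 * k))⁻¹ := by rw [hu']; group
      _ = elU ^ e := by
        rw [hue, ((Commute.refl elU).pow_pow _ _).eq, mul_inv_cancel_right]
  · show elU ^ (12 * k) * g₁ * α elH * (elU ^ (12 * k) * g₁)⁻¹ = elH
    have hh : h' = elH * elU ^ k := by rw [← hk, mul_inv_cancel_left]
    calc elU ^ (12 * k) * g₁ * α elH * (elU ^ (12 * k) * g₁)⁻¹
        = elU ^ (12 * k) * h' * (elU ^ (12 * k))⁻¹ := by rw [hh']; group
      _ = (elU ^ (12 * k) * elH) * elU ^ k * (elU ^ (12 * k))⁻¹ := by rw [hh]; group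
      _ = elH * (elU ^ (12 * (12 * k) + k) * (elU ^ (12 * k))⁻¹) := by
          rw [hU_comm, pow_add]; group
      _ = elH := by
          rw [show 12 * (12 * k) + k = 19 * (7 * k) + 12 * k by ring, pow_add, pow_mul, elems.pow,
            one_pow, one_mul, mul_inv_cancel, mul_one]

/-- The image of the third generator under a normalised automorphism, and of the element of order
nineteen. -/
theorem images {α : MulAut Cfsg.Spor.ON} (hα : Normalised α) :
    α elU = elU ∧ ∃ i ∈ [12, 13], α elX = val (candWords.getD i []) := by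
  obtain ⟨⟨e, he, hu⟩, hh⟩ := hα
  have hy : Commute (α elX) elH := by
    show α elX * elH = elH * α elX
    rw [← hh, ← map_mul, ← map_mul, elems.xcomm]
  obtain ⟨i, hi, hyi⟩ := exists_cand hy
  have lY := letters_getD elems.lC i
  have test : ∀ (U keep : List ℕ), letters U = true → α elU = val U → exclOK U keep = true →
      i ∈ keep := by
    intro U keep hU hu h
    simp only [exclOK, List.all_eq_true, List.mem_range, Bool.or_eq_true, List.contains_eq_mem,
      decide_eq_true_eq, Bool.not_eq_true'] at h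
    have hsub : ∀ (n : ℕ) (w : List ℕ), val (rep n (subW wordU wordH wordX w)) = 1 →
        sameW (rep n (subW U wordH (candWords.getD i []) w)) [] = false → False := by
      intro n w hone hbad
      refine val_ne (letters_rep (letters_sub hU elems.lH lY _) _) rfl hbad ?_
      rw [val_rep] at hone
      rw [val_rep, val_nil, ← map_subW α.toMonoidHom hu hh hyi w]
      show (α (val _)) ^ n = 1
      rw [← map_pow, hone, map_one]
    rcases h i hi with (h | h) | h
    · exact h
    · exact (hsub _ _ elems.t1 h).elim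
    · exact (hsub _ _ elems.t2 h).elim
  simp only [List.mem_cons, List.not_mem_nil, or_false] at he
  rcases he with rfl | rfl | rfl
  · rw [pow_one] at hu
    exact ⟨hu, i, test wordU _ elems.lU hu excl1_ok, hyi⟩
  · exact absurd (test (rep 2 wordU) [] (letters_rep elems.lU 2) (by rw [val_rep]; exact hu) excl2_ok)
      List.not_mem_nil
  · exact absurd (test (rep 4 wordU) [] (letters_rep elems.lU 4) (by rw [val_rep]; exact hu) excl4_ok)
      List.not_mem_nil

/-- A normalised automorphism is determined by the image of the third generator. -/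
theorem normalised_ext {α β : MulAut Cfsg.Spor.ON} (hα : Normalised α) (hβ : Normalised β)
    (h : α elX = β elX) : α = β := by
  obtain ⟨eu, i, -, ex⟩ := images hα
  refine MulEquiv.toMonoidHom_injective (MonoidHom.eq_of_eqOn_dense ONPres.closure_x ?_)
  rintro _ ⟨g, hg, rfl⟩
  show α (ONPres.x g) = β (ONPres.x g)
  rw [← elems.gens g hg]
  have e1 := map_subW α.toMonoidHom (U' := wordU) (H' := wordH) (X' := candWords.getD i [])
    eu hα.2 ex (genW.getD g [])
  have e2 := map_subW β.toMonoidHom (U' := wordU) (H' := wordH) (X' := candWords.getD i [])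
    (images hβ).1 hβ.2 (h ▸ ex) (genW.getD g [])
  exact e1.trans e2.symm

/-! ### An outer automorphism -/

theorem out_facts :
    (∀ r ∈ ONPres.relWords, (∀ g ∈ r, g < 7) ∧ sameW (r.flatMap outImg) [] = true) ∧
    (∀ g < 7, sameW (outImg g ++ outImg g) [] = true) ∧
    sameW (wordU.flatMap outImg) wordU = true ∧ sameW (wordH.flatMap outImg) wordH = true ∧
    sameW (wordX.flatMap outImg) wordX2 = true := by
  have h := out_ok
  simp only [outOK, Bool.and_eq_true] at h
  obtain ⟨⟨⟨⟨h1, h2⟩, h3⟩, h4⟩, h5⟩ := h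
  simp only [List.all_eq_true, List.mem_range, Bool.and_eq_true, Nat.blt_eq] at h1 h2
  exact ⟨h1, h2, h3, h4, h5⟩

theorem letters_outImg (g : ℕ) : letters (outImg g) = true :=
  letters_sub elems.lU elems.lH elems.lX2 _

/-- An automorphism that is not inner. -/
theorem exists_outer : ∃ α : MulAut Cfsg.Spor.ON, α ∉ Cfsg.Inn Cfsg.Spor.ON := by
  classical
  haveI := ONPres.isON.1
  obtain ⟨hrel, hsq, hU, hH, hX⟩ := out_facts
  let y : ℕ → Cfsg.Spor.ON := fun g => if g < 7 then val (outImg g) else 1
  have hy : ∀ g, y g * y g = 1 := fun g => by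
    by_cases hg : g < 7
    · simp only [y, if_pos hg, ← val_append]
      rw [val_congr (letters_append (letters_outImg g) (letters_outImg g)) rfl (hsq g hg), val_nil]
    · simp [y, hg]
  have hval : ∀ w : List ℕ, (∀ g ∈ w, g < 7) → wordVal y w = val (w.flatMap outImg) := by
    intro w
    induction w with
    | nil => intro _; rfl
    | cons g w ih =>
      intro hw
      have hg : g < 7 := hw g (List.mem_cons_self ..)
      rw [wordVal, ih fun a ha => hw a (List.mem_cons_of_mem _ ha), List.flatMap_cons, val_append,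
        gen, if_neg (by unfold eps; omega)]
      simp [y, hg]
  obtain ⟨φ, hφ⟩ : ∃ φ : Cfsg.Spor.ON →* Cfsg.Spor.ON, ∀ g < 7, φ (ONPres.x g) = y g :=
    ONPres.exists_hom y hy fun r hr => by
      obtain ⟨hlt, hs⟩ := hrel r hr
      rw [hval r hlt, val_congr (letters_flatMap letters_outImg r) rfl hs, val_nil]
  have hφv : ∀ w : List ℕ, (∀ g ∈ w, g < 7) → φ (val w) = val (w.flatMap outImg) := by
    intro w hw
    rw [← hval w hw]
    induction w with
    | nil => exact map_one φ
    | cons g w ih =>
      have hg : g < 7 := hw g (List.mem_cons_self ..)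
      show φ (wordVal ONPres.x w * gen ONPres.x g) = wordVal y w * gen y g
      rw [map_mul]
      congr 1
      · exact ih fun a ha => hw a (List.mem_cons_of_mem _ ha)
      · rw [gen, gen, if_neg (by unfold eps; omega), if_neg (by unfold eps; omega), hφ g hg]
  have hu : φ elU = elU :=
    (hφv _ (letters_lt elems.lU)).trans (val_congr (letters_flatMap letters_outImg _) elems.lU hU)
  have hh : φ elH = elH :=
    (hφv _ (letters_lt elems.lH)).trans (val_congr (letters_flatMap letters_outImg _) elems.lH hH)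
  have hx : φ elX = val wordX2 :=
    (hφv _ (letters_lt elems.lX)).trans (val_congr (letters_flatMap letters_outImg _) elems.lX2 hX)
  have hinj : Function.Injective φ := by
    rw [← MonoidHom.ker_eq_bot_iff]
    refine (IsSimpleGroup.eq_bot_or_eq_top_of_normal φ.ker inferInstance).resolve_right fun e => ?_
    exact elems.ne (hu.symm.trans (MonoidHom.mem_ker.1 (e ▸ Subgroup.mem_top elU)))
  refine ⟨MulEquiv.ofBijective φ ⟨hinj, Finite.injective_iff_surjective.1 hinj⟩, ?_⟩
  rintro ⟨g, hg⟩
  have e1 : g * elH * g⁻¹ = elH := (DFunLike.congr_fun hg elH).trans hh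
  have e2 : g * elU * g⁻¹ = elU := (DFunLike.congr_fun hg elU).trans hu
  have e3 : g * elX * g⁻¹ = val wordX2 := (DFunLike.congr_fun hg elX).trans hx
  obtain ⟨i, hi, rfl⟩ := exists_cand (show Commute g elH from mul_inv_eq_iff_eq_mul.1 e1)
  have h1 := elems.only i hi (mul_inv_eq_iff_eq_mul.1 e2)
  rw [h1, one_mul, inv_one, mul_one] at e3
  exact elems.x2 e3.symm

/-- The outer automorphism group has order two. -/
theorem card_out : Nat.card (Cfsg.Out Cfsg.Spor.ON) = 2 := by
  classical
  haveI : Finite (MulAut Cfsg.Spor.ON) :=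
    Finite.of_injective (fun α : MulAut Cfsg.Spor.ON => (α : Cfsg.Spor.ON → Cfsg.Spor.ON))
      DFunLike.coe_injective
  let f : {α : MulAut Cfsg.Spor.ON // Normalised α} → Cfsg.Out Cfsg.Spor.ON := fun α => QuotientGroup.mk α.1
  have hf : Function.Surjective f := fun q => by
    obtain ⟨α, rfl⟩ := QuotientGroup.mk_surjective q
    obtain ⟨g, hg⟩ := exists_normalised α
    refine ⟨⟨_, hg⟩, ?_⟩
    show (QuotientGroup.mk (MulAut.conj g * α) : Cfsg.Out Cfsg.Spor.ON) = QuotientGroup.mk α
    rw [QuotientGroup.mk_mul, (QuotientGroup.eq_one_iff (N := Cfsg.Inn Cfsg.Spor.ON) (MulAut.conj g)).2 ⟨g, rfl⟩,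
      one_mul]
  have hle : Nat.card {α : MulAut Cfsg.Spor.ON // Normalised α} ≤ 2 := by
    have := Nat.card_le_card_of_injective
      (fun α : {α : MulAut Cfsg.Spor.ON // Normalised α} =>
        decide (α.1 elX = val (candWords.getD 12 []))) (fun α β h => by
      refine Subtype.ext (normalised_ext α.2 β.2 ?_)
      have h' := decide_eq_decide.1 h
      obtain ⟨-, i, hi, ei⟩ := images α.2
      obtain ⟨-, j, hj, ej⟩ := images β.2
      simp only [List.mem_cons, List.not_mem_nil, or_false] at hi hj
      rcases hi with rfl | rfl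
      · rw [ei, h'.1 ei]
      · rcases hj with rfl | rfl
        · rw [ej, h'.2 ej]
        · rw [ei, ej])
    simpa using this
  refine le_antisymm ((Nat.card_le_card_of_surjective f hf).trans hle) ?_
  obtain ⟨α, hα⟩ := exists_outer
  exact Finite.one_lt_card_iff_nontrivial.2
    ⟨QuotientGroup.mk α, 1, fun e => hα ((QuotientGroup.eq_one_iff α).1 e)⟩

end Cfsg.Lib.CosetEnum.ONOut
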