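import Cfsg.Agent.Lib.CosetEnum.ONJone0.Valid
import Cfsg.Agent.Lib.CosetEnum.ONJone1.Valid
import Cfsg.Agent.Lib.CosetEnum.ONJone2.Valid
import Cfsg.Agent.Lib.CosetEnum.ONJone3.Valid
import Cfsg.Agent.Lib.CosetEnum.ONMel0.Valid
import Cfsg.Agent.Lib.CosetEnum.ONMel1.Valid
import Cfsg.Agent.Lib.CosetEnum.ONMel2.Valid
import Cfsg.Agent.Lib.CosetEnum.ONSubgroupWords
import Cfsg.Agent.Lib.CosetEnum.BaseFix
import Cfsg.Agent.Lib.CosetEnum.WordPres
import Cfsg.Agent.Lib.CosetEnum.Groups.ONSimple
import Cfsg.Agent.Lib.H3.JankoOne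
import Cfsg.Agent.Lib.H3.PermList
import Cfsg.Agent.Lib.MEleven.Spor
/-!
# The O'Nan group on 122760 points, with subgroups `J₁` and `M₁₁`

Each subgroup is the image of a finitely presented group; the presented group is bounded by coset
enumeration and maps onto the named simple group.
-/

set_option autoImplicit false
set_option maxRecDepth 100000

namespace Cfsg.Lib.CosetEnum.ONSubgroups

open Cfsg.Spor
open scoped Pointwise

theorem wordVal_flatMap {G : Type*} [Group G] (x : ℕ → G) (W : ℕ → List ℕ) {k : ℕ} (hk : k ≤ eps) :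
    ∀ r : List ℕ, (∀ g ∈ r, g < k) →
      wordVal (fun g => wordVal x (W g)) r = wordVal x (r.flatMap W)
  | [], _ => rfl
  | g :: r, h => by
    have hg : g < k := h g (by simp)
    rw [List.flatMap_cons, wordVal_append, wordVal, gen, if_neg (by omega),
      wordVal_flatMap x W hk r fun a ha => h a (by simp [ha])]

theorem closure_all {k : ℕ} {R : List (List ℕ)} {S : List ℕ} (h : S = List.range k) :
    Subgroup.closure (WordPres.gens k R '' {g | g ∈ S}) = ⊤ := by
  subst h
  simpa only [List.mem_range] using WordPres.closure_gens k R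

/-! ### The two presented groups -/

/-- The presentation on four involutions. -/
abbrev PJ : Type := WordPres.Grp 4 jRels

/-- The presentation on three involutions. -/
abbrev PM : Type := WordPres.Grp 3 mRels

theorem pj_card : Finite PJ ∧ Nat.card PJ ≤ 175560 := by
  have hx := WordPres.gens_mul_self (k := 4) (R := jRels) (by decide) (by decide +kernel)
  have hrel : ∀ r ∈ jRels, wordVal (WordPres.gens 4 jRels) r = 1 := WordPres.wordVal_gens
  have v0 : ONJone0.step.Valid jRels := ONJone0.step_valid (by decide +kernel)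
  have v1 : ONJone1.step.Valid jRels := ONJone1.step_valid (by decide +kernel)
  have v2 : ONJone2.step.Valid jRels := ONJone2.step_valid (by decide +kernel)
  have v3 : ONJone3.step.Valid jRels := ONJone3.step_valid (by decide +kernel)
  have c3 := v3.card_le hx hrel (K := ⊥) (by simp [ONJone3.step, ONJone3.subWords])
    inferInstance (m := 1) (by rw [Subgroup.card_bot])
  have c2 := v2.card_le hx hrel (inLetters_mem _ (S := ONJone3.step.S) (by decide +kernel)) c3.1 c3.2
  have c1 := v1.card_le hx hrel (inLetters_mem _ (S := ONJone2.step.S) (by decide +kernel)) c2.1 c2.2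
  obtain ⟨h1, h2⟩ :=
    v0.card_le hx hrel (inLetters_mem _ (S := ONJone1.step.S) (by decide +kernel)) c1.1 c1.2
  rw [closure_all (show ONJone0.step.S = List.range 4 by decide +kernel)] at h1 h2
  exact ⟨Finite.of_equiv _ Subgroup.topEquiv.toEquiv,
    (Subgroup.card_top (G := PJ)).ge.trans (h2.trans (by decide +kernel))⟩

theorem pm_card : Finite PM ∧ Nat.card PM ≤ 7920 := by
  have hx := WordPres.gens_mul_self (k := 3) (R := mRels) (by decide) (by decide +kernel)
  have hrel : ∀ r ∈ mRels, wordVal (WordPres.gens 3 mRels) r = 1 := WordPres.wordVal_gens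
  have v0 : ONMel0.step.Valid mRels := ONMel0.step_valid (by decide +kernel)
  have v1 : ONMel1.step.Valid mRels := ONMel1.step_valid (by decide +kernel)
  have v2 : ONMel2.step.Valid mRels := ONMel2.step_valid (by decide +kernel)
  have c2 := v2.card_le hx hrel (K := ⊥) (by simp [ONMel2.step, ONMel2.subWords])
    inferInstance (m := 1) (by rw [Subgroup.card_bot])
  have c1 := v1.card_le hx hrel (inLetters_mem _ (S := ONMel2.step.S) (by decide +kernel)) c2.1 c2.2
  obtain ⟨h1, h2⟩ :=
    v0.card_le hx hrel (inLetters_mem _ (S := ONMel1.step.S) (by decide +kernel)) c1.1 c1.2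
  rw [closure_all (show ONMel0.step.S = List.range 3 by decide +kernel)] at h1 h2
  exact ⟨Finite.of_equiv _ Subgroup.topEquiv.toEquiv,
    (Subgroup.card_top (G := PM)).ge.trans (h2.trans (by decide +kernel))⟩

/-! ### The Janko group -/

open Cfsg.Lib.J1 in
/-- The images in the Janko group. -/
def zJ (g : ℕ) : Spor.J1 := wordG (jMats.getD g [])

open Cfsg.Lib.J1 in
theorem wordVal_zJ : ∀ r : List ℕ, (∀ g ∈ r, g ≠ eps) →
    wordVal zJ r = wordG (r.reverse.flatMap fun g => jMats.getD g [])
  | [], _ => rfl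
  | g :: r, h => by
    rw [wordVal, wordVal_zJ r fun a ha => h a (by simp [ha]), gen, if_neg (h g (by simp)),
      List.reverse_cons, List.flatMap_append, List.flatMap_singleton,
      H3.JankoOne.wordG_append]
    rfl

open Cfsg.Lib.J1 in
theorem zJ_rel : ∀ r ∈ jRels, wordVal zJ r = 1 := by
  intro r hr
  obtain ⟨hlt, hb⟩ := (show ∀ r ∈ jRels, (∀ g ∈ r, g ≠ eps) ∧
    beq (wordP (r.reverse.flatMap fun g => jMats.getD g [])) one = true by decide +kernel) r hr
  rw [wordVal_zJ r hlt]
  apply Subtype.ext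
  apply enc_injective
  rw [enc_wordG, OneMemClass.coe_one, enc_one]
  exact beq_iff.mp hb

theorem pj_simple : IsSimpleGroup PJ ∧ Nat.card PJ = 175560 := by
  obtain ⟨hfin, hle⟩ := pj_card
  obtain ⟨θ, hθ⟩ := WordPres.exists_hom (k := 4) (R := jRels) (by decide) (by decide +kernel) zJ zJ_rel
  have : IsSimpleGroup Spor.J1 := H3.JankoOne.simple_J
  have hθw : ∀ r : List ℕ, (∀ g ∈ r, g < 4) → θ (wordVal (WordPres.gens 4 jRels) r) = wordVal zJ r := by
    intro r
    induction r with
    | nil => intro _; exact map_one θ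
    | cons g r ih =>
      intro h
      have hg : g < 4 := h g (by simp)
      rw [wordVal, wordVal, map_mul, ih fun a ha => h a (by simp [ha]), gen, gen,
        if_neg (by simp only [eps]; omega), if_neg (by simp only [eps]; omega), hθ g hg]
  have hord : ∀ q ∈ jOrders, q.1 ∣ Nat.card θ.range := by
    intro q hq
    obtain ⟨h0, hlt, hne, hok⟩ := (show ∀ q ∈ jOrders, 0 < q.1 ∧ (∀ g ∈ q.2, g < 4) ∧
      (∀ g ∈ q.2, g ≠ eps) ∧ Cfsg.Lib.J1.exOK q.1 (q.2.reverse.flatMap fun g => jMats.getD g []) = true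
      by decide +kernel) q hq
    have hmem : wordVal zJ q.2 ∈ θ.range := ⟨_, hθw _ hlt⟩
    have := orderOf_dvd_natCard (⟨_, hmem⟩ : θ.range)
    rwa [Subgroup.orderOf_mk, wordVal_zJ _ hne, Cfsg.Lib.J1.orderOf_wordG h0 hok] at this
  have h19 := hord (19, _) (by simp [jOrders]; rfl)
  have h11 := hord (11, _) (by simp [jOrders]; rfl)
  have h7 := hord (7, _) (by simp [jOrders]; rfl)
  have h5 := hord (5, _) (by simp [jOrders]; rfl)
  have h3 := hord (3, _) (by simp [jOrders]; rfl)
  have hm : 3 * 5 * 7 * 11 * 19 ∣ Nat.card θ.range :=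
    Nat.Coprime.mul_dvd_of_dvd_of_dvd (by decide +kernel) (Nat.Coprime.mul_dvd_of_dvd_of_dvd
      (by decide +kernel) (Nat.Coprime.mul_dvd_of_dvd_of_dvd (by decide +kernel)
        (Nat.Coprime.mul_dvd_of_dvd_of_dvd (by decide +kernel) h3 h5) h7) h11) h19
  have htop : θ.range = ⊤ := eq_top_of_large (p := 19) (by norm_num)
    (by rw [H3.JankoOne.card_J]; decide +kernel) hm (by rw [H3.JankoOne.card_J]; decide +kernel)
  have hsurj : Function.Surjective θ := MonoidHom.range_eq_top.1 htop
  have hcard : Nat.card PJ = 175560 :=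
    le_antisymm hle (H3.JankoOne.card_J ▸ Nat.card_le_card_of_surjective θ hsurj)
  have hbij : Function.Bijective θ :=
    (Nat.bijective_iff_surjective_and_card θ).2 ⟨hsurj, hcard.trans H3.JankoOne.card_J.symm⟩
  exact ⟨(MulEquiv.ofBijective θ hbij).isSimpleGroup, hcard⟩

/-! ### The Mathieu group -/

section Mathieu

open Cfsg.Lib.Concrete Cfsg.Lib.H3.PermList

/-- Read a word in packed permutations. -/
def pwalk : List ℕ → ℕ → ℕ
  | [], i => i
  | g :: w, i => pwalk w (pget (mPerms.getD g 0) i)

theorem isM11_std : Cfsg.IsM11 (stabMasks [mD, mP]) := by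
  have hd := squareDodecad_mem
  have hp := zero_mem_squareDodecad
  obtain ⟨e⟩ := (std_dod_in hd hp).equiv
    (MulAction.stabilizer M24 Spor.squareDodecad ⊓ MulAction.stabilizer M24 (some 0 : GolayPt)) fun x => by
    simp only [List.mem_cons, List.not_mem_nil, or_false, forall_eq_or_imp, forall_eq, Subgroup.mem_inf,
      MulAction.mem_stabilizer_iff, smul_singleton_perm, Finset.singleton_inj]
    exact Iff.rfl
  obtain ⟨hs, hc⟩ := Cfsg.Lib.MEleven.isM11_dod_point hd hp
  exact ⟨e.symm.isSimpleGroup, (Nat.card_congr e.toEquiv).symm.trans hc⟩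

theorem pm_simple : IsSimpleGroup PM ∧ Nat.card PM = 7920 := by
  obtain ⟨hfin, hle⟩ := pm_card
  have hok : ∀ g : Fin 3, okIn [mD, mP] (mPerms.getD g.1 0) = true := by decide +kernel
  choose z hzM hz using fun g : Fin 3 => exists_in (hok g)
  let y : ℕ → stabMasks [mD, mP] := fun g => if h : g < 3 then ⟨z ⟨g, h⟩, hzM _⟩ else 1
  have hy : ∀ (r : List ℕ), (∀ g ∈ r, g < 3) → ∀ a : GolayPt,
      (gidx (((wordVal y r : stabMasks [mD, mP]) : Equiv.Perm GolayPt) a)).val = pwalk r (gidx a).val := by
    intro r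
    induction r with
    | nil => intro _ a; rfl
    | cons g r ih =>
      intro h a
      have hg : g < 3 := h g (by simp)
      have e : ((gen y g : stabMasks [mD, mP]) : Equiv.Perm GolayPt) = z ⟨g, hg⟩ := by
        simp [gen, y, show g ≠ eps by simp only [eps]; omega, hg]
      rw [wordVal, Subgroup.coe_mul, Equiv.Perm.mul_apply, ih (fun b hb => h b (by simp [hb])), e,
        hz ⟨g, hg⟩ a, pwalk]
  have hone : ∀ (r : List ℕ), (∀ g ∈ r, g < 3) →
      ((wordVal y r = 1) ↔ (bits24.all fun i => Nat.beq (pwalk r i) i) = true) := by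
    intro r hr
    simp only [List.all_eq_true, Nat.beq_eq]
    constructor
    · intro h i hi
      have := hy r hr (gpt ⟨i, mem_bits24.1 hi⟩)
      rw [h, OneMemClass.coe_one, Equiv.Perm.one_apply, gidx_gpt] at this
      exact this.symm
    · intro h
      refine Subtype.ext (Equiv.ext fun a => gidx_injective (Fin.ext ?_))
      rw [hy r hr a, h _ (mem_bits24.2 (gidx a).isLt), OneMemClass.coe_one, Equiv.Perm.one_apply]
  have hyrel : ∀ r ∈ mRels, wordVal y r = 1 := by
    intro r hr
    obtain ⟨hlt, hb⟩ := (show ∀ r ∈ mRels, (∀ g ∈ r, g < 3) ∧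
      (bits24.all fun i => Nat.beq (pwalk r i) i) = true by decide +kernel) r hr
    exact (hone r hlt).2 hb
  obtain ⟨θ, hθ⟩ := WordPres.exists_hom (k := 3) (R := mRels) (by decide) (by decide +kernel) y hyrel
  obtain ⟨hsimp, hM⟩ := isM11_std
  have : Finite (stabMasks [mD, mP]) := Nat.finite_of_card_ne_zero (by rw [hM]; decide)
  have hθw : ∀ r : List ℕ, (∀ g ∈ r, g < 3) → θ (wordVal (WordPres.gens 3 mRels) r) = wordVal y r := by
    intro r
    induction r with
    | nil => intro _; exact map_one θ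
    | cons g r ih =>
      intro h
      have hg : g < 3 := h g (by simp)
      rw [wordVal, wordVal, map_mul, ih fun a ha => h a (by simp [ha]), gen, gen,
        if_neg (by simp only [eps]; omega), if_neg (by simp only [eps]; omega), hθ g hg]
  have hord : ∀ q ∈ mOrders, q.1 ∣ Nat.card θ.range := by
    intro q hq
    obtain ⟨h0, hlt, h1, h2⟩ := (show ∀ q ∈ mOrders, 0 < q.1 ∧ (∀ g ∈ q.2, g < 3) ∧
      (bits24.all fun i => Nat.beq (pwalk ((List.replicate q.1 q.2).flatten) i) i) = true ∧
      ∀ m < q.1, 0 < m → (bits24.all fun i => Nat.beq (pwalk ((List.replicate m q.2).flatten) i) i) = false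
      by decide +kernel) q hq
    have hmem : wordVal y q.2 ∈ θ.range := ⟨_, hθw _ hlt⟩
    have hpow : ∀ m, wordVal y q.2 ^ m = wordVal y ((List.replicate m q.2).flatten) := by
      intro m
      induction m with
      | zero => simp [wordVal]
      | succ m ih => rw [List.replicate_succ, List.flatten_cons, wordVal_append, ← ih, pow_succ]
    have hlt' : ∀ m, ∀ g ∈ (List.replicate m q.2).flatten, g < 3 := by
      intro m g hg
      obtain ⟨l, hl, hgl⟩ := List.mem_flatten.1 hg
      exact hlt g (List.eq_of_mem_replicate hl ▸ hgl)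
    have ho : orderOf (wordVal y q.2) = q.1 := by
      refine (orderOf_eq_iff h0).2 ⟨?_, fun m hm hm0 hc => ?_⟩
      · rw [hpow]; exact (hone _ (hlt' _)).2 h1
      · rw [hpow] at hc
        exact absurd ((hone _ (hlt' _)).1 hc) (by simp [h2 m hm hm0])
    have := orderOf_dvd_natCard (⟨_, hmem⟩ : θ.range)
    rwa [Subgroup.orderOf_mk, ho] at this
  have h11 := hord (11, _) (by simp [mOrders]; rfl)
  have h8 := hord (8, _) (by simp [mOrders]; rfl)
  have h5 := hord (5, _) (by simp [mOrders]; rfl)
  have h3 := hord (3, _) (by simp [mOrders]; rfl)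
  have hm : 3 * 5 * 8 * 11 ∣ Nat.card θ.range :=
    Nat.Coprime.mul_dvd_of_dvd_of_dvd (by decide +kernel) (Nat.Coprime.mul_dvd_of_dvd_of_dvd
      (by decide +kernel) (Nat.Coprime.mul_dvd_of_dvd_of_dvd (by decide +kernel) h3 h5) h8) h11
  have htop : θ.range = ⊤ := eq_top_of_large (p := 11) (by norm_num)
    (by rw [hM]; decide +kernel) hm (by rw [hM]; decide +kernel)
  have hsurj : Function.Surjective θ := MonoidHom.range_eq_top.1 htop
  have hcard : Nat.card PM = 7920 := le_antisymm hle (hM ▸ Nat.card_le_card_of_surjective θ hsurj)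
  have hbij : Function.Bijective θ :=
    (Nat.bijective_iff_surjective_and_card θ).2 ⟨hsurj, hcard.trans hM.symm⟩
  exact ⟨(MulEquiv.ofBijective θ hbij).isSimpleGroup, hcard⟩

end Mathieu

/-! ### The permutation group -/

theorem exists_realisation : ∃ H : Subgroup (Equiv.Perm (Fin 122760)), Cfsg.IsON H ∧
    MulAction.IsPretransitive H (Fin 122760) ∧
    Nat.card (MulAction.stabilizer H (0 : Fin 122760)) = 3753792 ∧
    (∃ K : Subgroup H, Cfsg.IsJ1 K) ∧ (∃ K : Subgroup H, Cfsg.IsM11 K) := by
  obtain ⟨φ, hφ⟩ : ∃ φ : Cfsg.Spor.ON →* Equiv.Perm (Fin 122760),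
      ∀ g < 7, φ (ONPres.x g) = tperm ONMain.tabP 7 122760 g := ONPres.exists_table_hom
  obtain ⟨-, hfin, hcard⟩ := ONPres.card_H
  replace hcard : Nat.card Cfsg.Spor.ON = 460815505920 := hcard
  have : Finite Cfsg.Spor.ON := hfin
  have hperm : permOK ONMain.tabP 7 122760 ONMain.cert.R1 122760 0 = true := ONMain.cert_valid.perm
  have hbase : baseSize ONPres.levels = Nat.card Cfsg.Spor.ON :=
    ONPres.baseSize_levels.trans hcard.symm
  have hinj : Function.Injective φ :=
    (card_eq_of_base ONPres.x φ hperm (by decide) hφ ONPres.base_ok hbase.ge).2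
  obtain ⟨hsimp, hord⟩ := ONPres.isON
  let e : Cfsg.Spor.ON ≃* φ.range := MonoidHom.ofInjective hinj
  have htrans : MulAction.IsPretransitive φ.range (Fin 122760) := by
    refine MulAction.isPretransitive_iff_base (⟨0, by decide⟩ : Fin 122760) |>.2 fun b => ?_
    obtain ⟨a, -, ha⟩ := exists_smul_eq ONPres.x φ hperm hφ ONMain.cert_valid.tree (by decide) b.1 b.2
    exact ⟨⟨φ a, a, rfl⟩, ha⟩
  have hsub : ∀ (P : Type) [Group P] [IsSimpleGroup P] (ψ : P →* Cfsg.Spor.ON) (a : P), ψ a ≠ 1 →
      ∃ K : Subgroup φ.range, Nonempty (P ≃* K) := by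
    intro P _ _ ψ a ha
    have hψ : Function.Injective ψ := by
      rw [← MonoidHom.ker_eq_bot_iff]
      exact ψ.normal_ker.eq_bot_or_eq_top.resolve_right fun h =>
        ha (MonoidHom.mem_ker.1 (h ▸ Subgroup.mem_top a))
    exact ⟨(e.toMonoidHom.comp ψ).range,
      ⟨MonoidHom.ofInjective (f := e.toMonoidHom.comp ψ) (e.injective.comp hψ)⟩⟩
  have hfix : ∀ w : List ℕ, fixOK ONMain.tabP 7 122760 (basePts ONPres.levels) [w] = true →
      wordVal ONPres.x w = 1 :=
    fun w hw => eq_one_of_fixes ONPres.x φ hperm (by decide) hφ ONPres.base_ok hbase.symm hw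
  refine ⟨φ.range, ⟨e.symm.isSimpleGroup, (Nat.card_congr e.toEquiv).symm.trans hord⟩, htrans,
    ?_, ?_, ?_⟩
  · have h1 := MulAction.index_stabilizer_of_transitive φ.range (0 : Fin 122760)
    have h2 := Subgroup.card_mul_index (MulAction.stabilizer φ.range (0 : Fin 122760))
    rw [h1, Nat.card_fin, (Nat.card_congr e.toEquiv).symm.trans hord,
      show (460815505920 : ℕ) = 3753792 * 122760 by decide +kernel] at h2
    exact Nat.eq_of_mul_eq_mul_right (by decide +kernel) h2
  · obtain ⟨hs, hc⟩ := pj_simple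
    obtain ⟨ψ, hψ⟩ := WordPres.exists_hom (k := 4) (R := jRels) (by decide) (by decide +kernel)
      (fun g => wordVal ONPres.x (jImages.getD g [])) (fun r hr => by
        rw [wordVal_flatMap ONPres.x _ (k := 4) (by decide) r
          ((show ∀ r ∈ jRels, ∀ g ∈ r, g < 4 by decide +kernel) r hr)]
        exact hfix _ ((show ∀ r ∈ jRels, fixOK ONMain.tabP 7 122760 (basePts ONPres.levels)
          [r.flatMap fun g => jImages.getD g []] = true by decide +kernel) r hr))
    obtain ⟨K, ⟨f⟩⟩ := hsub PJ ψ (WordPres.gens 4 jRels 0) fun h => by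
      rw [hψ 0 (by decide)] at h
      have h' := congrArg (fun a => (φ a (⟨0, by decide +kernel⟩ : Fin 122760)).1) h
      simp only [map_one, Equiv.Perm.one_apply] at h'
      rw [map_wordVal_tperm ONPres.x φ (by decide) hφ (by decide +kernel),
        wordVal_tperm hperm (by decide) _ (by decide +kernel)] at h'
      exact absurd h' (show twalk ONMain.tabP 7 (jImages.getD 0 []) 0 ≠ 0 by decide +kernel)
    exact ⟨K, f.symm.isSimpleGroup, (Nat.card_congr f.toEquiv).symm.trans hc⟩
  · obtain ⟨hs, hc⟩ := pm_simple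
    obtain ⟨ψ, hψ⟩ := WordPres.exists_hom (k := 3) (R := mRels) (by decide) (by decide +kernel)
      (fun g => wordVal ONPres.x (mImages.getD g [])) (fun r hr => by
        rw [wordVal_flatMap ONPres.x _ (k := 3) (by decide) r
          ((show ∀ r ∈ mRels, ∀ g ∈ r, g < 3 by decide +kernel) r hr)]
        exact hfix _ ((show ∀ r ∈ mRels, fixOK ONMain.tabP 7 122760 (basePts ONPres.levels)
          [r.flatMap fun g => mImages.getD g []] = true by decide +kernel) r hr))
    obtain ⟨K, ⟨f⟩⟩ := hsub PM ψ (WordPres.gens 3 mRels 0) fun h => by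
      rw [hψ 0 (by decide)] at h
      have h' := congrArg (fun a => (φ a (⟨0, by decide +kernel⟩ : Fin 122760)).1) h
      simp only [map_one, Equiv.Perm.one_apply] at h'
      rw [map_wordVal_tperm ONPres.x φ (by decide) hφ (by decide +kernel),
        wordVal_tperm hperm (by decide) _ (by decide +kernel)] at h'
      exact absurd h' (show twalk ONMain.tabP 7 (mImages.getD 0 []) 0 ≠ 0 by decide +kernel)
    exact ⟨K, f.symm.isSimpleGroup, (Nat.card_congr f.toEquiv).symm.trans hc⟩

end Cfsg.Lib.CosetEnum.ONSubgroups
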