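import Cfsg.Agent.Lib.CosetEnum.Groups.SuzOutAct
import Cfsg.Agent.Lib.CosetEnum.SuzMult.CentCheck

/-!
# The centraliser of an involution of the Suzuki group is perfect

The involution fixes 54 of the 1782 points and has at least 4095 conjugates under the stabiliser of a
point, so its centraliser has at most `54 * 61440` elements; as many are generated by products of
commutators of elements commuting with it.
-/

set_option autoImplicit false
set_option maxRecDepth 100000
set_option maxHeartbeats 1000000

open scoped commutatorElement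

namespace Cfsg.Lib.CosetEnum.SuzMult

open Cfsg.Spor SuzOut SuzPres

theorem xgen_sq (g : ℕ) : xgen g * xgen g = 1 := numbering.gens_mul_self Suz.extra g

theorem val_rev (w : List ℕ) : wordVal xgen w.reverse = (wordVal xgen w)⁻¹ :=
  wordVal_reverse xgen_sq w

theorem val_app (u v : List ℕ) : wordVal xgen (u ++ v) = wordVal xgen v * wordVal xgen u :=
  wordVal_append ..

/-- The involution. -/
def invA : Cfsg.Spor.Suz := wordVal xgen [0]

theorem invA_sq : invA * invA = 1 := by
  simpa [invA, wordVal, gen, eps] using xgen_sq 0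

theorem val_cw (u : List ℕ) :
    wordVal xgen (u.reverse ++ [0] ++ u) = wordVal xgen u * invA * (wordVal xgen u)⁻¹ := by
  rw [val_app, val_app, val_rev, ← mul_assoc]
  rfl

theorem cent_of_ok {w : List ℕ} (h : centOK w = true) :
    (∀ g ∈ w, g < 7) ∧ wordVal xgen w ∈ Subgroup.centralizer ({invA} : Set Cfsg.Spor.Suz) := by
  simp only [centOK, Bool.and_eq_true] at h
  have hw := letters_lt h.1
  refine ⟨hw, Subgroup.mem_centralizer_singleton_iff.2 ?_⟩
  have e := eq_of_sameW (fun g hg => by
    simp only [List.mem_append, List.mem_reverse, List.mem_singleton] at hg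
    rcases hg with (hg | rfl) | hg
    · exact hw g hg
    · norm_num
    · exact hw g hg) (v := [0]) (by simp) h.2
  rw [val_cw] at e
  rw [← mul_inv_eq_iff_eq_mul]
  exact e

theorem keys_get : ∀ {us : List (List ℕ)} {lo : ℕ}, keysFrom lo us = true →
    (∀ u ∈ us, (∀ g ∈ u, g < 7) ∧ swalk u 0 = 0 ∧ lo < keyOf (cwW u)) ∧
      (us.map fun u => keyOf (cwW u)).Pairwise (· < ·)
  | [], _, _ => ⟨by simp, List.Pairwise.nil⟩
  | u :: us, lo, h => by
    simp only [keysFrom, force_eq, Bool.and_eq_true, Nat.beq_eq, Nat.blt_eq] at h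
    obtain ⟨⟨h1, h2⟩, h3, h4⟩ := h
    obtain ⟨ih, ihp⟩ := keys_get h4
    refine ⟨fun v hv => ?_, List.pairwise_cons.2 ⟨fun k hk => ?_, ihp⟩⟩
    · rcases List.mem_cons.1 hv with rfl | hv
      · exact ⟨letters_lt h1, h2, h3⟩
      · exact ⟨(ih v hv).1, (ih v hv).2.1, h3.trans (ih v hv).2.2⟩
    · obtain ⟨v, hv, rfl⟩ := List.mem_map.1 hk
      exact (ih v hv).2.2

theorem keysFrom_append : ∀ {a b : List (List ℕ)} {lo hi : ℕ}, keysFrom lo a = true →
    keysFrom hi b = true → ((a.map fun u => keyOf (cwW u)).getLast? = some hi) → keysFrom lo (a ++ b) = true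
  | [], _, _, _, _, _, h => by simp at h
  | [u], b, lo, hi, ha, hb, h => by
    simp only [keysFrom, force_eq, Bool.and_eq_true] at ha
    simp only [List.map_cons, List.map_nil, List.getLast?_singleton, Option.some.injEq] at h
    simp only [List.singleton_append, keysFrom, force_eq, Bool.and_eq_true]
    exact ⟨ha.1, ha.2.1, h ▸ hb⟩
  | u :: u' :: a, b, lo, hi, ha, hb, h => by
    rw [keysFrom, force_eq] at ha
    rw [List.cons_append, keysFrom, force_eq]
    simp only [Bool.and_eq_true] at ha ⊢
    refine ⟨ha.1, ha.2.1, keysFrom_append ha.2.2 hb ?_⟩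
    simpa [List.getLast?_cons_cons] using h

/-- The conjugators. -/
def nodes : List (List ℕ) :=
  node0.map (unpk 512) ++ (node1.map (unpk 512) ++ (node2.map (unpk 512) ++ (node3.map (unpk 512) ++
    (node4.map (unpk 512) ++ (node5.map (unpk 512) ++ (node6.map (unpk 512) ++ (node7.map (unpk 512) ++
      node8.map (unpk 512))))))))

theorem nodes_ok : keysFrom 0 nodes = true :=
  keysFrom_append node0_ok (keysFrom_append node1_ok (keysFrom_append node2_ok (keysFrom_append node3_ok
    (keysFrom_append node4_ok (keysFrom_append node5_ok (keysFrom_append node6_ok (keysFrom_append node7_ok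
      node8_ok (by decide +kernel)) (by decide +kernel)) (by decide +kernel)) (by decide +kernel))
        (by decide +kernel)) (by decide +kernel)) (by decide +kernel)) (by decide +kernel)

theorem nodes_length : nodes.length = 4095 := by decide +kernel

theorem fixedIn_get {pts : List ℕ} {i : ℕ} : ∀ {n s : ℕ}, fixedIn pts n s = true → s ≤ i → i < s + n →
    swalk [0] i = i → i ∈ pts
  | 0, _, _, h1, h2, _ => by omega
  | n + 1, s, h, h1, h2, hi => by
    rw [fixedIn, force_eq, Bool.and_eq_true] at h
    rcases Nat.eq_or_lt_of_le h1 with rfl | h1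
    · simp only [Bool.or_eq_true, Bool.not_eq_true', List.any_eq_true, Nat.beq_eq, ← Bool.not_eq_true] at h
      rcases h.1 with h0 | ⟨y, hy, e⟩
      · exact absurd hi h0
      · exact e ▸ hy
    · exact fixedIn_get h.2 (by omega) (by omega) hi

/-- The centraliser of the involution has at most 3317760 elements. -/
theorem card_centralizer_le :
    Nat.card (Subgroup.centralizer ({invA} : Set Cfsg.Spor.Suz)) ≤ 3317760 := by
  classical
  set C := Subgroup.centralizer ({invA} : Set Cfsg.Spor.Suz)
  have hcomm : ∀ c ∈ C, ∀ i : Fin 1782, SuzOut.act invA i = i → SuzOut.act invA (SuzOut.act c i) = SuzOut.act c i := fun c hc i hi => by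
    rw [← Equiv.Perm.mul_apply, ← map_mul, ← Subgroup.mem_centralizer_singleton_iff.1 hc, map_mul,
      Equiv.Perm.mul_apply, hi]
  have hwA : ∀ i : Fin 1782, (SuzOut.act invA i).1 = swalk [0] i.1 := fun i => act_word (by simp) i
  have h0 : SuzOut.act invA pt0 = pt0 := Fin.ext ((hwA pt0).trans (by decide +kernel))
  have hmem : ∀ a : C, (SuzOut.act a.1 pt0).1 ∈ fixPts := fun a => by
    refine fixedIn_get fixed_ok (Nat.zero_le _) (by have := (SuzOut.act a.1 pt0).2; omega) ?_
    rw [← hwA, hcomm a.1 a.2 pt0 h0]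
  -- the part fixing the first point
  obtain ⟨hn, hpw⟩ := keys_get nodes_ok
  let u : Fin 4095 → List ℕ := fun i => nodes.getD i.1 []
  have hu : ∀ i, (∀ g ∈ u i, g < 7) ∧ swalk (u i) 0 = 0 := fun i => by
    have h := hn (u i) (by
      show nodes.getD i.1 [] ∈ nodes
      rw [List.getD_eq_getElem _ _ (by rw [nodes_length]; exact i.2)]
      exact List.getElem_mem _)
    exact ⟨h.1, h.2.1⟩
  have hustab : ∀ i, wordVal xgen (u i) ∈ stab := fun i =>
    Fin.ext ((act_word (hu i).1 pt0).trans (hu i).2)
  have hle : Nat.card ↥(C ⊓ stab) ≤ 61440 := by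
    have h := Nat.card_le_card_of_injective (fun x : Fin 4095 × ↥(C ⊓ stab) =>
      (⟨wordVal xgen (u x.1) * x.2.1, mul_mem (hustab _) x.2.2.2⟩ : stab)) (by
      rintro ⟨i, a⟩ ⟨j, b⟩ h
      have h' : wordVal xgen (u i) * a.1 = wordVal xgen (u j) * b.1 := congrArg Subtype.val h
      have hconj : ∀ (i : Fin 4095) (a : ↥(C ⊓ stab)),
          wordVal xgen (u i) * invA * (wordVal xgen (u i))⁻¹ =
            wordVal xgen (u i) * a.1 * invA * (wordVal xgen (u i) * a.1)⁻¹ := fun i a => by
        rw [mul_inv_rev, mul_assoc _ a.1 invA, Subgroup.mem_centralizer_singleton_iff.1 a.2.1]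
        group
      have hk : keyOf (cwW (u i)) = keyOf (cwW (u j)) := by
        have hlt : ∀ i, ∀ g ∈ cwW (u i), g < 7 := fun i g hg => by
          simp only [cwW, List.mem_append, List.mem_reverse, List.mem_cons] at hg
          rcases hg with hg | rfl | hg
          · exact (hu i).1 g hg
          · norm_num
          · exact (hu i).1 g hg
        have hv : wordVal xgen (cwW (u i)) = wordVal xgen (cwW (u j)) := by
          rw [cwW, cwW, ← List.singleton_append (x := 0) (l := u i), ← List.singleton_append (x := 0) (l := u j),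
            ← List.append_assoc, ← List.append_assoc, val_cw, val_cw, hconj i a, hconj j b, h']
        have e : ∀ p, p < 1782 → swalk (cwW (u i)) p = swalk (cwW (u j)) p := fun p hp => by
          rw [← act_word (hlt i) ⟨p, hp⟩, ← act_word (hlt j) ⟨p, hp⟩, hv]
        simp [keyOf, basePts, e]
      obtain rfl : i = j := by
        have hnd : (nodes.map fun u => keyOf (cwW u)).Nodup := hpw.imp fun h => Nat.ne_of_lt h
        refine Fin.ext (List.inj_on_of_nodup_map (f := fun i => keyOf (cwW (nodes.getD i []))) ?_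
          (List.mem_range.2 i.2) (List.mem_range.2 j.2) hk)
        rwa [show (List.range 4095).map (fun i => keyOf (cwW (nodes.getD i []))) =
          nodes.map fun u => keyOf (cwW u) by
            refine List.ext_getElem (by simp [nodes_length]) fun k h1 h2 => ?_
            simp [List.getD_eq_getElem?_getD, List.getElem?_eq_getElem (l := nodes) (by simpa using h2)]]
      exact Prod.ext rfl (Subtype.ext (mul_left_cancel h')))
    rw [Nat.card_prod, Nat.card_eq_fintype_card, Fintype.card_fin] at h
    have := h.trans card_stab_le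
    omega
  let q : C → {x // x ∈ fixPts.toFinset} := fun a => ⟨(SuzOut.act a.1 pt0).1, List.mem_toFinset.2 (hmem a)⟩
  let r : {x // x ∈ fixPts.toFinset} → C := fun x =>
    if h : ∃ a : C, q a = x then h.choose else 1
  have hqr : ∀ a : C, SuzOut.act (r (q a)).1 pt0 = SuzOut.act a.1 pt0 := fun a => by
    have h : ∃ b : C, q b = q a := ⟨a, rfl⟩
    simp only [r, dif_pos h]
    exact Fin.ext (congrArg Subtype.val h.choose_spec)
  have hinj : Function.Injective (fun a : C => (q a, (⟨((r (q a))⁻¹ * a : C).1,
      ((r (q a))⁻¹ * a).2, by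
        show SuzOut.act _ pt0 = pt0
        rw [Subgroup.coe_mul, map_mul, Equiv.Perm.mul_apply, ← hqr a, ← Equiv.Perm.mul_apply, ← map_mul,
          Subgroup.coe_inv, inv_mul_cancel, map_one, Equiv.Perm.one_apply]⟩ :
      ↥(C ⊓ stab)))) := by
    intro a b h
    have h1 : q a = q b := congrArg Prod.fst h
    have h2 := congrArg (fun z : _ × ↥(C ⊓ stab) => (z.2 : Cfsg.Spor.Suz)) h
    simp only [h1, Subgroup.coe_mul] at h2
    exact Subtype.ext (mul_left_cancel h2)
  have hfix : Nat.card {x // x ∈ fixPts.toFinset} ≤ 54 := by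
    rw [Nat.card_eq_fintype_card, Fintype.card_coe]
    exact (List.toFinset_card_le _).trans (by decide)
  calc Nat.card C ≤ _ := Nat.card_le_card_of_injective _ hinj
    _ = Nat.card {x // x ∈ fixPts.toFinset} * Nat.card ↥(C ⊓ stab) := Nat.card_prod _ _
    _ ≤ 54 * 61440 := Nat.mul_le_mul hfix hle

theorem cBase_ok : BaseOK SuzG24.tabP 7 1782 cLevels :=
  ⟨cNest0, cOrbit0, cNest1, cOrbit1, cNest2, cOrbit2, cNest3, cOrbit3, trivial⟩

/-- The centraliser of the involution is perfect. -/
theorem centralizer_perfect : Subgroup.centralizer ({invA} : Set Cfsg.Spor.Suz) ≤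
    ⁅Subgroup.centralizer ({invA} : Set Cfsg.Spor.Suz), Subgroup.centralizer ({invA} : Set Cfsg.Spor.Suz)⁆ := by
  set C := Subgroup.centralizer ({invA} : Set Cfsg.Spor.Suz)
  have h := comms_ok
  simp only [Bool.and_eq_true, List.all_eq_true, List.any_eq_true] at h
  obtain ⟨hall, hcov⟩ := h
  have hin : ∀ v ∈ cU0, wordVal xgen v ∈ ⁅C, C⁆ := by
    intro v hv
    obtain ⟨P, hP, e⟩ := hcov v hv
    obtain rfl := beqW_eq e
    have h := hall P hP
    simp only [commOK, Bool.and_eq_true, List.all_eq_true] at h
    obtain ⟨⟨hw, hps⟩, hs⟩ := h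
    have key : ∀ ps : List (List ℕ × List ℕ), (∀ p ∈ ps, centOK p.1 = true ∧ centOK p.2 = true) →
        (∀ a ∈ ps.flatMap (fun p => commW p.1 p.2), a < 7) ∧
          wordVal xgen (ps.flatMap fun p => commW p.1 p.2) ∈ ⁅C, C⁆ := by
      intro ps
      induction ps with
      | nil => exact fun _ => ⟨by simp, one_mem _⟩
      | cons p ps ih =>
        intro hps
        obtain ⟨ih1, ih2⟩ := ih fun q hq => hps q (List.mem_cons_of_mem _ hq)
        obtain ⟨hp1, hp2⟩ := hps p (List.mem_cons_self ..)
        obtain ⟨a1, a2⟩ := cent_of_ok hp1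
        obtain ⟨b1, b2⟩ := cent_of_ok hp2
        rw [List.flatMap_cons, val_app]
        refine ⟨fun a ha => ?_, mul_mem ih2 ?_⟩
        · rcases List.mem_append.1 ha with ha | ha
          · simp only [commW, List.mem_append, List.mem_reverse] at ha
            rcases ha with ((ha | ha) | ha) | ha
            exacts [b1 a ha, a1 a ha, b1 a ha, a1 a ha]
          · exact ih1 a ha
        · rw [commW, val_app, val_app, val_app, val_rev, val_rev]
          have := Subgroup.commutator_mem_commutator a2 b2
          rwa [commutatorElement_def, mul_assoc, mul_assoc] at this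
    obtain ⟨k1, k2⟩ := key P.2 fun p hp => hps p hp
    rw [← eq_of_sameW k1 (cent_of_ok hw).1 hs]
    exact k2
  have hb := card_mul_le_of_base cBase_ok (Subgroup.closure (wordVal xgen '' {u | u ∈ cU0}))
    (fun u hu => Subgroup.subset_closure ⟨u, hu, rfl⟩)
  have hsize : baseSize cLevels = 3317760 := by decide +kernel
  have hK : Subgroup.closure (wordVal xgen '' {u | u ∈ cU0}) ≤ ⁅C, C⁆ := by
    rw [Subgroup.closure_le]
    rintro _ ⟨u, hu, rfl⟩
    exact hin u hu
  have hle : ⁅C, C⁆ ≤ C := Subgroup.commutator_le.2 fun a ha b hb =>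
    mul_mem (mul_mem (mul_mem ha hb) (inv_mem ha)) (inv_mem hb)
  refine (Subgroup.eq_of_le_of_card_ge (hK.trans hle) ?_).symm.le.trans hK
  refine card_centralizer_le.trans (le_trans ?_ hb)
  rw [hsize]
  exact Nat.le_mul_of_pos_right _ Nat.card_pos

end Cfsg.Lib.CosetEnum.SuzMult
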