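import Cfsg.Agent.Lib.CosetEnum.Groups.SuzStem
import Cfsg.Agent.Lib.CosetEnum.SuzMult.MatCheck

/-!
# The Schur multiplier of the Suzuki sporadic group is cyclic of order six

A sixfold cover is given by matrices of degree twelve over the integers modulo seven.
-/

set_option autoImplicit false
set_option maxRecDepth 100000
set_option maxHeartbeats 1000000

namespace Cfsg.Lib.CosetEnum.SuzMult

open Cfsg.Spor SuzPres MatSeven

theorem three_pow_mod :
    (((3 ^ 6 % 7 : ℕ)) : ZMod 7) = 1 ∧ (((3 ^ 1 % 7 : ℕ)) : ZMod 7) ≠ 1 ∧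
      (((3 ^ 2 % 7 : ℕ)) : ZMod 7) ≠ 1 ∧ (((3 ^ 3 % 7 : ℕ)) : ZMod 7) ≠ 1 := by decide

theorem exists_cover : ∃ (Γ : Type) (_ : Group Γ) (_ : Finite Γ) (σ : Γ →* Cfsg.Spor.Suz),
    Cfsg.IsStemExtension σ ∧ Nonempty (σ.ker ≃* Multiplicative (ZMod 6)) := by
  classical
  have : Fact (Nat.Prime 7) := ⟨by norm_num⟩
  have hI := mats_inv
  simp only [Bool.and_eq_true, Nat.beq_eq, List.all_eq_true, List.mem_range] at hI
  obtain ⟨hlenM, hinv⟩ := hI
  have hM : ∀ g < mats.length, shapeOK 12 (mats.getD g []) = true := fun g hg =>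
    (mul_eq_one (hinv g (hlenM ▸ hg))).1
  let u : ℕ → (Matrix (Fin 12) (Fin 12) (ZMod 7))ˣ := fun g =>
    if h : g < 7 then ⟨toMat 12 (mats.getD g []), toMat 12 (matsInv.getD g []),
      (mul_eq_one (hinv g h)).2.1, (mul_eq_one (hinv g h)).2.2⟩
    else 1
  have hu : ∀ g < mats.length,
      (u g : Matrix (Fin 12) (Fin 12) (ZMod 7)) = toMat 12 (mats.getD g []) :=
    fun g hg => by simp only [u, dif_pos (hlenM ▸ hg : g < 7)]
  have hval : ∀ {c : ℕ} {w : List ℕ}, valOK 12 mats c w = true →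
      ((wordVal u w : (Matrix (Fin 12) (Fin 12) (ZMod 7))ˣ) : Matrix (Fin 12) (Fin 12) (ZMod 7)) =
        (c : ZMod 7) • (1 : Matrix (Fin 12) (Fin 12) (ZMod 7)) := fun h =>
    wordVal_of_valOK hM hu (by rw [hlenM]; decide) h
  have hL := mats_lam
  simp only [Bool.and_eq_true, Nat.beq_eq, List.all_eq_true, List.any_eq_true] at hL
  obtain ⟨⟨hlam, hev⟩, hlamg⟩ := hL
  set Λ := wordVal u lamWord with hΛdef
  have hΛ : ∀ i : ℕ, ((Λ ^ i : (Matrix (Fin 12) (Fin 12) (ZMod 7))ˣ) : Matrix (Fin 12) (Fin 12) (ZMod 7)) =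
      (((3 ^ i % 7 : ℕ)) : ZMod 7) • (1 : Matrix (Fin 12) (Fin 12) (ZMod 7)) := fun i => by
    rw [Units.val_pow_eq_pow_val, hval hlam, smul_pow, one_pow, ZMod.natCast_mod, Nat.cast_pow]
  have hne : ∀ i : ℕ, (((3 ^ i % 7 : ℕ)) : ZMod 7) ≠ 1 → Λ ^ i ≠ 1 := fun i hi h => by
    have h' := congrArg (fun M : Matrix (Fin 12) (Fin 12) (ZMod 7) => M 0 0)
      ((hΛ i).symm.trans (by rw [h, Units.val_one]))
    simp only [Matrix.smul_apply, Matrix.one_apply_eq, smul_eq_mul, mul_one] at h'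
    exact hi h'
  have hΛ6 : Λ ^ 6 = 1 := Units.ext (by
    rw [hΛ 6, three_pow_mod.1, one_smul, Units.val_one])
  have hord : orderOf Λ = 6 := by
    have hmem : orderOf Λ ∈ Nat.divisors 6 := Nat.mem_divisors.2 ⟨orderOf_dvd_of_pow_eq_one hΛ6, by norm_num⟩
    have hpow := pow_orderOf_eq_one Λ
    rw [show Nat.divisors 6 = {1, 2, 3, 6} by decide] at hmem
    simp only [Finset.mem_insert, Finset.mem_singleton] at hmem
    rcases hmem with e | e | e | e
    · exact absurd (e ▸ hpow) (hne 1 three_pow_mod.2.1)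
    · exact absurd (e ▸ hpow) (hne 2 three_pow_mod.2.2.1)
    · exact absurd (e ▸ hpow) (hne 3 three_pow_mod.2.2.2)
    · exact e
  -- the group
  set H := Subgroup.closure (u '' {g | g < 7}) with hHdef
  have huH : ∀ g, u g ∈ H := fun g => by
    by_cases hg : g < 7
    · exact Subgroup.subset_closure ⟨g, hg, rfl⟩
    · simp only [u, dif_neg hg]; exact one_mem H
  let y : ℕ → H := fun g => ⟨u g, huH g⟩
  have hy : ∀ w, ((wordVal y w : H) : (Matrix (Fin 12) (Fin 12) (ZMod 7))ˣ) = wordVal u w :=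
    fun w => map_wordVal H.subtype y w
  let c' : H := wordVal y lamWord
  have hc' : (c' : (Matrix (Fin 12) (Fin 12) (ZMod 7))ˣ) = Λ := hy lamWord
  have hcent : ∀ a : H, a * c' = c' * a := fun a => Subtype.ext (Units.ext (by
    show (a.1 : Matrix (Fin 12) (Fin 12) (ZMod 7)) * (c'.1 : Matrix (Fin 12) (Fin 12) (ZMod 7)) = _ * _
    rw [hc', hΛdef, hval hlam, mul_smul_comm, smul_mul_assoc, mul_one, one_mul]))
  set Z := Subgroup.zpowers c'
  have hZc : Z ≤ Subgroup.center H := Subgroup.zpowers_le.2 (Subgroup.mem_center_iff.2 hcent)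
  have : Z.Normal := ⟨fun a ha b => by
    rw [Subgroup.mem_center_iff.1 (hZc ha) b, mul_inv_cancel_right]; exact ha⟩
  let q := QuotientGroup.mk' Z
  have hR := mats_rel
  simp only [Bool.and_eq_true, Nat.beq_eq, List.all_eq_true, List.mem_range] at hR
  obtain ⟨⟨-, hlenR⟩, hrv⟩ := hR
  have hrel : ∀ r ∈ SuzG24.cert.R0, q (wordVal y r) = 1 := by
    intro r hr
    obtain ⟨i, hi, rfl⟩ := List.getElem_of_mem hr
    refine (QuotientGroup.eq_one_iff _).2 ?_
    have h := hval (hrv i (hlenR ▸ hi))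
    rw [List.getD_eq_getElem _ _ hi] at h
    have e : wordVal y SuzG24.cert.R0[i] = c' ^ relPow.getD i 0 := Subtype.ext (Units.ext (by
      rw [SubgroupClass.coe_pow, hc', hΛ, hy, h]))
    rw [e]
    exact pow_mem (Subgroup.mem_zpowers c') _
  have hysq : ∀ g, q (y g) * q (y g) = 1 := by
    intro g
    rw [← map_mul]
    by_cases hg : g < 7
    · have hmem : [g, g] ∈ SuzG24.cert.R0 := by
        have h : ∀ a : Fin 7, [a.1, a.1] ∈ SuzG24.cert.R0 := by decide +kernel
        exact h ⟨g, hg⟩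
      have h := hrel _ hmem
      simpa [wordVal, gen, show g ≠ eps by unfold eps; omega] using h
    · rw [show y g = 1 from Subtype.ext (by simp only [y, u, dif_neg hg]; rfl), one_mul, map_one]
  have hlift := numbering.lift_eq_one (show numbering.k ≤ eps by decide) (fun g => q (y g))
    (map_extra _ hysq) (fun r hr => by
      rw [← map_wordVal q y r]
      exact hrel r (R0_eq ▸ hr))
  let φ : Cfsg.Spor.Suz →* H ⧸ Z := PresentedGroup.toGroup hlift
  have hφ : ∀ g < 7, φ (numbering.gens Suz.extra g) = q (y g) := fun g hg => by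
    rw [Numbering.gens, if_pos (show g < numbering.k from hg)]
    refine (PresentedGroup.toGroup.of hlift).trans ?_
    rw [numbering.num_letter g hg]
  have hsurj : Function.Surjective φ := by
    intro a
    obtain ⟨⟨a, ha⟩, rfl⟩ := QuotientGroup.mk'_surjective Z a
    have hle : H ≤ (φ.range.comap q).map H.subtype := by
      refine (Subgroup.closure_le _).2 ?_
      rintro _ ⟨g, hg, rfl⟩
      exact ⟨y g, ⟨_, hφ g hg⟩, rfl⟩
    obtain ⟨b, hb, hba⟩ := hle ha
    obtain ⟨v, hv⟩ := hb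
    exact ⟨v, hv.trans (congrArg q (Subtype.ext hba))⟩
  have hnc : ¬ y 0 * y 1 = y 1 * y 0 := by
    intro h
    apply mats_noncomm
    have e1 := (prodL_spec hM hu (by rw [hlenM]; decide) [0, 1] (by rw [hlenM]; decide)).2
    have e2 := (prodL_spec hM hu (by rw [hlenM]; decide) [1, 0] (by rw [hlenM]; decide)).2
    rw [e1, e2]
    have h' := congrArg (fun a : H => ((a : (Matrix (Fin 12) (Fin 12) (ZMod 7))ˣ) :
      Matrix (Fin 12) (Fin 12) (ZMod 7))) h
    simp only [Subgroup.coe_mul, Units.val_mul, y] at h'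
    simp [wordVal, gen, eps, h']
  have hsimple : IsSimpleGroup Cfsg.Spor.Suz := isSuz.1
  have hfin : Finite Cfsg.Spor.Suz := Nat.finite_of_card_ne_zero (by rw [isSuz.2]; norm_num)
  have hinj : Function.Injective φ := by
    rw [← MonoidHom.ker_eq_bot_iff]
    refine (φ.normal_ker.eq_bot_or_eq_top).resolve_right fun h => hnc ?_
    have hall : ∀ g < 7, y g ∈ Z := fun g hg => by
      refine (QuotientGroup.eq_one_iff _).1 ?_
      show q (y g) = 1
      rw [← hφ g hg]
      exact φ.mem_ker.1 (h ▸ Subgroup.mem_top _)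
    exact Subgroup.mem_center_iff.1 (hZc (hall 1 (by decide))) (y 0)
  let e := MulEquiv.ofBijective φ ⟨hinj, hsurj⟩
  let σ : H →* Cfsg.Spor.Suz := e.symm.toMonoidHom.comp q
  have hkerσ : σ.ker = Z := by
    ext a
    rw [MonoidHom.mem_ker]
    show e.symm (q a) = 1 ↔ a ∈ Z
    rw [EmbeddingLike.map_eq_one_iff]
    exact QuotientGroup.eq_one_iff a
  have hcardZ : Nat.card Z = 6 := by
    rw [Nat.card_zpowers, ← Subgroup.orderOf_coe c', hc', hord]
  have : Finite Z := Nat.finite_of_card_ne_zero (by rw [hcardZ]; decide)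
  have : Finite (H ⧸ Z) := Finite.of_equiv _ e.toEquiv
  have hfinH : Finite H := Finite.of_subgroup_quotient Z
  -- the scalar lies in the derived subgroup
  let ψ : H →* Abelianization H := Abelianization.of
  have hone : ∀ {w : List ℕ}, valOK 12 mats 1 w = true → ψ (wordVal y w) = 1 := fun {w} h => by
    rw [show wordVal y w = 1 from Subtype.ext (Units.ext (by
      rw [hy, hval h, Nat.cast_one, one_smul]; rfl)), map_one]
  have hsq := mats_square
  simp only [List.all_eq_true] at hsq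
  have hs : ∀ g ∈ [0, 1, 2, 5, 6], g ≠ eps → ψ (y g) * ψ (y g) = 1 := fun g hg hne => by
    have := hone (hsq g hg)
    simpa [wordVal, gen, hne] using this
  have hbr := mats_braid
  simp only [List.all_eq_true] at hbr
  have hpair : ∀ p ∈ [(0, 1, 5), (1, 2, 3), (1, 5, 3), (1, 6, 3)], ψ (y p.1) = ψ (y p.2.1) := by
    intro p hp
    obtain ⟨h1, h2, ⟨m, hm⟩, h3, h4⟩ :=
      (show ∀ q ∈ [(0, 1, 5), (1, 2, 3), (1, 5, 3), (1, 6, 3)], q.1 ∈ [0, 1, 2, 5, 6] ∧
        q.2.1 ∈ [0, 1, 2, 5, 6] ∧ (∃ m, q.2.2 = 2 * m + 1) ∧ q.1 ≠ eps ∧ q.2.1 ≠ eps by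
          intro q hq
          simp only [List.mem_cons, List.not_mem_nil, or_false] at hq
          rcases hq with rfl | rfl | rfl | rfl
          · exact ⟨by simp, by simp, ⟨2, rfl⟩, by decide, by decide⟩
          · exact ⟨by simp, by simp, ⟨1, rfl⟩, by decide, by decide⟩
          · exact ⟨by simp, by simp, ⟨1, rfl⟩, by decide, by decide⟩
          · exact ⟨by simp, by simp, ⟨1, rfl⟩, by decide, by decide⟩) p hp
    have h := hone (hbr p hp)
    rw [wordVal_replicate y _ _ h3 h4, map_pow, map_mul, hm, mul_pow, pow_succ, pow_succ _ (2 * m), pow_mul,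
      pow_mul, pow_two, pow_two, hs _ h1 h3, hs _ h2 h4, one_pow, one_mul, one_mul] at h
    rw [eq_inv_of_mul_eq_one_left h, inv_eq_of_mul_eq_one_left (hs _ h2 h4)]
  have hall : ∀ g ∈ [0, 1, 2, 5, 6], ψ (y g) = ψ (y 0) := by
    have e1 := hpair (0, 1, 5) (by simp)
    intro g hg
    simp only [List.mem_cons, List.not_mem_nil, or_false] at hg
    rcases hg with rfl | rfl | rfl | rfl | rfl
    · rfl
    · exact e1.symm
    · exact (hpair (1, 2, 3) (by simp)).symm.trans e1.symm
    · exact (hpair (1, 5, 3) (by simp)).symm.trans e1.symm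
    · exact (hpair (1, 6, 3) (by simp)).symm.trans e1.symm
  have hpow : ∀ w : List ℕ, (∀ g ∈ w, g ∈ [0, 1, 2, 5, 6]) → ψ (wordVal y w) = ψ (y 0) ^ w.length := by
    intro w
    induction w with
    | nil => intro _; simp [wordVal]
    | cons g w ih =>
      intro hw
      have hg := hw g (by simp)
      rw [wordVal, map_mul, ih fun a ha => hw a (by simp [ha]), gen,
        if_neg (show g ≠ eps from (show ∀ a ∈ [0, 1, 2, 5, 6], a ≠ eps by decide) g hg),
        hall g hg, List.length_cons, pow_succ]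
  have hcomm : c' ∈ commutator H := by
    rw [← Abelianization.ker_of, MonoidHom.mem_ker]
    show ψ (wordVal y lamWord) = 1
    rw [hpow lamWord (fun g hg => by
        obtain ⟨a, ha, e⟩ := hlamg g hg
        exact e ▸ ha),
      ← Nat.div_add_mod lamWord.length 2, hev, add_zero, pow_mul, pow_two,
      hs 0 (by simp) (by decide), one_pow]
  refine ⟨H, inferInstance, hfinH, σ, ⟨e.symm.surjective.comp (QuotientGroup.mk'_surjective Z),
    hkerσ.le.trans hZc, hkerσ.le.trans (Subgroup.zpowers_le.2 hcomm)⟩, ?_⟩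
  have hcyc : IsCyclic Z := inferInstance
  exact ⟨(MulEquiv.subgroupCongr hkerσ).trans
    (((zmodCyclicMulEquiv hcyc).symm).trans (by rw [hcardZ]))⟩

/-- The Schur multiplier of the Suzuki group is cyclic of order six. -/
theorem multiplier : Cfsg.HasCyclicSchurMultiplier Cfsg.Spor.Suz 6 :=
  ⟨exists_cover, fun Γ _ _ σ hσ => stem_ker σ hσ⟩

end Cfsg.Lib.CosetEnum.SuzMult
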