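import Cfsg.Agent.Lib.CosetEnum.Groups.SuzSimple
import Cfsg.Agent.Lib.CosetEnum.SuzOut.Check

/-!
# The Suzuki sporadic group as automorphisms of its graph

The action on 1782 points, the invariance of the adjacency relation, the graph automorphism `σ` and the
bound on the centraliser of a permutation among the automorphisms of the graph.
-/

set_option autoImplicit false
set_option maxRecDepth 100000
set_option maxHeartbeats 1000000
set_option linter.style.haveILetI false

namespace Cfsg.Lib.CosetEnum.SuzOut

open Cfsg.Spor Cfsg.Lib.CosetEnum.SuzPres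

/-- The generators by number. -/
def xgen : ℕ → Cfsg.Spor.Suz := numbering.gens Suz.extra

theorem card_Suz : Nat.card Cfsg.Spor.Suz = 448345497600 := isSuz.2

instance finite_Suz : Finite Cfsg.Spor.Suz := Nat.finite_of_card_ne_zero (by rw [card_Suz]; norm_num)

theorem perm_ok : permOK SuzG24.tabP 7 1782 SuzG24.cert.R1 1782 0 = true := SuzG24.cert_valid.perm

theorem tree_ok : treeOK SuzG24.tabP SuzG24.cert.step.F 7 1781 0 = true := SuzG24.cert_valid.tree

theorem exists_act : ∃ f : Cfsg.Spor.Suz →* Equiv.Perm (Fin 1782),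
    ∀ g < 7, f (xgen g) = tperm SuzG24.tabP 7 1782 g := by
  obtain ⟨f, hf⟩ := numbering.exists_hom (show numbering.k ≤ eps by decide) Suz.extra SuzG24.cert_valid
    (show SuzG24.cert.R0 = numbering.pairs ++ extra by decide +kernel) rfl
    (map_extra _ fun g => tperm_mul_self _ _ _ g)
  exact ⟨f, hf⟩

/-- The action on 1782 points. -/
noncomputable def act : Cfsg.Spor.Suz →* Equiv.Perm (Fin 1782) := exists_act.choose

theorem act_gen : ∀ g < 7, act (xgen g) = tperm SuzG24.tabP 7 1782 g := exists_act.choose_spec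

theorem letters_lt {w : List ℕ} (h : letters w = true) : ∀ g ∈ w, g < 7 := fun g hg => by
  simp only [letters, List.all_eq_true, Nat.blt_eq] at h
  exact h g hg

theorem act_word {w : List ℕ} (h : ∀ g ∈ w, g < 7) (i : Fin 1782) :
    (act (wordVal xgen w) i).1 = swalk w i.1 := by
  have hw : act (wordVal xgen w) = wordVal (tperm SuzG24.tabP 7 1782) w := by
    induction w with
    | nil => exact map_one act
    | cons g w ih =>
      rw [wordVal, wordVal, map_mul, ih fun a ha => h a (by simp [ha])]
      have hg : g < 7 := h g (by simp)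
      congr 1
      rw [gen, gen, if_neg (by unfold eps; omega), if_neg (by unfold eps; omega), act_gen g hg]
  rw [hw, swalk, wordVal_tperm perm_ok (by decide) w h]

theorem act_injective : Function.Injective act :=
  (card_eq_of_base xgen act perm_ok (by decide) act_gen base_ok
    (le_of_eq (card_Suz.trans baseSize_levels.symm))).2

/-- The elements fixing the first point of every level. -/
def fixSub (Ls : List BaseLevel) : Subgroup Cfsg.Spor.Suz where
  carrier := {a | ∀ L ∈ Ls, ∀ i : Fin 1782, i.1 = L.O.getP 0 / B / B → act a i = i}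
  one_mem' := fun L _ i _ => by simp
  mul_mem' {a b} ha hb L hL i hi := by
    rw [map_mul, Equiv.Perm.mul_apply, hb L hL i hi, ha L hL i hi]
  inv_mem' {a} ha L hL i hi := by
    rw [map_inv, Equiv.Perm.inv_def, Equiv.symm_apply_eq, ha L hL i hi]

theorem card_mul_le_of_base : ∀ {Ls : List BaseLevel}, BaseOK SuzG24.tabP 7 1782 Ls →
    ∀ S : Subgroup Cfsg.Spor.Suz,
      (∀ u ∈ (Ls.head?.map BaseLevel.U).getD [], wordVal xgen u ∈ S) →
      baseSize Ls * Nat.card ↥(S ⊓ fixSub Ls) ≤ Nat.card S
  | [], _, S, _ => by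
    rw [baseSize, one_mul]
    exact Subgroup.card_le_of_le inf_le_left
  | L :: Ls, ⟨hnest, horb, hrest⟩, S, hS => by
    classical
    simp only [List.head?_cons, Option.map_some, Option.getD_some] at hS
    simp only [nestOK, force_eq, Bool.and_eq_true, Nat.blt_eq, List.all_eq_true] at hnest
    obtain ⟨p, hp, hcard, -⟩ := orbit_eq xgen act perm_ok (by decide) act_gen horb hnest.1
    let S' : Subgroup Cfsg.Spor.Suz := S ⊓ fixSub [L]
    have ih := card_mul_le_of_base hrest S' (fun u hu => by
      have hu' := hnest.2 u hu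
      simp only [Bool.and_eq_true, List.all_eq_true, Nat.blt_eq, Nat.beq_eq,
        List.any_eq_true, and_assoc] at hu'
      obtain ⟨hlt, hfix, v, hv, hvu⟩ := hu'
      refine ⟨beqW_eq hvu ▸ hS v hv, fun M hM i hi => ?_⟩
      rw [List.mem_singleton] at hM
      subst hM
      exact Fin.ext (by rw [act_word hlt, hi]; exact hfix))
    have hsplit : S' ⊓ fixSub Ls = S ⊓ fixSub (L :: Ls) := by
      ext a
      constructor
      · rintro ⟨⟨h1, h2⟩, h3⟩
        exact ⟨h1, fun M hM => (List.mem_cons.1 hM).elim (fun e => h2 M (List.mem_singleton.2 e)) (h3 M)⟩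
      · rintro ⟨h1, h2⟩
        exact ⟨⟨h1, fun M hM => h2 M (by rw [List.mem_singleton.1 hM]; simp)⟩,
          fun M hM => h2 M (List.mem_cons_of_mem _ hM)⟩
    rw [hsplit] at ih
    let O : Set (Fin 1782) := (fun a => act a p) ''
      (Subgroup.closure ((wordVal xgen) '' {u | u ∈ L.U}) : Set Cfsg.Spor.Suz)
    have hOc : Nat.card O = L.c := by rw [Nat.card_coe_set_eq]; exact hcard
    have hcl : Subgroup.closure ((wordVal xgen) '' {u | u ∈ L.U}) ≤ S := by
      rw [Subgroup.closure_le]
      rintro _ ⟨u, hu, rfl⟩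
      exact hS u hu
    choose r hrS hrp using fun q : O => show ∃ a ∈ S, act a p = q.1 from by
      obtain ⟨a, ha, e⟩ := q.2
      exact ⟨a, hcl ha, e⟩
    have hinj : Function.Injective fun x : O × S' =>
        (⟨r x.1 * x.2.1, mul_mem (hrS _) x.2.2.1⟩ : S) := by
      rintro ⟨q, a⟩ ⟨q', a'⟩ h
      have h' : r q * a.1 = r q' * a'.1 := congrArg Subtype.val h
      have hq : q = q' := by
        have ha : ∀ a : S', act a.1 p = p := fun a =>
          a.2.2 L (List.mem_singleton_self L) p hp
        have := congrArg (fun z => act z p) h'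
        simp only [map_mul, Equiv.Perm.mul_apply, ha, hrp] at this
        exact Subtype.ext this
      subst hq
      exact Prod.ext rfl (Subtype.ext (mul_left_cancel h'))
    have h1 := Nat.card_le_card_of_injective _ hinj
    rw [Nat.card_prod, hOc] at h1
    calc baseSize (L :: Ls) * Nat.card ↥(S ⊓ fixSub (L :: Ls))
        = L.c * (baseSize Ls * Nat.card ↥(S ⊓ fixSub (L :: Ls))) := by rw [baseSize, mul_assoc]
      _ ≤ L.c * Nat.card S' := Nat.mul_le_mul le_rfl ih
      _ ≤ Nat.card S := h1

theorem levels_pts : levels.map (fun L => L.O.getP 0 / B / B) = basePts := by decide +kernel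

/-- An element fixing the base is trivial. -/
theorem eq_one_of_fix {a : Cfsg.Spor.Suz}
    (h : ∀ i : Fin 1782, i.1 ∈ basePts → act a i = i) : a = 1 := by
  have h1 := card_mul_le_of_base base_ok ⊤ (fun _ _ => Subgroup.mem_top _)
  rw [baseSize_levels, Subgroup.card_top, card_Suz, top_inf_eq] at h1
  have h2 : Nat.card (fixSub levels) ≤ 1 := by omega
  have h3 : fixSub levels = ⊥ := Subgroup.eq_bot_of_card_le _ h2
  have h4 : a ∈ fixSub levels := fun L hL i hi => h i (by
    rw [← levels_pts]
    exact List.mem_map.2 ⟨L, hL, hi.symm⟩)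
  rw [h3] at h4
  exact h4

/-- Two words with the same images of the base give the same element. -/
theorem eq_of_sameW {u v : List ℕ} (hu : ∀ g ∈ u, g < 7) (hv : ∀ g ∈ v, g < 7)
    (h : sameW u v = true) : wordVal xgen u = wordVal xgen v := by
  simp only [sameW, List.all_eq_true, Nat.beq_eq] at h
  refine (inv_mul_eq_one.1 (eq_one_of_fix (a := (wordVal xgen v)⁻¹ * wordVal xgen u) fun i hi => ?_)).symm
  have e : act (wordVal xgen u) i = act (wordVal xgen v) i :=
    Fin.ext (by rw [act_word hu, act_word hv]; exact h i.1 hi)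
  rw [map_mul, Equiv.Perm.mul_apply, e, map_inv, Equiv.Perm.inv_def, Equiv.symm_apply_apply]

/-- The first point. -/
def pt0 : Fin 1782 := ⟨0, by norm_num⟩

/-- The stabiliser of the first point. -/
def stab : Subgroup Cfsg.Spor.Suz where
  carrier := {a | act a pt0 = pt0}
  one_mem' := by simp
  mul_mem' {a b} (ha : act a pt0 = pt0) (hb : act b pt0 = pt0) := by
    show act (a * b) pt0 = pt0
    rw [map_mul, Equiv.Perm.mul_apply, hb, ha]
  inv_mem' {a} (ha : act a pt0 = pt0) := by
    show act a⁻¹ pt0 = pt0
    rw [map_inv, Equiv.Perm.inv_def, Equiv.symm_apply_eq, ha]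

theorem exists_move (j : Fin 1782) : ∃ a : Cfsg.Spor.Suz, act a pt0 = j := by
  obtain ⟨a, -, ha⟩ := exists_smul_eq xgen act perm_ok act_gen tree_ok (by norm_num) j.1 j.2
  exact ⟨a, ha⟩

theorem card_stab_le : Nat.card stab ≤ 251596800 := by
  choose r hr using exists_move
  have h := Nat.card_le_card_of_injective (fun x : Fin 1782 × stab => r x.1 * x.2.1) (by
    rintro ⟨i, a⟩ ⟨j, b⟩ h
    have ha : ∀ a : stab, act a.1 pt0 = pt0 := fun a => a.2
    have h' := congrArg (fun z => act z pt0) h
    simp only [map_mul, Equiv.Perm.mul_apply, ha, hr] at h'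
    subst h'
    exact Prod.ext rfl (Subtype.ext (mul_left_cancel h)))
  rw [Nat.card_prod, Nat.card_eq_fintype_card, Fintype.card_fin, card_Suz] at h
  omega

/-- The words of the certificate generate the stabiliser. -/
theorem stab_eq_closure :
    Subgroup.closure (wordVal xgen '' {u | u ∈ SuzG24.subWords}) = stab := by
  set K := Subgroup.closure (wordVal xgen '' {u | u ∈ SuzG24.subWords}) with hK
  have hx : ∀ g, xgen g * xgen g = 1 := numbering.gens_mul_self Suz.extra
  have hrel : ∀ r ∈ SuzG24.cert.R0, wordVal xgen r = 1 := fun r hr =>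
    numbering.wordVal_gens (by decide) (map_extra xgen hx) r
      ((show SuzG24.cert.R0 = numbering.pairs ++ extra by decide +kernel) ▸ hr)
  obtain ⟨hidx, -⟩ := SuzG24.cert_valid.index_eq hx (numbering.closure_gens Suz.extra) hrel act act_gen hK
  have hidx' : K.index = 1782 := hidx
  have hle : K ≤ stab := by
    rw [hK, Subgroup.closure_le]
    rintro _ ⟨u, hu, rfl⟩
    have hsub : (SuzG24.subWords.all fun u => letters u && Nat.beq (swalk u 0) 0) = true := by
      decide +kernel
    simp only [List.all_eq_true, Bool.and_eq_true, Nat.beq_eq] at hsub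
    exact Fin.ext (by rw [act_word (letters_lt (hsub u hu).1)]; exact (hsub u hu).2)
  have hcard : Nat.card K = 251596800 := by
    have := Subgroup.card_mul_index K
    rw [hidx', card_Suz] at this
    omega
  exact Subgroup.eq_of_le_of_card_ge hle (hcard ▸ card_stab_le)

theorem inO_stab {a : Cfsg.Spor.Suz} (ha : a ∈ stab) :
    ∀ i : Fin 1782, inO i.1 = true → inO (act a i).1 = true := by
  have hget := fun j (hj : j < 416) => orbitOK_get SuzG24.orb0_ok j (Nat.zero_le _) (by omega)
  rw [← stab_eq_closure] at ha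
  have ha' : a ∈ Submonoid.closure (wordVal xgen '' {u | u ∈ SuzG24.subWords}) := by
    rw [← Subgroup.closure_toSubmonoid_of_finite]
    exact ha
  clear ha
  induction ha' using Submonoid.closure_induction with
  | mem u hu =>
    obtain ⟨u, hu, rfl⟩ := hu
    intro i hi
    simp only [inO, Bool.and_eq_true, Nat.blt_eq, Nat.beq_eq] at hi ⊢
    obtain ⟨hlt, h1, h2⟩ := (hget _ hi.1).2.2.2 u hu
    rw [hi.2] at h1 h2
    rw [act_word hlt, swalk]
    exact ⟨h1, h2⟩
  | one => intro i hi; simpa using hi
  | mul b c' _ _ hb hc =>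
    intro i hi
    rw [map_mul, Equiv.Perm.mul_apply]
    exact hb _ (hc _ hi)

theorem inO_stab_eq {a : Cfsg.Spor.Suz} (ha : a ∈ stab) (i : Fin 1782) :
    inO (act a i).1 = inO i.1 := by
  rw [Bool.eq_iff_iff]
  refine ⟨fun h1 => ?_, inO_stab ha i⟩
  have := inO_stab (inv_mem ha) (act a i) h1
  rwa [← Equiv.Perm.mul_apply, ← map_mul, inv_mul_cancel, map_one, Equiv.Perm.one_apply] at this

theorem reps_get {v : ℕ} : ∀ {n s : ℕ}, repsOK n s = true → s ≤ v → v < s + n →
    letters (repW v) = true ∧ swalk (repW v) v = 0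
  | 0, _, _, h1, h2 => by omega
  | n + 1, s, h, h1, h2 => by
    rw [repsOK, force_eq, Bool.and_eq_true] at h
    rcases Nat.eq_or_lt_of_le h1 with rfl | h1
    · simp only [Bool.and_eq_true, Nat.beq_eq] at h
      exact h.1
    · exact reps_get h.2 (by omega) (by omega)

/-- A word moving a point to the first one, as an element. -/
noncomputable def rep (v : Fin 1782) : Cfsg.Spor.Suz := wordVal xgen (repW v.1)

theorem act_rep (v z : Fin 1782) : (act (rep v) z).1 = swalk (repW v.1) z.1 :=
  act_word (letters_lt (reps_get reps_ok (Nat.zero_le _) (by have := v.2; omega)).1) z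

theorem rep_self (v : Fin 1782) : act (rep v) v = pt0 :=
  Fin.ext ((act_rep v v).trans (reps_get reps_ok (Nat.zero_le _) (by have := v.2; omega)).2)

/-- Adjacency can be read after any element moving the vertex to the first one. -/
theorem relB_eq {a : Cfsg.Spor.Suz} {x : Fin 1782} (h : act a x = pt0) (y : Fin 1782) :
    relB x.1 y.1 = inO (act a y).1 := by
  have hb : a * (rep x)⁻¹ ∈ stab := by
    show act _ pt0 = pt0
    rw [map_mul, map_inv, Equiv.Perm.mul_apply, Equiv.Perm.inv_def,
      show (act (rep x)).symm pt0 = x by rw [Equiv.symm_apply_eq, rep_self], h]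
  rw [relB, ← act_rep x y, ← inO_stab_eq hb (act (rep x) y), ← Equiv.Perm.mul_apply, ← map_mul,
    inv_mul_cancel_right]

/-- The automorphisms of the graph. -/
def autSub : Subgroup (Equiv.Perm (Fin 1782)) where
  carrier := {c | ∀ x y : Fin 1782, relB (c x).1 (c y).1 = relB x.1 y.1}
  one_mem' := fun x y => rfl
  mul_mem' {a b} ha hb x y := by rw [Equiv.Perm.mul_apply, Equiv.Perm.mul_apply, ha, hb]
  inv_mem' {a} ha x y := by
    have := ha (a⁻¹ x) (a⁻¹ y)
    rw [Equiv.Perm.inv_def, Equiv.apply_symm_apply, Equiv.apply_symm_apply] at this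
    exact this.symm

theorem act_mem_autSub (a : Cfsg.Spor.Suz) : act a ∈ autSub := by
  intro x y
  have h : act (rep x * a⁻¹) (act a x) = pt0 := by
    rw [map_mul, Equiv.Perm.mul_apply, ← Equiv.Perm.mul_apply (act a⁻¹), ← map_mul, inv_mul_cancel,
      map_one, Equiv.Perm.one_apply, rep_self]
  rw [relB_eq h (act a y), ← Equiv.Perm.mul_apply, ← map_mul, inv_mul_cancel_right, ← relB_eq (rep_self x) y]

/-- The permutation of a table, if it is one. -/
noncomputable def ofTab (T : Tab) : Fin 1782 → Fin 1782 :=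
  fun i => if h : T.get i.1 < 1782 then ⟨T.get i.1, h⟩ else i

theorem sigma_get {v : ℕ} : ∀ {n s : ℕ}, sigmaOK n s = true → s ≤ v → v < s + n →
    sigTab.get v < 1782 ∧ sigTab.get (sigTab.get v) = v ∧
      sigTab.get (tabH.get v) = tabH.get (sigTab.get v) ∧
      (sigTab.get v = v ↔ v ∈ sigFix)
  | 0, _, _, h1, h2 => by omega
  | n + 1, s, h, h1, h2 => by
    rw [sigmaOK, force_eq, force_eq, Bool.and_eq_true] at h
    rcases Nat.eq_or_lt_of_le h1 with rfl | h1
    · have h' := h.1
      simp only [force_eq, Bool.and_eq_true, Nat.blt_eq, Nat.beq_eq, beq_iff_eq] at h'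
      obtain ⟨⟨⟨h2, h3⟩, h4⟩, h5⟩ := h'
      refine ⟨h2, h3, h4, ?_⟩
      rw [← Nat.beq_eq, h5, List.any_eq_true]
      simp
    · exact sigma_get h.2 (by omega) (by omega)

theorem sigma_facts (v : Fin 1782) : sigTab.get v.1 < 1782 ∧ sigTab.get (sigTab.get v.1) = v.1 ∧
    sigTab.get (tabH.get v.1) = tabH.get (sigTab.get v.1) ∧ (sigTab.get v.1 = v.1 ↔ v.1 ∈ sigFix) :=
  sigma_get sigma_ok (Nat.zero_le _) (by have := v.2; omega)

/-- The automorphism of the graph outside the group. -/
noncomputable def sigma : Equiv.Perm (Fin 1782) :=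
  Function.Involutive.toPerm (ofTab sigTab) fun i => by
    have h := sigma_facts i
    refine Fin.ext ?_
    simp only [ofTab, dif_pos h.1]
    rw [dif_pos (by rw [h.2.1]; exact i.2)]
    exact h.2.1

theorem sigma_apply (i : Fin 1782) : (sigma i).1 = sigTab.get i.1 := by
  show (ofTab sigTab i).1 = _
  simp only [ofTab, dif_pos (sigma_facts i).1]

theorem sigma_sq : sigma * sigma = 1 := by
  ext i
  show (sigma (sigma i)).1 = i.1
  rw [sigma_apply, sigma_apply, (sigma_facts i).2.1]

theorem sigma_inv : sigma⁻¹ = sigma := inv_eq_of_mul_eq_one_right sigma_sq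

theorem sigConj_get {g v : ℕ} : ∀ {n s : ℕ}, sigConjOK g n s = true → s ≤ v → v < s + n →
    sigTab.get (swalk [g] (sigTab.get v)) = swalk (sigImages.getD g []) v
  | 0, _, _, h1, h2 => by omega
  | n + 1, s, h, h1, h2 => by
    rw [sigConjOK, force_eq, Bool.and_eq_true] at h
    rcases Nat.eq_or_lt_of_le h1 with rfl | h1
    · exact Nat.eq_of_beq_eq_true h.1
    · exact sigConj_get h.2 (by omega) (by omega)

theorem exists_conj (a : Cfsg.Spor.Suz) : ∃ b, act b = sigma * act a * sigma⁻¹ := by
  let T : Subgroup Cfsg.Spor.Suz := (act.range.comap (MulAut.conj sigma).toMonoidHom).comap act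
  suffices ⊤ ≤ T from this (Subgroup.mem_top a)
  rw [← numbering.closure_gens Suz.extra, Subgroup.closure_le]
  rintro _ ⟨g, hg, rfl⟩
  have hg7 : g < 7 := hg
  have hl : letters (sigImages.getD g []) = true := by
    have h := elems_ok
    simp only [elemsOK, Bool.and_eq_true, List.all_eq_true] at h
    have h' : ∀ x ∈ sigImages, letters x = true := h.1.1.1.1.1.1.1.2
    rcases Nat.lt_or_ge g sigImages.length with hi | hi
    · rw [List.getD_eq_getElem _ _ hi]
      exact h' _ (List.getElem_mem _)
    · rw [List.getD_eq_default _ _ hi]; rfl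
  refine ⟨wordVal xgen (sigImages.getD g []), Equiv.ext fun i => Fin.ext ?_⟩
  show (act _ i).1 = (sigma (act (xgen g) (sigma⁻¹ i))).1
  have e : ∀ z : Fin 1782, (act (xgen g) z).1 = swalk [g] z.1 := fun z => by
    have : wordVal xgen [g] = xgen g := by
      rw [wordVal, wordVal, one_mul, gen, if_neg (by unfold eps; omega)]
    rw [← this]
    exact act_word (by simpa using hg7) z
  rw [act_word (letters_lt hl), sigma_inv, sigma_apply, e, sigma_apply]
  have hc : sigConjOK g 1782 0 = true := by
    interval_cases g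
    exacts [sigConj0, sigConj1, sigConj2, sigConj3, sigConj4, sigConj5, sigConj6]
  exact (sigConj_get hc (Nat.zero_le _) (by have := i.2; omega)).symm

theorem sigma_pt0 : sigma pt0 = pt0 := by
  have h := sigmaFix_ok
  simp only [Bool.and_eq_true, Nat.beq_eq] at h
  exact Fin.ext ((sigma_apply pt0).trans h.2)

theorem inO_sigma (z : Fin 1782) : inO (sigma z).1 = inO z.1 := by
  have hf : ∀ z : Fin 1782, inO z.1 = true → inO (sigma z).1 = true := by
    intro z hz
    have h := sigmaO_ok
    simp only [List.all_eq_true, List.mem_range] at h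
    simp only [inO, Bool.and_eq_true, Nat.blt_eq, Nat.beq_eq] at hz
    have := h _ hz.1
    rw [hz.2] at this
    rwa [sigma_apply]
  rw [Bool.eq_iff_iff]
  refine ⟨fun h => ?_, hf z⟩
  have := hf _ h
  rwa [← Equiv.Perm.mul_apply, sigma_sq, Equiv.Perm.one_apply] at this

theorem sigma_mem_autSub : sigma ∈ autSub := by
  intro x y
  obtain ⟨b, hb⟩ := exists_conj (rep x)
  have h : ∀ z, act b (sigma z) = sigma (act (rep x) z) := fun z => by
    rw [hb, sigma_inv, Equiv.Perm.mul_apply, Equiv.Perm.mul_apply, ← Equiv.Perm.mul_apply sigma sigma z, sigma_sq,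
      Equiv.Perm.one_apply]
  rw [relB_eq (by rw [h, rep_self, sigma_pt0] : act b (sigma x) = pt0) (sigma y), h, inO_sigma,
    ← relB_eq (rep_self x) y]

theorem sign_sigma : Equiv.Perm.sign sigma = -1 := by
  classical
  have h := sigmaFix_ok
  simp only [Bool.and_eq_true, Nat.beq_eq, List.all_eq_true, Nat.blt_eq] at h
  obtain ⟨⟨⟨hlen, hnd⟩, hlt⟩, -⟩ := h
  have hnd' : sigFix.Nodup := by
    have aux : ∀ l : List ℕ, nodupB l = true → l.Nodup := by
      intro l
      induction l with
      | nil => exact fun _ => List.nodup_nil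
      | cons a l ih =>
        intro h
        simp only [nodupB, Bool.and_eq_true, List.all_eq_true, Bool.not_eq_true', ← Bool.not_eq_true,
          Nat.beq_eq] at h
        exact List.nodup_cons.2 ⟨fun ha => h.1 a ha rfl, ih h.2⟩
    exact aux _ hnd
  have hfix : ((Finset.univ : Finset (Fin 1782)).filter fun i => sigma i = i).card = 100 := by
    rw [← hlen, ← List.toFinset_card_of_nodup hnd', ← Finset.card_map Fin.valEmbedding]
    refine congrArg Finset.card ?_
    ext v
    simp only [Finset.mem_map, Finset.mem_filter, Finset.mem_univ, true_and, Fin.valEmbedding_apply,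
      List.mem_toFinset]
    constructor
    · rintro ⟨i, hi, rfl⟩
      exact (sigma_facts i).2.2.2.1 ((sigma_apply i).symm.trans (congrArg Fin.val hi))
    · intro hv
      exact ⟨⟨v, hlt v hv⟩, Fin.ext ((sigma_apply _).trans ((sigma_facts _).2.2.2.2 hv)), rfl⟩
  have hsupp : sigma.support.card = 1682 := by
    have h1 := Finset.card_filter_add_card_filter_not (s := (Finset.univ : Finset (Fin 1782)))
      (fun i => sigma i = i)
    have h2 : sigma.support = (Finset.univ : Finset (Fin 1782)).filter fun i => ¬ sigma i = i := by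
      ext i
      simp [Equiv.Perm.mem_support]
    rw [hfix, Finset.card_univ, Fintype.card_fin, ← h2] at h1
    omega
  haveI : Fact (Nat.Prime 2) := ⟨Nat.prime_two⟩
  have hne : sigma ≠ 1 := fun e => by simp [e] at hsupp
  obtain ⟨n, hn⟩ := Equiv.Perm.cycleType_prime_order (σ := sigma) (by
    rw [orderOf_eq_prime (by rw [pow_two, sigma_sq]) hne]; exact Nat.prime_two)
  have ho : orderOf sigma = 2 := orderOf_eq_prime (by rw [pow_two, sigma_sq]) hne
  have hsum := Equiv.Perm.sum_cycleType sigma
  rw [hn, ho, Multiset.sum_replicate, hsupp, smul_eq_mul] at hsum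
  rw [Equiv.Perm.sign_of_cycleType, hn, ho, Multiset.sum_replicate, Multiset.card_replicate, smul_eq_mul,
    show n + 1 = 841 by omega]
  norm_num [pow_succ, pow_add]

theorem sign_act (a : Cfsg.Spor.Suz) : Equiv.Perm.sign (act a) = 1 := by
  haveI := isSuz.1
  let s : Cfsg.Spor.Suz →* ℤˣ := Equiv.Perm.sign.comp act
  rcases IsSimpleGroup.eq_bot_or_eq_top_of_normal s.ker inferInstance with h | h
  · exfalso
    have hi : Function.Injective s := (MonoidHom.ker_eq_bot_iff s).1 h
    have := Nat.card_le_card_of_injective s hi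
    rw [card_Suz, Nat.card_eq_fintype_card, Fintype.card_units_int] at this
    omega
  · exact MonoidHom.mem_ker.1 (h ▸ Subgroup.mem_top a : a ∈ s.ker)

theorem sigma_not_act (a : Cfsg.Spor.Suz) : act a ≠ sigma := fun h => by
  have := sign_act a
  rw [h, sign_sigma] at this
  exact absurd this (by decide)

end Cfsg.Lib.CosetEnum.SuzOut
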