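import Cfsg.Agent.Lib.CosetEnum.Groups.SuzOutAct
import Cfsg.Prelude.Def_KGroupFacts

/-!
# The outer automorphism group of the Suzuki sporadic group has order two

An automorphism can be moved by an inner one so that it fixes an element `h` of order six normalising a
subgroup of order thirteen and sends the generator `u` of that subgroup to `u` or `u^2`; the image of a third
generator then lies among the 72 elements commuting with `h`.
-/

set_option autoImplicit false
set_option maxRecDepth 100000
set_option maxHeartbeats 1000000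
set_option linter.style.haveILetI false

namespace Cfsg.Lib.CosetEnum.SuzOut

open Cfsg.Spor Cfsg.Lib.CosetEnum.SuzPres

/-- The value of a word. -/
def val (w : List ℕ) : Cfsg.Spor.Suz := wordVal xgen w

theorem val_nil : val [] = 1 := rfl

theorem val_append (u v : List ℕ) : val (u ++ v) = val v * val u := wordVal_append ..

theorem val_reverse : ∀ w : List ℕ, val w.reverse = (val w)⁻¹
  | [] => by simp [val, wordVal]
  | g :: w => by
    have hg : gen xgen g * gen xgen g = 1 := by
      unfold gen
      split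
      · exact one_mul 1
      · exact numbering.gens_mul_self Suz.extra g
    rw [List.reverse_cons, val_append, val_reverse w]
    show val [g] * _ = (wordVal xgen w * gen xgen g)⁻¹
    rw [mul_inv_rev, inv_eq_of_mul_eq_one_left hg]
    simp [val, wordVal]

theorem val_replicate (w : List ℕ) : ∀ n : ℕ, val (List.replicate n w).flatten = val w ^ n
  | 0 => by simp [val, wordVal]
  | n + 1 => by rw [List.replicate_succ, List.flatten_cons, val_append, val_replicate w n, pow_succ]

theorem map_flatMap (α : Cfsg.Spor.Suz →* Cfsg.Spor.Suz) (V V' : ℕ → List ℕ) :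
    ∀ w : List ℕ, (∀ l ∈ w, α (val (V l)) = val (V' l)) → α (val (w.flatMap V)) = val (w.flatMap V')
  | [], _ => by simp [val_nil]
  | l :: w, h => by
    rw [List.flatMap_cons, List.flatMap_cons, val_append, val_append, map_mul,
      map_flatMap α V V' w (fun a ha => h a (List.mem_cons_of_mem _ ha)), h l (List.mem_cons_self ..)]

theorem val_congr {a b : List ℕ} (ha : letters a = true) (hb : letters b = true) (h : sameW a b = true) :
    val a = val b := eq_of_sameW (letters_lt ha) (letters_lt hb) h

theorem walk_congr {a b : List ℕ} (ha : letters a = true) (hb : letters b = true) (h : val a = val b)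
    {p : ℕ} (hp : p < 1782) : swalk a p = swalk b p := by
  rw [← act_word (letters_lt ha) ⟨p, hp⟩, ← act_word (letters_lt hb) ⟨p, hp⟩]
  show (act (val a) _).1 = (act (val b) _).1
  rw [h]

theorem val_ne {a b : List ℕ} (ha : letters a = true) (hb : letters b = true) (h : sameW a b = false) :
    val a ≠ val b := fun e => by
  have : sameW a b = true := by
    simp only [sameW, List.all_eq_true, Nat.beq_eq]
    intro p hp
    refine walk_congr ha hb e ?_
    simp only [basePts, List.mem_cons, List.not_mem_nil, or_false] at hp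
    omega
  simp [this] at h

theorem letters_append {a b : List ℕ} (ha : letters a = true) (hb : letters b = true) :
    letters (a ++ b) = true := by
  simp only [letters, List.all_append, Bool.and_eq_true]
  exact ⟨ha, hb⟩

theorem letters_reverse {a : List ℕ} (ha : letters a = true) : letters a.reverse = true := by
  simpa [letters] using ha

theorem letters_flatMap {V : ℕ → List ℕ} (hV : ∀ l, letters (V l) = true) :
    ∀ w : List ℕ, letters (w.flatMap V) = true
  | [] => rfl
  | l :: w => by rw [List.flatMap_cons]; exact letters_append (hV l) (letters_flatMap hV w)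

theorem letters_replicate {w : List ℕ} (hw : letters w = true) :
    ∀ n : ℕ, letters (List.replicate n w).flatten = true
  | 0 => rfl
  | n + 1 => by rw [List.replicate_succ, List.flatten_cons]; exact letters_append hw (letters_replicate hw n)

theorem letters_getD {ws : List (List ℕ)} (h : ws.all letters = true) (i : ℕ) :
    letters (ws.getD i []) = true := by
  rcases Nat.lt_or_ge i ws.length with hi | hi
  · rw [List.getD_eq_getElem _ _ hi]
    simp only [List.all_eq_true] at h
    exact h _ (List.getElem_mem _)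
  · rw [List.getD_eq_default _ _ hi]
    rfl

theorem letters_sub {U H Y : List ℕ} (hU : letters U = true) (hH : letters H = true)
    (hY : letters Y = true) (w : List ℕ) : letters (subW U H Y w) = true := by
  refine letters_flatMap (fun l => ?_) w
  match l with
  | 0 => exact hU
  | 1 => exact hH
  | 2 => exact hY
  | 3 => exact letters_reverse hU
  | _ + 4 => exact letters_reverse hH

/-- The element of order thirteen. -/
def elU : Cfsg.Spor.Suz := val wordU

/-- The element of order six. -/
def elH : Cfsg.Spor.Suz := val wordH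

/-- The third generator. -/
def elX : Cfsg.Spor.Suz := val wordX

/-- The facts on the three elements. -/
structure Elems : Prop where
  lU : letters wordU = true
  lH : letters wordH = true
  lX : letters wordX = true
  lC : candWords.all letters = true
  nC : candWords.length = 72
  gens : ∀ g < 7, val (subW wordU wordH wordX (genWords.getD g [])) = xgen g
  pow : elU ^ 13 = 1
  ne : elU ≠ 1
  conj : elH * elU * elH⁻¹ = elU ^ 4
  xcomm : elX * elH = elH * elX
  tests : ∀ j < testWords.length, val (testPow wordU wordX j) = 1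

theorem elems : Elems := by
  have h := elems_ok
  simp only [elemsOK, Bool.and_eq_true, Bool.not_eq_true', List.all_eq_true, List.mem_range,
    Nat.beq_eq] at h
  obtain ⟨⟨⟨⟨⟨⟨⟨⟨⟨⟨⟨h1, h2⟩, h3⟩, h4⟩, h5⟩, h6⟩, h7⟩, h8⟩, h9⟩, h10⟩, h11⟩, h12⟩ := h
  refine ⟨h1, h2, h3, List.all_eq_true.2 h4, h6, ?_, ?_, ?_, ?_, ?_, ?_⟩
  · intro g hg
    rw [val_congr (letters_sub h1 h2 h3 _) (by simp [letters, Nat.blt_eq]; omega) (h7 g hg)]
    show wordVal xgen [g] = xgen g
    rw [wordVal, wordVal, one_mul, gen, if_neg (by unfold eps; omega)]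
  · rw [elU, ← val_replicate, val_congr (letters_replicate h1 13) rfl h8, val_nil]
  · exact fun e => val_ne h1 rfl h9 (by rw [val_nil]; exact e)
  · have := val_congr (letters_append (letters_append (letters_reverse h2) h1) h2)
      (letters_append (letters_append (letters_append h1 h1) h1) h1) h10
    rw [val_append, val_append, val_append, val_append, val_append, val_reverse, ← mul_assoc] at this
    rw [elU, elH, this]
    simp only [pow_succ, pow_zero, one_mul, mul_assoc]
  · have := val_congr (letters_append h3 h2) (letters_append h2 h3) h11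
    rw [val_append, val_append] at this
    exact this.symm
  · intro j hj
    have e := h12 j hj
    unfold testPow at e ⊢
    rw [val_congr (letters_replicate (letters_sub h1 h2 h3 _) _) rfl e, val_nil]

theorem orderOf_elU : orderOf elU = 13 := by
  haveI : Fact (Nat.Prime 13) := ⟨by norm_num⟩
  exact orderOf_eq_prime elems.pow elems.ne

theorem tab_get {T : Tab} {w : List ℕ} {v : ℕ} : ∀ {n s : ℕ}, tabOK T w n s = true → s ≤ v → v < s + n →
    T.get v = swalk w v
  | 0, _, _, h1, h2 => by omega
  | n + 1, s, h, h1, h2 => by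
    rw [tabOK, force_eq, Bool.and_eq_true] at h
    rcases Nat.eq_or_lt_of_le h1 with rfl | h1
    · exact Nat.eq_of_beq_eq_true h.1
    · exact tab_get h.2 (by omega) (by omega)

theorem mask_calc {w : List ℕ} (y : ℕ) : ∀ (n j acc : ℕ), (rowCalc w n j acc).testBit y = true ↔
    acc.testBit y = true ∨ ∃ k, j ≤ k ∧ k < j + n ∧ swalk w (SuzG24.orb0.getP k / B / B) = y
  | 0, j, acc => by simp [rowCalc]; omega
  | n + 1, j, acc => by
    rw [rowCalc, force_eq, force_eq, mask_calc y n (j + 1)]
    have e : ∀ t : ℕ, Nat.shiftLeft 1 t = 2 ^ t := Nat.one_shiftLeft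
    show (acc ||| Nat.shiftLeft 1 (swalk w (SuzG24.orb0.getP j / B / B))).testBit y = true ∨ _ ↔ _
    rw [e, Nat.testBit_lor, Bool.or_eq_true, Nat.testBit_two_pow]
    simp only [decide_eq_true_eq]
    constructor
    · rintro ((h | h) | ⟨k, h1, h2, h3⟩)
      · exact Or.inl h
      · exact Or.inr ⟨j, le_rfl, by omega, h⟩
      · exact Or.inr ⟨k, by omega, by omega, h3⟩
    · rintro (h | ⟨k, h1, h2, h3⟩)
      · exact Or.inl (Or.inl h)
      · rcases Nat.eq_or_lt_of_le h1 with rfl | h1
        · exact Or.inl (Or.inr h3)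
        · exact Or.inr ⟨k, by omega, by omega, h3⟩

theorem row_testBit {x : ℕ} (hx : x ∈ rowPts) (y : Fin 1782) :
    x < 1782 ∧ (row x).testBit y.1 = relB x y.1 := by
  have h : x < 1782 ∧ rowCalc (repW x).reverse 416 0 0 = row x := by
    have hsplit : rowPts = rowPts.take 24 ++ ((rowPts.drop 24).take 24 ++ rowPts.drop 48) := by decide +kernel
    rw [hsplit, List.mem_append, List.mem_append] at hx
    have g : ∀ ps, rowsOK ps = true → x ∈ ps → x < 1782 ∧ rowCalc (repW x).reverse 416 0 0 = row x := by
      intro ps h hm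
      simp only [rowsOK, List.all_eq_true, Bool.and_eq_true, Nat.blt_eq, Nat.beq_eq] at h
      exact h x hm
    rcases hx with hx | hx | hx
    exacts [g _ rows0_ok hx, g _ rows1_ok hx, g _ rows2_ok hx]
  obtain ⟨hlt, hr⟩ := h
  refine ⟨hlt, ?_⟩
  have hl := (reps_get reps_ok (Nat.zero_le _) (by omega : x < 0 + 1782)).1
  have e1 : ∀ z : Fin 1782, (act (rep ⟨x, hlt⟩) z).1 = swalk (repW x) z.1 := fun z => act_rep ⟨x, hlt⟩ z
  have e2 : ∀ z : Fin 1782, ((act (rep ⟨x, hlt⟩)).symm z).1 = swalk (repW x).reverse z.1 := fun z => by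
    rw [← act_word (letters_lt (letters_reverse hl)) z]
    show _ = (act (val (repW x).reverse) z).1
    rw [val_reverse, map_inv]
    rfl
  rw [Bool.eq_iff_iff, ← hr, mask_calc]
  constructor
  · rintro (h | ⟨k, -, hk, hky⟩)
    · simp at h
    · have horb := orbitOK_get SuzG24.orb0_ok k (Nat.zero_le _) (by omega)
      let z : Fin 1782 := ⟨SuzG24.orb0.getP k / B / B, horb.1⟩
      have : (act (rep ⟨x, hlt⟩)).symm z = y := Fin.ext (by rw [e2]; exact hky)
      rw [relB, ← e1, ← this, Equiv.apply_symm_apply]
      simp only [inO, Bool.and_eq_true, Nat.blt_eq, Nat.beq_eq, z]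
      rw [horb.2.1]
      exact ⟨by omega, rfl⟩
  · intro h
    right
    rw [relB, ← e1] at h
    simp only [inO, Bool.and_eq_true, Nat.blt_eq, Nat.beq_eq] at h
    refine ⟨SuzG24.pos0.getP ((act (rep ⟨x, hlt⟩) y).1), Nat.zero_le _, by omega, ?_⟩
    rw [h.2, ← e2, Equiv.symm_apply_apply]

theorem land_one_iff (r x : ℕ) : Nat.beq (Nat.land (Nat.shiftRight r x) 1) 1 = r.testBit x := by
  rw [Bool.eq_iff_iff, Nat.beq_eq]
  show (r >>> x) &&& 1 = 1 ↔ _
  rw [Nat.and_one_is_mod, Nat.testBit_eq_decide_div_mod_eq, Nat.shiftRight_eq_div_pow, decide_eq_true_eq]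

/-- The stabiliser of a list of vertices among the graph automorphisms commuting with `P`. -/
def chainSub (P : Equiv.Perm (Fin 1782)) (S : List ℕ) : Subgroup (Equiv.Perm (Fin 1782)) where
  carrier := {c | c ∈ autSub ∧ c * P = P * c ∧ ∀ i : Fin 1782, i.1 ∈ S → c i = i}
  one_mem' := ⟨one_mem _, by simp, fun i _ => rfl⟩
  mul_mem' {a b} ha hb := ⟨mul_mem ha.1 hb.1, (Commute.mul_left ha.2.1 hb.2.1).eq, fun i hi => by
    rw [Equiv.Perm.mul_apply, hb.2.2 i hi, ha.2.2 i hi]⟩
  inv_mem' {a} ha := ⟨inv_mem ha.1, (Commute.inv_left ha.2.1).eq, fun i hi => by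
    rw [Equiv.Perm.inv_def, Equiv.symm_apply_eq, ha.2.2 i hi]⟩

theorem dom_spec {P c : Equiv.Perm (Fin 1782)} {x : Fin 1782} : ∀ {S : List ℕ}, c ∈ chainSub P S →
    (∀ a ∈ S, a ∈ rowPts) → x.1 ∉ S → (domOf S x.1).testBit (c x).1 = true
  | [], _, _, _ => by
    rw [domOf, fullMask, Nat.testBit_two_pow_sub_one]
    simp
  | a :: S, hc, hS, hx => by
    have ih := dom_spec (x := x) (S := S) (⟨hc.1, hc.2.1, fun i hi => hc.2.2 i (List.mem_cons_of_mem _ hi)⟩ : c ∈ chainSub P S)
      (fun b hb => hS b (List.mem_cons_of_mem _ hb)) (fun h => hx (List.mem_cons_of_mem _ h))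
    obtain ⟨ha, hbx⟩ := row_testBit (hS a (List.mem_cons_self ..)) x
    obtain ⟨-, hbc⟩ := row_testBit (hS a (List.mem_cons_self ..)) (c x)
    have hfix : c ⟨a, ha⟩ = ⟨a, ha⟩ := hc.2.2 _ (List.mem_cons_self ..)
    have hrel : relB a (c x).1 = relB a x.1 := by
      have := hc.1 ⟨a, ha⟩ x
      rwa [hfix] at this
    rw [domOf, force_eq, force_eq, land_one_iff, hbx]
    cases h : relB a x.1 with
    | true =>
      rw [cond_true]
      show (domOf S x.1 &&& row a).testBit _ = true
      rw [Nat.testBit_land, ih, hbc, hrel, h]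
      rfl
    | false =>
      rw [cond_false]
      have hne : (c x).1 ≠ a := fun e => hx (by
        have : c x = c ⟨a, ha⟩ := by rw [hfix]; exact Fin.ext e
        rw [show x.1 = a from congrArg Fin.val (c.injective this)]
        exact List.mem_cons_self ..)
      show (domOf S x.1 ^^^ (domOf S x.1 &&& (row a ||| Nat.shiftLeft 1 a))).testBit _ = true
      rw [show Nat.shiftLeft 1 a = 2 ^ a from Nat.one_shiftLeft a, Nat.testBit_xor, Nat.testBit_land,
        Nat.testBit_lor, ih, hbc, hrel, h, Nat.testBit_two_pow]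
      simp [Ne.symm hne]

theorem bitsOf_mem {d y : ℕ} (hy : y < 1782) (h : d.testBit y = true) : y ∈ bitsOf d := by
  rw [bitsOf, List.mem_flatMap]
  refine ⟨y / 64, List.mem_range.2 (by omega), ?_⟩
  rw [force_eq]
  have hb : (Nat.land (Nat.shiftRight d (64 * (y / 64))) 18446744073709551615).testBit (y % 64) = true := by
    show ((d >>> (64 * (y / 64))) &&& (2 ^ 64 - 1)).testBit (y % 64) = true
    rw [Nat.testBit_land, Nat.testBit_shiftRight, Nat.div_add_mod, h, Nat.testBit_two_pow_sub_one]
    simp [Nat.mod_lt]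
  set c := Nat.land (Nat.shiftRight d (64 * (y / 64))) 18446744073709551615 with hc
  have hne : Nat.beq c 0 = false := by
    rw [← Bool.not_eq_true, Nat.beq_eq]
    intro e
    rw [e] at hb
    simp at hb
  rw [hne, cond_false, List.mem_map]
  refine ⟨y % 64, List.mem_filter.2 ⟨List.mem_range.2 (Nat.mod_lt _ (by norm_num)), ?_⟩, Nat.div_add_mod y 64⟩
  rw [land_one_iff]
  exact hb

theorem sig_spec {Z : Tab} {P c : Equiv.Perm (Fin 1782)} (hZ : ∀ i : Fin 1782, Z.get i.1 = (P i).1)
    (hc : c ∈ autSub) (hcP : c * P = P * c) (x : Fin 1782) :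
    ∀ (n : ℕ) (a : Fin 1782), sigEq Z x.1 (c x).1 n a.1 (c a).1 = true
  | 0, _ => rfl
  | n + 1, a => by
    have e : c (P a) = P (c a) := by rw [← Equiv.Perm.mul_apply, hcP, Equiv.Perm.mul_apply]
    rw [sigEq, force_eq, force_eq, hZ, hZ, ← e, sig_spec hZ hc hcP x n (P a), hc x (P a)]
    have hb : Nat.beq (P a).1 x.1 = Nat.beq (c (P a)).1 (c x).1 := by
      rw [Bool.eq_iff_iff, Nat.beq_eq, Nat.beq_eq]
      exact ⟨fun h => by rw [show P a = x from Fin.ext h], fun h => congrArg Fin.val (c.injective (Fin.ext h))⟩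
    rw [hb]
    simp

theorem orb_fixed {Z : Tab} {P c : Equiv.Perm (Fin 1782)} (hZ : ∀ i : Fin 1782, Z.get i.1 = (P i).1)
    (hcP : c * P = P * c) : ∀ (n : ℕ) (a : Fin 1782), c a = a → ∀ i : Fin 1782, i.1 ∈ orbZ Z n a.1 → c i = i
  | 0, _, _, i, hi => by simp [orbZ] at hi
  | n + 1, a, ha, i, hi => by
    rw [orbZ, List.mem_cons, hZ] at hi
    rcases hi with hi | hi
    · rw [show i = a from Fin.ext hi, ha]
    · exact orb_fixed hZ hcP n (P a) (by rw [← Equiv.Perm.mul_apply, hcP, Equiv.Perm.mul_apply, ha]) i hi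

theorem card_chainSub_le {Z : Tab} {P : Equiv.Perm (Fin 1782)} (hZ : ∀ i : Fin 1782, Z.get i.1 = (P i).1) :
    ∀ {steps : List (ℕ × ℕ × ℕ)} {S : List ℕ}, chainOK Z steps S = true → (∀ a ∈ S, a ∈ rowPts) →
      Nat.card (chainSub P S) ≤ chainSize steps
  | [], S, h, hS => by
    simp only [chainOK, List.all_eq_true, List.mem_range, Bool.or_eq_true, List.any_eq_true,
      Nat.beq_eq] at h
    have : chainSub P S = ⊥ := by
      rw [Subgroup.eq_bot_iff_forall]
      intro c hc
      refine Equiv.ext fun v => ?_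
      by_cases hv : v.1 ∈ S
      · exact hc.2.2 v hv
      · rcases h v.1 v.2 with ⟨a, ha, e⟩ | e
        · exact absurd (e ▸ ha) hv
        · have hb := dom_spec (x := v) hc hS hv
          rw [e, show Nat.shiftLeft 1 v.1 = 2 ^ v.1 from Nat.one_shiftLeft _, Nat.testBit_two_pow,
            decide_eq_true_eq] at hb
          exact Fin.ext hb.symm
    rw [this, Subgroup.card_bot]
    rfl
  | (x, L, n) :: rest, S, h, hS => by
    classical
    simp only [chainOK, Bool.and_eq_true, Bool.not_eq_true', ← Bool.not_eq_true, List.any_eq_true,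
      Nat.beq_eq, Nat.blt_eq, Nat.ble_eq, List.all_eq_true] at h
    obtain ⟨⟨⟨⟨hxS, hx⟩, hn⟩, horb⟩, hrest⟩ := h
    have hxS' : x ∉ S := fun hm => hxS ⟨x, hm, rfl⟩
    set p : Fin 1782 := ⟨x, hx⟩
    set cands := (bitsOf (domOf S x)).filter fun q => sigEq Z x q L x q with hcands
    have hmem : ∀ c : chainSub P S, (c.1 p).1 ∈ cands.toFinset := fun c => by
      rw [List.mem_toFinset, hcands, List.mem_filter]
      exact ⟨bitsOf_mem (c.1 p).2 (dom_spec (x := p) c.2 hS hxS'), sig_spec hZ c.2.1 c.2.2.1 p L p⟩
    let q : chainSub P S → {z // z ∈ cands.toFinset} := fun c => ⟨(c.1 p).1, hmem c⟩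
    let r : {z // z ∈ cands.toFinset} → chainSub P S := fun z =>
      if h : ∃ c, q c = z then h.choose else 1
    have hqr : ∀ c, (r (q c)).1 p = c.1 p := fun c => by
      have h : ∃ b, q b = q c := ⟨c, rfl⟩
      simp only [r, dif_pos h]
      exact Fin.ext (congrArg Subtype.val h.choose_spec)
    have hS' : ∀ a ∈ orbZ Z L x ++ S, a ∈ rowPts := fun a ha => by
      rcases List.mem_append.1 ha with ha | ha
      · obtain ⟨b, hb, e⟩ := horb a ha
        exact e ▸ hb
      · exact hS a ha
    have hin : ∀ c : chainSub P S, ((r (q c))⁻¹ * c : chainSub P S).1 ∈ chainSub P (orbZ Z L x ++ S) := by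
      intro c
      set d := (r (q c))⁻¹ * c with hd
      have hfix : d.1 p = p := by
        rw [hd, Subgroup.coe_mul, Subgroup.coe_inv, Equiv.Perm.mul_apply, Equiv.Perm.inv_def,
          Equiv.symm_apply_eq, hqr]
      refine ⟨d.2.1, d.2.2.1, fun i hi => ?_⟩
      rcases List.mem_append.1 hi with hi | hi
      · exact orb_fixed hZ d.2.2.1 L p hfix i hi
      · exact d.2.2.2 i hi
    have hinj : Function.Injective (fun c : chainSub P S =>
        (q c, (⟨((r (q c))⁻¹ * c : chainSub P S).1, hin c⟩ : chainSub P (orbZ Z L x ++ S)))) := by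
      intro a b h
      have h1 : q a = q b := congrArg Prod.fst h
      have h2 := congrArg (fun z : _ × chainSub P (orbZ Z L x ++ S) => (z.2 : Equiv.Perm (Fin 1782))) h
      simp only [h1, Subgroup.coe_mul] at h2
      exact Subtype.ext (mul_left_cancel h2)
    have hq : Nat.card {z // z ∈ cands.toFinset} ≤ n := by
      rw [Nat.card_eq_fintype_card, Fintype.card_coe]
      exact (List.toFinset_card_le _).trans hn
    refine (Nat.card_le_card_of_injective _ hinj).trans ?_
    rw [Nat.card_prod, chainSize]
    exact Nat.mul_le_mul hq (card_chainSub_le hZ hrest hS')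

theorem act_tab {T : Tab} {w : List ℕ} (hw : letters w = true) (hT : tabOK T w 1782 0 = true)
    (i : Fin 1782) : T.get i.1 = (act (val w) i).1 := by
  rw [tab_get hT (Nat.zero_le _) (by have := i.2; omega)]
  exact (act_word (letters_lt hw) i).symm

/-- The element of order thirteen is self-centralising. -/
theorem eq_pow_of_commute {c : Cfsg.Spor.Suz} (hc : Commute c elU) : ∃ i : ℕ, c = elU ^ i := by
  classical
  set C := Subgroup.centralizer ({elU} : Set Cfsg.Spor.Suz) with hC
  have hle : Nat.card C ≤ 13 := by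
    refine le_trans (Nat.card_le_card_of_injective (fun a : C => (⟨act a.1, act_mem_autSub a.1, ?_, by simp⟩ :
      chainSub (act elU) [])) ?_) ((card_chainSub_le (act_tab elems.lU tabU_ok) chainU_ok (by simp)).trans (by decide))
    · rw [← map_mul, Subgroup.mem_centralizer_singleton_iff.1 a.2, map_mul]
    · intro a b h
      exact Subtype.ext (act_injective (congrArg Subtype.val h))
  have hsub : Subgroup.zpowers elU ≤ C := by
    rw [Subgroup.zpowers_le]
    exact Subgroup.mem_centralizer_singleton_iff.2 rfl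
  have heq : Subgroup.zpowers elU = C := Subgroup.eq_of_le_of_card_ge hsub (by
    rw [Nat.card_zpowers, orderOf_elU]
    exact hle)
  have hmem : c ∈ Subgroup.zpowers elU := by
    rw [heq]
    exact Subgroup.mem_centralizer_singleton_iff.2 hc.eq
  obtain ⟨i, hi⟩ := mem_powers_iff_mem_zpowers.2 hmem
  exact ⟨i, hi.symm⟩

theorem sigma_commute : sigma * act elH = act elH * sigma := by
  refine Equiv.ext fun i => Fin.ext ?_
  rw [Equiv.Perm.mul_apply, Equiv.Perm.mul_apply, sigma_apply, elH,
    ← act_tab elems.lH tabH_ok i, ← act_tab elems.lH tabH_ok (sigma i), sigma_apply]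
  exact (sigma_facts i).2.2.1

/-- The centraliser of the element of order six has at most 72 elements. -/
theorem card_centralizer_elH_le :
    Nat.card (Subgroup.centralizer ({elH} : Set Cfsg.Spor.Suz)) ≤ 72 := by
  classical
  set C := Subgroup.centralizer ({elH} : Set Cfsg.Spor.Suz) with hC
  have hK : Nat.card (chainSub (act elH) []) ≤ 144 :=
    (card_chainSub_le (act_tab elems.lH tabH_ok) chainH_ok (by simp)).trans (by decide)
  have ha : ∀ a : C, act a.1 ∈ chainSub (act elH) [] := fun a => ⟨act_mem_autSub _,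
    by rw [← map_mul, Subgroup.mem_centralizer_singleton_iff.1 a.2, map_mul], by simp⟩
  have hs : sigma ∈ chainSub (act elH) [] := ⟨sigma_mem_autSub, sigma_commute, by simp⟩
  have h := Nat.card_le_card_of_injective (fun x : Bool × C =>
    (⟨if x.1 then act x.2.1 * sigma else act x.2.1, by
      split
      · exact mul_mem (ha _) hs
      · exact ha _⟩ : chainSub (act elH) [])) (by
    rintro ⟨b, a⟩ ⟨b', a'⟩ h
    have h' := congrArg Subtype.val h
    cases b <;> cases b' <;> simp only [if_true, if_false, Bool.false_eq_true] at h'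
    · rw [Subtype.ext (act_injective h')]
    · exact absurd (show act (a'.1⁻¹ * a.1) = sigma by rw [map_mul, map_inv, h', inv_mul_cancel_left]) (sigma_not_act _)
    · exact absurd (show act (a.1⁻¹ * a'.1) = sigma by rw [map_mul, map_inv, ← h', inv_mul_cancel_left]) (sigma_not_act _)
    · rw [Subtype.ext (act_injective (mul_right_cancel h'))])
  rw [Nat.card_prod, Nat.card_eq_fintype_card, Fintype.card_bool] at h
  omega

/-- Every element commuting with `h` is listed. -/
theorem exists_cand {y : Cfsg.Spor.Suz} (hy : y * elH = elH * y) :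
    ∃ i < 72, y = val (candWords.getD i []) := by
  classical
  have hc := cand_ok
  simp only [candOK, Bool.and_eq_true, List.all_eq_true] at hc
  have hl : ∀ i : Fin 72, candWords.getD i.1 [] ∈ candWords := fun i => by
    rw [List.getD_eq_getElem _ _ (by rw [elems.nC]; exact i.2)]
    exact List.getElem_mem _
  let f : Fin 72 → Subgroup.centralizer ({elH} : Set Cfsg.Spor.Suz) := fun i =>
    ⟨val (candWords.getD i.1 []), Subgroup.mem_centralizer_singleton_iff.2 (by
      have l := letters_getD elems.lC i.1
      have := val_congr (letters_append l elems.lH) (letters_append elems.lH l) (hc.1 _ (hl i))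
      rw [val_append, val_append] at this
      exact this.symm)⟩
  have hnd : (candWords.map keyOf).Nodup := by
    have aux : ∀ l : List ℕ, nodupB l = true → l.Nodup := by
      intro l
      induction l with
      | nil => exact fun _ => List.nodup_nil
      | cons a l ih =>
        intro h
        simp only [nodupB, Bool.and_eq_true, List.all_eq_true, Bool.not_eq_true', ← Bool.not_eq_true,
          Nat.beq_eq] at h
        exact List.nodup_cons.2 ⟨fun ha => h.1 a ha rfl, ih h.2⟩
    exact aux _ hc.2
  have hinj : Function.Injective f := by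
    intro i j h
    have e2 : val (candWords.getD i.1 []) = val (candWords.getD j.1 []) := congrArg Subtype.val h
    have e' : keyOf (candWords.getD i.1 []) = keyOf (candWords.getD j.1 []) := by
      have : ∀ p, p < 1782 → swalk (candWords.getD i.1 []) p = swalk (candWords.getD j.1 []) p := fun p hp =>
        walk_congr (letters_getD elems.lC i.1) (letters_getD elems.lC j.1) e2 hp
      simp only [keyOf, basePts, List.foldl_cons, List.foldl_nil]
      rw [this 0 (by norm_num), this 1 (by norm_num), this 2 (by norm_num), this 4 (by norm_num),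
        this 8 (by norm_num), this 14 (by norm_num)]
    have hlen := elems.nC
    refine Fin.ext ((hnd.getElem_inj_iff (hi := by rw [List.length_map, hlen]; exact i.2)
      (hj := by rw [List.length_map, hlen]; exact j.2)).1 ?_)
    rw [List.getElem_map, List.getElem_map]
    rw [List.getD_eq_getElem _ _ (by omega), List.getD_eq_getElem _ _ (by omega)] at e'
    exact e'
  have hb : Function.Bijective f := (Nat.bijective_iff_injective_and_card f).2 ⟨hinj, by
    have := Nat.card_le_card_of_injective f hinj
    rw [Nat.card_eq_fintype_card, Fintype.card_fin] at this ⊢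
    exact le_antisymm this card_centralizer_elH_le⟩
  obtain ⟨i, hi⟩ := hb.2 ⟨y, Subgroup.mem_centralizer_singleton_iff.2 hy⟩
  exact ⟨i.1, i.2, (congrArg Subtype.val hi).symm⟩

/-- An automorphism fixing `h` and sending `u` to `u` or `u^2`. -/
def Normalised (α : MulAut Cfsg.Spor.Suz) : Prop :=
  (α elU = elU ∨ α elU = elU ^ 2) ∧ α elH = elH

theorem pow_ne_two : elU ^ 2 ≠ elU := fun e => by
  have := pow_inj_mod.1 (show elU ^ 2 = elU ^ 1 by rw [e, pow_one])
  rw [orderOf_elU] at this
  simp at this

theorem exists_normalised (α : MulAut Cfsg.Spor.Suz) :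
    ∃ g : Cfsg.Spor.Suz, Normalised (MulAut.conj g * α) := by
  classical
  haveI : Fact (Nat.Prime 13) := ⟨by norm_num⟩
  have hfac : (Nat.card Cfsg.Spor.Suz).factorization 13 = 1 := by
    rw [card_Suz, show (448345497600 : ℕ) = 13 * 34488115200 by norm_num,
      Nat.factorization_mul (by norm_num) (by norm_num), Finsupp.add_apply,
      Nat.Prime.factorization_self (by norm_num), Nat.factorization_eq_zero_of_not_dvd (by norm_num)]
  have hcard : ∀ x : Cfsg.Spor.Suz, orderOf x = 13 →
      Nat.card (Subgroup.zpowers x) = 13 ^ (Nat.card Cfsg.Spor.Suz).factorization 13 := fun x hx => by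
    rw [Nat.card_zpowers, hx, hfac, pow_one]
  have hαo : orderOf (α elU) = 13 := by rw [MulEquiv.orderOf_eq]; exact orderOf_elU
  let P : Sylow 13 Cfsg.Spor.Suz := Sylow.ofCard (Subgroup.zpowers (α elU)) (hcard _ hαo)
  let Q : Sylow 13 Cfsg.Spor.Suz := Sylow.ofCard (Subgroup.zpowers elU) (hcard _ orderOf_elU)
  obtain ⟨g₀, hg₀⟩ := MulAction.exists_smul_eq Cfsg.Spor.Suz P Q
  have hmem : g₀ * α elU * g₀⁻¹ ∈ Subgroup.zpowers elU := by
    have h : g₀ * α elU * g₀⁻¹ ∈ ((g₀ • P : Sylow 13 Cfsg.Spor.Suz) : Subgroup Cfsg.Spor.Suz) := by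
      rw [Sylow.coe_subgroup_smul]
      exact ⟨α elU, Subgroup.mem_zpowers (α elU), rfl⟩
    rw [hg₀] at h
    exact h
  obtain ⟨m, hm⟩ := mem_powers_iff_mem_zpowers.2 hmem
  simp only at hm
  have hm0 : m % 13 ≠ 0 := fun e => by
    have h1 : elU ^ m = 1 := by rw [← pow_mod_orderOf, orderOf_elU, e, pow_zero]
    rw [hm, conj_eq_one_iff] at h1
    exact elems.ne (α.injective (h1.trans (map_one α).symm))
  have hsq : ∀ i m : ℕ, elH ^ i * elU ^ m * (elH ^ i)⁻¹ = elU ^ (m * 4 ^ i) := by
    intro i
    induction i with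
    | zero => intro m; simp
    | succ i ih =>
      intro m
      calc elH ^ (i + 1) * elU ^ m * (elH ^ (i + 1))⁻¹
          = elH ^ i * (elH * elU ^ m * elH⁻¹) * (elH ^ i)⁻¹ := by rw [pow_succ]; group
        _ = elH ^ i * elU ^ (4 * m) * (elH ^ i)⁻¹ := by rw [← conj_pow, elems.conj, ← pow_mul]
        _ = _ := by rw [ih]; congr 1; ring
  have key : ∀ r : ℕ, r < 13 → r ≠ 0 → ∃ i, i < 6 ∧ (r * 4 ^ i % 13 = 1 ∨ r * 4 ^ i % 13 = 2) := by decide
  obtain ⟨i, -, hi⟩ := key (m % 13) (Nat.mod_lt _ (by norm_num)) hm0
  set g₁ := elH ^ i * g₀ with hg₁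
  have hu : g₁ * α elU * g₁⁻¹ = elU ∨ g₁ * α elU * g₁⁻¹ = elU ^ 2 := by
    have e : g₁ * α elU * g₁⁻¹ = elU ^ ((m % 13) * 4 ^ i % 13) := by
      calc g₁ * α elU * g₁⁻¹ = elH ^ i * (g₀ * α elU * g₀⁻¹) * (elH ^ i)⁻¹ := by rw [hg₁]; group
        _ = elH ^ i * elU ^ m * (elH ^ i)⁻¹ := by rw [hm]
        _ = _ := by
          rw [hsq, ← pow_mod_orderOf, orderOf_elU, Nat.mod_mul_mod]
    rcases hi with hi | hi <;> rw [hi] at e
    · left; rw [e, pow_one]
    · right; exact e
  set u' := g₁ * α elU * g₁⁻¹ with hu'
  set h' := g₁ * α elH * g₁⁻¹ with hh'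
  have hact : h' * u' * h'⁻¹ = u' ^ 4 := by
    have : α (elH * elU * elH⁻¹) = α (elU ^ 4) := by rw [elems.conj]
    rw [map_mul, map_mul, map_inv, map_pow] at this
    calc h' * u' * h'⁻¹ = g₁ * (α elH * α elU * (α elH)⁻¹) * g₁⁻¹ := by rw [hh', hu']; group
      _ = g₁ * (α elU) ^ 4 * g₁⁻¹ := by rw [this]
      _ = u' ^ 4 := by rw [hu', conj_pow]
  have hact' : elH * u' * elH⁻¹ = u' ^ 4 := by
    rcases hu with e | e <;> rw [e]
    · exact elems.conj
    · rw [← conj_pow, elems.conj, ← pow_mul, ← pow_mul, mul_comm]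
  have hcom : Commute (elH⁻¹ * h') u' := by
    have e : h' * u' = elH * u' * elH⁻¹ * h' := by
      rw [hact', ← hact, inv_mul_cancel_right]
    show elH⁻¹ * h' * u' = u' * (elH⁻¹ * h')
    rw [mul_assoc, e]
    group
  have hcom' : Commute (elH⁻¹ * h') elU := by
    rcases hu with e | e
    · rwa [e] at hcom
    · rw [e] at hcom
      have := hcom.pow_right 7
      rwa [← pow_mul, show (2 * 7 : ℕ) = 13 + 1 from rfl, pow_add, elems.pow, one_mul, pow_one] at this
  obtain ⟨k, hk⟩ := eq_pow_of_commute hcom'
  refine ⟨elU ^ (10 * k) * g₁, ?_, ?_⟩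
  · show elU ^ (10 * k) * g₁ * α elU * (elU ^ (10 * k) * g₁)⁻¹ = elU ∨
      elU ^ (10 * k) * g₁ * α elU * (elU ^ (10 * k) * g₁)⁻¹ = elU ^ 2
    have e : elU ^ (10 * k) * g₁ * α elU * (elU ^ (10 * k) * g₁)⁻¹ = u' := by
      have hc : Commute (elU ^ (10 * k)) u' := by
        rcases hu with e | e <;> rw [e]
        · exact (Commute.refl elU).pow_left _
        · exact ((Commute.refl elU).pow_left _).pow_right _
      calc _ = elU ^ (10 * k) * u' * (elU ^ (10 * k))⁻¹ := by rw [hu']; group
        _ = u' := by rw [hc.eq, mul_inv_cancel_right]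
    rw [e]
    exact hu
  · show elU ^ (10 * k) * g₁ * α elH * (elU ^ (10 * k) * g₁)⁻¹ = elH
    have hh : h' = elH * elU ^ k := by rw [← hk, mul_inv_cancel_left]
    calc elU ^ (10 * k) * g₁ * α elH * (elU ^ (10 * k) * g₁)⁻¹
        = elU ^ (10 * k) * h' * (elU ^ (10 * k))⁻¹ := by rw [hh']; group
      _ = (elU ^ (10 * k) * elH) * elU ^ k * (elU ^ (10 * k))⁻¹ := by rw [hh]; group
      _ = elH * elU ^ (100 * k) * (elU ^ k * (elU ^ (10 * k))⁻¹) := by
          have : elU ^ (10 * k) * elH = elH * elU ^ (100 * k) := by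
            have h1 : elH * elU ^ (100 * k) * elH⁻¹ = elU ^ (4 * (100 * k)) := by
              rw [← conj_pow, elems.conj, ← pow_mul]
            have h2 : elU ^ (4 * (100 * k)) = elU ^ (10 * k) := by
              rw [show 4 * (100 * k) = 13 * (30 * k) + 10 * k by ring, pow_add, pow_mul, elems.pow, one_pow, one_mul]
            rw [← h2, ← h1, inv_mul_cancel_right]
          rw [this]; group
      _ = elH * (elU ^ (100 * k + k) * (elU ^ (10 * k))⁻¹) := by rw [pow_add]; group
      _ = elH := by
          rw [show 100 * k + k = 13 * (7 * k) + 10 * k by ring, pow_add, pow_mul, elems.pow, one_pow, one_mul,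
            mul_inv_cancel, mul_one]

theorem excl_spec {U code : List ℕ} (h : exclOK U code = true) {i : ℕ} (hi : i < 72) :
    code.getD i 0 = 0 ∨ (0 < code.getD i 0 ∧ code.getD i 0 ≤ testWords.length ∧
      sameW (testPow U (candWords.getD i []) (code.getD i 0 - 1)) [] = false) := by
  simp only [exclOK, Bool.and_eq_true, List.all_eq_true, List.mem_range, force_eq, Bool.or_eq_true,
    Nat.beq_eq, Nat.ble_eq, Bool.not_eq_true'] at h
  rcases h.1 i hi with h0 | ⟨h1, h2⟩
  · exact Or.inl h0
  · by_cases h0 : code.getD i 0 = 0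
    · exact Or.inl h0
    · exact Or.inr ⟨Nat.pos_of_ne_zero h0, h1, h2⟩

theorem excl_unique {U code : List ℕ} (h : exclOK U code = true) {i j : ℕ} (hi : i < 72) (hj : j < 72)
    (ei : code.getD i 0 = 0) (ej : code.getD j 0 = 0) : i = j := by
  simp only [exclOK, Bool.and_eq_true, Nat.ble_eq] at h
  by_contra hne
  have h1 : [i, j] ⊆ (List.range 72).filter fun i => Nat.beq (code.getD i 0) 0 := by
    intro z hz
    simp only [List.mem_cons, List.not_mem_nil, or_false] at hz
    rcases hz with rfl | rfl <;> exact List.mem_filter.2 ⟨List.mem_range.2 ‹_›, by rw [Nat.beq_eq]; assumption⟩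
  have h2 : [i, j].Nodup := by simp [hne]
  have := (h2.subperm h1).length_le
  simp only [List.length_cons, List.length_nil] at this
  omega

theorem testWords_lt : (testWords.all fun w => w.all fun l => Nat.blt l 3) = true := by decide +kernel

/-- The image of the third generator is the distinguished candidate. -/
theorem image_x {α : MulAut Cfsg.Spor.Suz} (hh : α elH = elH) {U code : List ℕ} (hU : letters U = true)
    (hu : α elU = val U) (h : exclOK U code = true) :
    ∃ i < 72, code.getD i 0 = 0 ∧ α elX = val (candWords.getD i []) := by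
  have hy : α elX * elH = elH * α elX := by
    rw [← hh, ← map_mul, ← map_mul, elems.xcomm]
  obtain ⟨i, hi, hyi⟩ := exists_cand hy
  refine ⟨i, hi, ?_, hyi⟩
  have lY := letters_getD elems.lC i
  rcases excl_spec h hi with h0 | ⟨hpos, hle, hbad⟩
  · exact h0
  · refine absurd ?_ (val_ne (letters_replicate (letters_sub hU elems.lH lY _) _) rfl hbad)
    set j := code.getD i 0 - 1 with hj
    have hjl : j < testWords.length := by omega
    rw [val_nil, val_replicate]
    have hw : ∀ l ∈ testWords.getD j [], α (val (letW wordU wordH wordX l)) =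
        val (letW U wordH (candWords.getD i []) l) := by
      intro l hl
      have hl3 : l < 3 := by
        have ht := testWords_lt
        simp only [List.all_eq_true, Nat.blt_eq] at ht
        rw [List.getD_eq_getElem _ _ hjl] at hl
        exact ht _ (List.getElem_mem _) l hl
      interval_cases l
      · exact hu
      · exact hh
      · exact hyi
    have := map_flatMap α.toMonoidHom (letW wordU wordH wordX) (letW U wordH (candWords.getD i []))
      (testWords.getD j []) hw
    show val (subW U wordH (candWords.getD i []) _) ^ _ = 1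
    rw [subW, ← this]
    show α (val _) ^ _ = 1
    rw [← map_pow, ← val_replicate]
    have ht := elems.tests j hjl
    rw [testPow] at ht
    rw [show (List.flatMap (letW wordU wordH wordX) (testWords.getD j [])) = subW wordU wordH wordX (testWords.getD j []) from rfl,
      ht, map_one]

/-- A normalised automorphism is determined by the image of the element of order thirteen. -/
theorem normalised_ext {α β : MulAut Cfsg.Spor.Suz} (hα : Normalised α) (hβ : Normalised β)
    (h : α elU = β elU) : α = β := by
  obtain ⟨U, code, hl, hu, hex⟩ : ∃ U code, letters U = true ∧ α elU = val U ∧ exclOK U code = true := by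
    rcases hα.1 with e | e
    · exact ⟨wordU, candCode0, elems.lU, e, excl0_ok⟩
    · refine ⟨wordU ++ wordU, candCode1, letters_append elems.lU elems.lU, ?_, excl1_ok⟩
      rw [e, val_append, pow_two]
      rfl
  obtain ⟨i, hi, hi0, hxi⟩ := image_x hα.2 hl hu hex
  obtain ⟨j, hj, hj0, hxj⟩ := image_x hβ.2 hl (h ▸ hu) hex
  have hx : α elX = β elX := by rw [hxi, hxj, excl_unique hex hi hj hi0 hj0]
  have key : ∀ γ : MulAut Cfsg.Spor.Suz, γ elU = α elU → γ elH = α elH → γ elX = α elX →
      ∀ w : List ℕ, γ (val (subW wordU wordH wordX w)) = α (val (subW wordU wordH wordX w)) := by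
    intro γ e1 e2 e3 w
    induction w with
    | nil => simp [subW, val_nil]
    | cons l w ih =>
      rw [subW, List.flatMap_cons, val_append, map_mul, map_mul]
      congr 1
      match l with
      | 0 => exact e1
      | 1 => exact e2
      | 2 => exact e3
      | 3 => show γ (val wordU.reverse) = α (val wordU.reverse)
             rw [val_reverse, map_inv, map_inv]; exact congrArg _ e1
      | _ + 4 => show γ (val wordH.reverse) = α (val wordH.reverse)
                 rw [val_reverse, map_inv, map_inv]; exact congrArg _ e2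
  refine MulEquiv.toMonoidHom_injective (MonoidHom.eq_of_eqOn_dense
    (numbering.closure_gens Suz.extra) ?_)
  rintro _ ⟨g, hg, rfl⟩
  show α (xgen g) = β (xgen g)
  rw [← elems.gens g hg]
  exact (key β h.symm (hβ.2.trans hα.2.symm) hx.symm _).symm

theorem moved_get {v : ℕ} : ∀ {n s : ℕ}, movedOK n s = true → s ≤ v → v < s + n →
    v ≠ 0 → ∃ g < 6, swalk [g] v ≠ v
  | 0, _, _, h1, h2, _ => by omega
  | n + 1, s, h, h1, h2, hv => by
    rw [movedOK, force_eq, Bool.and_eq_true] at h
    rcases Nat.eq_or_lt_of_le h1 with rfl | h1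
    · have h' := h.1
      simp only [Bool.or_eq_true, Nat.beq_eq, hv, false_or, List.any_eq_true, Bool.not_eq_true',
        ← Bool.not_eq_true] at h'
      obtain ⟨g, hg, hne⟩ := h'
      exact ⟨g, by simp only [List.mem_cons, List.not_mem_nil, or_false] at hg; omega, hne⟩
    · exact moved_get h.2 (by omega) (by omega) hv

/-- An automorphism that is not inner. -/
theorem exists_outer : ∃ α : MulAut Cfsg.Spor.Suz, α ∉ Cfsg.Inn Cfsg.Spor.Suz := by
  classical
  choose φ hφ using exists_conj
  have hinv : ∀ a, φ (φ a) = a := fun a => act_injective (by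
    rw [hφ, hφ, sigma_inv, ← mul_assoc, ← mul_assoc, sigma_sq, one_mul, mul_assoc, sigma_sq, mul_one])
  let e : MulAut Cfsg.Spor.Suz :=
    { toFun := φ
      invFun := φ
      left_inv := hinv
      right_inv := hinv
      map_mul' := fun a b => act_injective (by
        show act (φ (a * b)) = act (φ a * φ b)
        rw [map_mul, hφ, hφ, hφ, map_mul]
        group) }
  refine ⟨e, ?_⟩
  rintro ⟨c, hc⟩
  set τ := (act c)⁻¹ * sigma with hτ
  have hcomm : ∀ a, τ * act a = act a * τ := by
    intro a
    have h1 : c * a * c⁻¹ = φ a := DFunLike.congr_fun hc a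
    have h2 := congrArg act h1
    rw [hφ, map_mul, map_mul, map_inv] at h2
    calc τ * act a = (act c)⁻¹ * (sigma * act a * sigma⁻¹) * sigma := by rw [hτ]; group
      _ = (act c)⁻¹ * (act c * act a * (act c)⁻¹) * sigma := by rw [h2]
      _ = act a * τ := by rw [hτ]; group
  have h0 : τ pt0 = pt0 := by
    by_contra hne
    obtain ⟨g, hg, hmove⟩ := moved_get moved_ok (Nat.zero_le _) (by have := (τ pt0).2; omega)
      (fun e => hne (Fin.ext e))
    have hl : ∀ a ∈ [g], a < 7 := by simp; omega
    have hs : act (wordVal xgen [g]) pt0 = pt0 := Fin.ext (by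
      rw [act_word hl]
      have h6 : ([0, 1, 2, 3, 4, 5].all fun g => Nat.beq (swalk [g] 0) 0) = true := by decide +kernel
      simp only [List.all_eq_true, Nat.beq_eq] at h6
      exact h6 g (by simp only [List.mem_cons, List.not_mem_nil, or_false]; omega))
    refine hmove ((act_word hl (τ pt0)).symm.trans (congrArg Fin.val ?_))
    rw [← Equiv.Perm.mul_apply, ← hcomm, Equiv.Perm.mul_apply, hs]
  have h1 : τ = 1 := Equiv.ext fun i => by
    obtain ⟨a, ha⟩ := exists_move i
    rw [← ha, ← Equiv.Perm.mul_apply, hcomm, Equiv.Perm.mul_apply, h0, Equiv.Perm.one_apply]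
  rw [hτ, inv_mul_eq_one] at h1
  exact sigma_not_act c h1

/-- The outer automorphism group has order two. -/
theorem card_out : Nat.card (Cfsg.Out Cfsg.Spor.Suz) = 2 := by
  classical
  haveI : Finite (MulAut Cfsg.Spor.Suz) :=
    Finite.of_injective (fun α : MulAut Cfsg.Spor.Suz => (α : Cfsg.Spor.Suz → Cfsg.Spor.Suz))
      DFunLike.coe_injective
  let f : {α : MulAut Cfsg.Spor.Suz // Normalised α} → Cfsg.Out Cfsg.Spor.Suz := fun α => QuotientGroup.mk α.1
  have hf : Function.Surjective f := fun q => by
    obtain ⟨α, rfl⟩ := QuotientGroup.mk_surjective q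
    obtain ⟨g, hg⟩ := exists_normalised α
    refine ⟨⟨_, hg⟩, ?_⟩
    show (QuotientGroup.mk (MulAut.conj g * α) : Cfsg.Out Cfsg.Spor.Suz) = QuotientGroup.mk α
    rw [QuotientGroup.mk_mul, (QuotientGroup.eq_one_iff (N := Cfsg.Inn Cfsg.Spor.Suz) (MulAut.conj g)).2 ⟨g, rfl⟩,
      one_mul]
  have hle : Nat.card {α : MulAut Cfsg.Spor.Suz // Normalised α} ≤ 2 := by
    have := Nat.card_le_card_of_injective
      (fun α : {α : MulAut Cfsg.Spor.Suz // Normalised α} => decide (α.1 elU = elU)) (fun α β h => by
      refine Subtype.ext (normalised_ext α.2 β.2 ?_)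
      have h' := decide_eq_decide.1 h
      rcases α.2.1 with e | e <;> rcases β.2.1 with e' | e'
      · rw [e, e']
      · exact absurd (e'.symm.trans (h'.1 e)) pow_ne_two
      · exact absurd (e.symm.trans (h'.2 e')) pow_ne_two
      · rw [e, e'])
    simpa using this
  refine le_antisymm ((Nat.card_le_card_of_surjective f hf).trans hle) ?_
  obtain ⟨α, hα⟩ := exists_outer
  exact Finite.one_lt_card_iff_nontrivial.2
    ⟨QuotientGroup.mk α, 1, fun e => hα ((QuotientGroup.eq_one_iff α).1 e)⟩

end Cfsg.Lib.CosetEnum.SuzOut
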