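import Cfsg.Agent.Lib.CosetEnum.Groups.SuzCentralizer
import Cfsg.Agent.Lib.CosetEnum.SuzMult.ProgCheck
import Cfsg.Agent.Lib.CosetEnum.Trans.ClassBound
import Cfsg.Prelude.Def_KGroupFacts

/-!
# The kernel of a stem extension of the Suzuki group is cyclic of order dividing six

Products of lifts of the involutions are rewritten; a triangle of commuting involutions contributes one of
two central involutions, and one further central element has order three.
-/

set_option autoImplicit false
set_option maxRecDepth 100000
set_option maxHeartbeats 1000000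

open scoped commutatorElement

namespace Cfsg.Lib.CosetEnum.SuzMult

open Cfsg.Spor SuzOut SuzPres

theorem ws_lt (i : ℕ) : ∀ g ∈ data.ws i, g < 7 := by
  have h := ws_ok
  simp only [Bool.and_eq_true, List.all_eq_true] at h
  show ∀ g ∈ wordTab wsTab i, g < 7
  unfold wordTab
  rcases Nat.lt_or_ge (i / 50) wsTab.length with h1 | h1
  · rw [List.getD_eq_getElem _ _ h1]
    rcases Nat.lt_or_ge (i % 50) wsTab[i / 50].length with h2 | h2
    · rw [List.getD_eq_getElem _ _ h2]
      exact letters_lt (h.1 _ (List.getElem_mem h1) _ (List.getElem_mem h2))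
    · rw [List.getD_eq_default _ _ h2]
      simp [unpk]
  · rw [List.getD_eq_default _ _ h1]
    simp [unpk]

theorem cwAt_lt (i : ℕ) : ∀ g ∈ cwAt data.ws i, g < 7 := by
  intro g hg
  simp only [cwAt, cwW, List.mem_append, List.mem_reverse, List.mem_cons] at hg
  rcases hg with hg | rfl | hg
  · exact ws_lt i g hg
  · norm_num
  · exact ws_lt i g hg

/-- The conjugate with an index. -/
def el (i : ℕ) : Cfsg.Spor.Suz := wordVal xgen (cwAt data.ws i)

theorem el_conj (i : ℕ) : IsConj invA (el i) := by
  refine isConj_iff.2 ⟨wordVal xgen (data.ws i), ?_⟩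
  rw [el, cwAt, cwW, ← List.singleton_append (x := 0) (l := data.ws i), ← List.append_assoc, val_cw]

theorem el_swap {a b c : ℕ}
    (h : sameW (cwAt data.ws a ++ cwAt data.ws b ++ cwAt data.ws a) (cwAt data.ws c) = true) :
    el a * el b * el a = el c := by
  have e := eq_of_sameW (fun g hg => by
    simp only [List.mem_append] at hg
    rcases hg with (hg | hg) | hg <;> exact cwAt_lt _ g hg) (cwAt_lt c) h
  rw [val_app, val_app, ← mul_assoc] at e
  exact e

section

variable {Q : Type} [Group Q] {π : Q →* Cfsg.Spor.Suz} (L : ClassLifts π invA)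

/-- The product of the lifts of a sequence. -/
def prodW (q : List ℕ) : Q := (q.map fun i => L.Y (el i)).prod

theorem prodW_append (a b : List ℕ) : prodW L (a ++ b) = prodW L a * prodW L b := by
  simp [prodW]

theorem prodW_cons (a : ℕ) (b : List ℕ) : prodW L (a :: b) = L.Y (el a) * prodW L b := by
  simp [prodW]

theorem prodW_reverse : ∀ q : List ℕ, prodW L q.reverse = (prodW L q)⁻¹
  | [] => by simp [prodW]
  | a :: q => by
    rw [List.reverse_cons, prodW_append, prodW_reverse q, prodW_cons L a q, mul_inv_rev,
      inv_eq_of_mul_eq_one_left (L.sq _ (el_conj a))]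
    simp [prodW]

theorem prod_conj : ∀ (q : List ℕ) (a : Cfsg.Spor.Suz), IsConj invA a →
    prodW L q * L.Y a * (prodW L q)⁻¹ = L.Y (π (prodW L q) * a * (π (prodW L q))⁻¹)
  | [], a, _ => by simp [prodW]
  | x :: q, a, ha => by
    set P := prodW L q
    have ih := prod_conj q a ha
    have hb : IsConj invA (π P * a * (π P)⁻¹) := ha.trans (isConj_iff.2 ⟨π P, rfl⟩)
    have hx2 : el x * el x = 1 := by
      rw [← L.proj _ (el_conj x), ← map_mul, L.sq _ (el_conj x), map_one]
    rw [prodW_cons]
    calc L.Y (el x) * P * L.Y a * (L.Y (el x) * P)⁻¹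
        = L.Y (el x) * (P * L.Y a * P⁻¹) * (L.Y (el x))⁻¹ := by group
      _ = L.Y (el x * (π P * a * (π P)⁻¹) * el x) := by
        rw [ih, inv_eq_of_mul_eq_one_left (L.sq _ (el_conj x)), L.conj _ _ (el_conj x) hb]
      _ = _ := by
        rw [map_mul, L.proj _ (el_conj x), mul_inv_rev, inv_eq_of_mul_eq_one_left hx2]
        congr 1
        simp only [P]
        group

/-- The lift of a generator. -/
def ygen (g : ℕ) : Q := prodW L (exs.getD g [])

theorem wordVal_ygen : ∀ {w : List ℕ}, (∀ g ∈ w, g < 7) → wordVal (ygen L) w = prodW L (seqW exs w)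
  | [], _ => rfl
  | g :: w, h => by
    have hg : g < 7 := h g (by simp)
    rw [wordVal, wordVal_ygen fun a ha => h a (by simp [ha]), gen, if_neg (by unfold eps; omega), ygen,
      ← prodW_append, seqW, seqW, List.reverse_cons, List.flatMap_append, List.flatMap_singleton]

theorem proj_prodW : ∀ q : List ℕ, π (prodW L q) = wordVal xgen (q.reverse.flatMap (cwAt data.ws))
  | [] => map_one π
  | i :: q => by
    rw [prodW_cons, map_mul, proj_prodW q, L.proj _ (el_conj i), List.reverse_cons, List.flatMap_append,
      List.flatMap_singleton, val_app]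
    rfl

theorem proj_ygen (g : ℕ) (hg : g < 7) : π (ygen L g) = xgen g := by
  have h := exs_ok
  simp only [exsOK, Bool.and_eq_true, List.all_eq_true, List.mem_range] at h
  rw [ygen, proj_prodW, eq_of_sameW (fun a ha => ?_) (v := [g]) (by simpa using hg) (h.2 g hg)]
  · simp [wordVal, gen, if_neg (show g ≠ eps by unfold eps; omega)]
  · obtain ⟨i, -, ha⟩ := List.mem_flatMap.1 ha
    exact cwAt_lt i a ha

theorem proj_word {w : List ℕ} (h : ∀ g ∈ w, g < 7) : π (wordVal (ygen L) w) = wordVal xgen w := by
  induction w with
  | nil => exact map_one π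
  | cons g w ih =>
    have hg : g < 7 := h g (by simp)
    rw [wordVal, wordVal, map_mul, ih fun a ha => h a (by simp [ha]), gen, gen,
      if_neg (by unfold eps; omega), if_neg (by unfold eps; omega), proj_ygen L g hg]

/-- The product over a standard triangle. -/
def eta (ty : Bool) : Q := L.Y invA * L.Y (el (data.refs ty).1) * L.Y (el (data.refs ty).2)

theorem refs_get (ty : Bool) : refOK data ty = true := by
  have h := refs_ok
  rw [Bool.and_eq_true] at h
  cases ty
  · exact h.1
  · exact h.2

theorem proj_eta (ty : Bool) : π (eta L ty) = 1 := by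
  have h := refs_get ty
  simp only [refOK, Bool.and_eq_true] at h
  rw [eta, map_mul, map_mul, L.proj _ (IsConj.refl _), L.proj _ (el_conj _), L.proj _ (el_conj _)]
  have e := eq_of_sameW (fun g hg => by
    simp only [List.mem_append, List.mem_singleton] at hg
    rcases hg with (hg | hg) | rfl
    · exact cwAt_lt _ g hg
    · exact cwAt_lt _ g hg
    · norm_num) (v := []) (by simp) h.2
  rw [val_app, val_app, ← mul_assoc] at e
  exact e

theorem eta_central (hπ : π.ker ≤ Subgroup.center Q) (ty : Bool) : eta L ty ∈ Subgroup.center Q :=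
  hπ (proj_eta L ty)

theorem eta_sq (hπ : π.ker ≤ Subgroup.center Q) (ty : Bool) : eta L ty * eta L ty = 1 := by
  have h := refs_get ty
  simp only [refOK, Bool.and_eq_true] at h
  have hqr := L.conj _ _ (el_conj (data.refs ty).1) (el_conj (data.refs ty).2)
  rw [el_swap h.1] at hqr
  have hc := Subgroup.mem_center_iff.1 (eta_central L hπ ty)
  set a := L.Y invA
  set q := L.Y (el (data.refs ty).1)
  set r := L.Y (el (data.refs ty).2)
  have he : eta L ty = a * q * r := rfl
  calc eta L ty * eta L ty = eta L ty * a * (q * r) := by rw [he]; group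
    _ = a * eta L ty * (q * r) := by rw [hc a]
    _ = a * a * (q * r * q) * r := by rw [he]; group
    _ = r * r := by rw [L.sq _ (IsConj.refl _), one_mul, hqr]
    _ = 1 := L.sq _ (el_conj _)

theorem tri_prod (hπ : π.ker ≤ Subgroup.center Q) {a b c j : ℕ} (h : triOK data a b c j = true) :
    L.Y (el a) * L.Y (el b) = eta L (data.ms j).1 * L.Y (el c) := by
  rw [triOK] at h
  revert h
  generalize hp : data.ms j = p
  obtain ⟨ty, u⟩ := p
  intro h
  simp only [Bool.and_eq_true] at h
  obtain ⟨⟨⟨hu, ha⟩, hb⟩, hc⟩ := h
  have hu' := letters_lt hu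
  set e := prodW L (seqW exs u) with he
  have hπe : π e = wordVal xgen u := by rw [he, ← wordVal_ygen L hu', proj_word L hu']
  have hmove : ∀ (w : List ℕ) (t : ℕ), (∀ g ∈ w, g < 7) → IsConj invA (wordVal xgen w) →
      sameW (u.reverse ++ w ++ u) (cwAt data.ws t) = true →
      e * L.Y (wordVal xgen w) * e⁻¹ = L.Y (el t) := by
    intro w t hw hconj hs
    have e1 := eq_of_sameW (fun g hg => by
      simp only [List.mem_append, List.mem_reverse] at hg
      rcases hg with (hg | hg) | hg
      · exact hu' g hg
      · exact hw g hg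
      · exact hu' g hg) (cwAt_lt t) hs
    rw [val_app, val_app, val_rev, ← mul_assoc] at e1
    rw [he, prod_conj L _ _ hconj, ← he, hπe, e1]
    rfl
  have h1 := hmove [0] a (by simp) (IsConj.refl _) ha
  have h2 := hmove _ b (cwAt_lt _) (el_conj (data.refs ty).1) hb
  have h3 := hmove _ c (cwAt_lt _) (el_conj (data.refs ty).2) hc
  have hc' := Subgroup.mem_center_iff.1 (eta_central L hπ ty) e
  have key : eta L ty = L.Y (el a) * L.Y (el b) * L.Y (el c) := by
    rw [← h1, ← h2, ← h3]
    calc eta L ty = eta L ty * e * e⁻¹ := by group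
      _ = e * eta L ty * e⁻¹ := by rw [hc']
      _ = _ := by unfold eta invA el; group
  show L.Y (el a) * L.Y (el b) = eta L ty * L.Y (el c)
  rw [key, mul_assoc, L.sq _ (el_conj c), mul_one]

/-- The triangle factor of a program. -/
def triFac (P : List Op) : Q := eta L false ^ triCount data false P * eta L true ^ triCount data true P

theorem step_prod (hπ : π.ker ≤ Subgroup.center Q) {op : Op} {q q' : List ℕ}
    (h : stepW data op q = some q') : prodW L q = triFac L [op] * prodW L q' := by
  obtain ⟨i, c, d, j⟩ := op
  have hq : prodW L q = prodW L (q.take i) * prodW L (q.drop i) := by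
    rw [← prodW_append, List.take_append_drop]
  rcases c with _ | _ | _ | c
  · have hf : triFac L [(⟨i, 0, d, j⟩ : Op)] = 1 := by
      simp [triFac, triCount, show Nat.ble 3 0 = false from rfl]
    rw [hf, one_mul]
    simp only [stepW] at h
    split at h
    · rename_i a b t hd
      cases hab : Nat.beq a b <;> simp only [hab, cond_true, cond_false] at h
      · exact absurd h (by simp)
      · obtain rfl := Option.some.inj h
        rw [hq, hd, prodW_append, Nat.eq_of_beq_eq_true hab, prodW_cons, prodW_cons, ← mul_assoc (L.Y (el b)),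
          L.sq _ (el_conj b), one_mul]
    · exact absurd h (by simp)
  · have hf : triFac L [(⟨i, 1, d, j⟩ : Op)] = 1 := by
      simp [triFac, triCount, show Nat.ble 3 1 = false from rfl]
    rw [hf, one_mul]
    simp only [stepW] at h
    split at h
    · rename_i a b t hd
      cases hab : sameW (cwAt data.ws a ++ cwAt data.ws b ++ cwAt data.ws a) (cwAt data.ws d) <;>
        simp only [hab, cond_true, cond_false] at h
      · exact absurd h (by simp)
      · obtain rfl := Option.some.inj h
        rw [hq, hd, prodW_append]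
        congr 1
        simp only [prodW_cons]
        rw [← el_swap hab, ← L.conj _ _ (el_conj a) (el_conj b)]
        calc L.Y (el a) * (L.Y (el b) * prodW L t)
            = L.Y (el a) * L.Y (el b) * (L.Y (el a) * L.Y (el a)) * prodW L t := by
              rw [L.sq _ (el_conj a), mul_one, mul_assoc]
          _ = _ := by group
    · exact absurd h (by simp)
  · have hf : triFac L [(⟨i, 2, d, j⟩ : Op)] = 1 := by
      simp [triFac, triCount, show Nat.ble 3 2 = false from rfl]
    rw [hf, one_mul]
    simp only [stepW, Option.some.injEq] at h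
    subst h
    rw [hq, prodW_append, prodW_cons, prodW_cons, ← mul_assoc (L.Y (el d)), L.sq _ (el_conj d), one_mul]
  · simp only [stepW] at h
    split at h
    · rename_i a b t hd
      cases hab : triOK data a b d j <;> simp only [hab, cond_true, cond_false] at h
      · exact absurd h (by simp)
      · obtain rfl := Option.some.inj h
        have hf : triFac L [(⟨i, c + 3, d, j⟩ : Op)] = eta L (data.ms j).1 := by
          have hb : Nat.ble 3 (c + 3) = true := Nat.ble_eq_true_of_le (by omega)
          cases hty : (data.ms j).1 <;> simp [triFac, triCount, hb, hty]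
        rw [hf, hq, hd, prodW_append, prodW_cons, prodW_cons, prodW_cons, ← mul_assoc (L.Y (el a)),
          tri_prod L hπ hab]
        have hz := Subgroup.mem_center_iff.1 (eta_central L hπ (data.ms j).1) (prodW L (q.take i))
        calc prodW L (q.take i) * (eta L (data.ms j).1 * L.Y (el d) * prodW L t)
            = prodW L (q.take i) * eta L (data.ms j).1 * (L.Y (el d) * prodW L t) := by group
          _ = _ := by rw [hz]; group
    · exact absurd h (by simp)

theorem triFac_cons (hπ : π.ker ≤ Subgroup.center Q) (op : Op) (ops : List Op) :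
    triFac L (op :: ops) = triFac L [op] * triFac L ops := by
  have key : ∀ {a b c d : Q}, b * c = c * b → a * c * (b * d) = a * b * (c * d) := fun {a b c d} e => by
    rw [mul_assoc a c, ← mul_assoc c b, ← e, mul_assoc b c, mul_assoc a b]
  simp only [triFac, triCount, add_zero, pow_add]
  exact key (Subgroup.mem_center_iff.1 (pow_mem (eta_central L hπ false) _) _)

theorem run_prod (hπ : π.ker ≤ Subgroup.center Q) : ∀ {ops : List Op} {q r : List ℕ},
    runW data ops q r = true → prodW L q = triFac L ops * prodW L r
  | [], q, r, h => by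
    rw [beqW_eq (show beqW q r = true from h)]
    simp [triFac, triCount]
  | op :: ops, q, r, h => by
    rw [runW] at h
    cases hs : stepW data op q with
    | none => rw [hs] at h; exact absurd h (by simp)
    | some q' =>
      rw [hs] at h
      rw [step_prod L hπ hs, run_prod hπ h, triFac_cons L hπ op ops, mul_assoc]

end

theorem runW_append : ∀ {a b : List Op} {q m r : List ℕ}, runW data a q m = true →
    runW data b m r = true → runW data (a ++ b) q r = true
  | [], b, q, m, r, ha, hb => by rw [beqW_eq (show beqW q m = true from ha)]; exact hb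
  | op :: a, b, q, m, r, ha, hb => by
    rw [runW] at ha
    rw [List.cons_append, runW]
    cases hs : stepW data op q with
    | none => rw [hs] at ha; exact absurd ha (by simp)
    | some q' => rw [hs] at ha; exact runW_append ha hb

theorem long_ok : progOK data exs omSeq (SuzG24.cert.R0.getD 53 []) progLong = true := by
  show runW data progLong.2 (seqW exs (SuzG24.cert.R0.getD 53 []) ++ tailW omSeq progLong.1) [] = true
  rw [show tailW omSeq progLong.1 = [] from rfl, List.append_nil, long_start]
  exact runW_append long0_ok (runW_append long1_ok (runW_append long2_ok (runW_append long3_ok (runW_append long4_ok (runW_append long5_ok (runW_append long6_ok (runW_append long7_ok (runW_append long8_ok (runW_append long9_ok (runW_append long10_ok (runW_append long11_ok (runW_append long12_ok (runW_append long13_ok (long14_ok))))))))))))))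

theorem progsW_get : ∀ {R : List (List ℕ)} {Ps : List (ℕ × List Op)},
    progsW data exs omSeq R Ps = true → ∀ r ∈ R, ∃ P, progOK data exs omSeq r P = true ∧
      parityOK data exs r P = true
  | [], _, _, r, hr => absurd hr (by simp)
  | r₀ :: R, [], h, r, hr => by simp [progsW] at h
  | r₀ :: R, P :: Ps, h, r, hr => by
    simp only [progsW, Bool.and_eq_true] at h
    rcases List.mem_cons.1 hr with rfl | hr
    · exact ⟨P, h.1.1, h.1.2⟩
    · exact progsW_get h.2 r hr

theorem R0_prog : ∀ r ∈ SuzG24.cert.R0, ∃ P, progOK data exs omSeq r P = true ∧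
    parityOK data exs r P = true := by
  intro r hr
  have hsplit : SuzG24.cert.R0 = (SuzG24.cert.R0.drop 0).take 9 ++ (SuzG24.cert.R0.drop 9).take 9 ++
      (SuzG24.cert.R0.drop 18).take 9 ++ (SuzG24.cert.R0.drop 27).take 9 ++
      (SuzG24.cert.R0.drop 36).take 9 ++ (SuzG24.cert.R0.drop 45).take 8 ++
      [SuzG24.cert.R0.getD 53 []] := by decide +kernel
  rw [hsplit] at hr
  simp only [List.mem_append, List.mem_singleton] at hr
  rcases hr with ((((((hr | hr) | hr) | hr) | hr) | hr) | rfl)
  · exact progsW_get prog0_ok r hr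
  · exact progsW_get prog1_ok r hr
  · exact progsW_get prog2_ok r hr
  · exact progsW_get prog3_ok r hr
  · exact progsW_get prog4_ok r hr
  · exact progsW_get prog5_ok r hr
  · exact ⟨_, long_ok, long_parity⟩

theorem R0_lt : ∀ r ∈ SuzG24.cert.R0, ∀ g ∈ r, g < 7 := by
  have h : SuzG24.cert.R0.all letters = true := by decide +kernel
  simp only [List.all_eq_true] at h
  exact fun r hr => letters_lt (h r hr)

theorem R0_eq : SuzG24.cert.R0 = numbering.pairs ++ extra := by decide +kernel

/-- The kernel of a stem extension is an image of the cyclic group of order six. -/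
theorem stem_ker {E : Type} [Group E] (σ : E →* Cfsg.Spor.Suz) (hσ : Cfsg.IsStemExtension σ) :
    ∃ p : Multiplicative (ZMod 6) →* σ.ker, Function.Surjective p := by
  obtain ⟨hsurj, hker, hcomm⟩ := hσ
  obtain ⟨Q, _, π, ι, hπ, hι, hcomp, ⟨L⟩⟩ := exists_classLifts hsurj hker invA_sq centralizer_perfect
  set η₀ := eta L false with hη₀
  set η₁ := eta L true with hη₁
  set Ω := prodW L omSeq with hΩ
  have hΩ1 : π Ω = 1 := by
    rw [hΩ, proj_prodW, eq_of_sameW (fun a ha => ?_) (v := []) (by simp) om_ok]
    · rfl
    · obtain ⟨i, -, ha⟩ := List.mem_flatMap.1 ha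
      exact cwAt_lt i a ha
  have c0 : η₀ ∈ Subgroup.center Q := eta_central L hπ false
  have c1 : η₁ ∈ Subgroup.center Q := eta_central L hπ true
  have cΩ : Ω ∈ Subgroup.center Q := hπ hΩ1
  have s0 : η₀ ^ 2 = 1 := by rw [pow_two]; exact eta_sq L hπ false
  have s1 : η₁ ^ 2 = 1 := by rw [pow_two]; exact eta_sq L hπ true
  have hpar : ∀ (x : Q) (n : ℕ), x ^ 2 = 1 → x ^ n = x ^ (n % 2) := fun x n hx => by
    conv_lhs => rw [← Nat.div_add_mod n 2, pow_add, pow_mul, hx, one_pow, one_mul]
  have hcube : Ω ^ 3 = 1 := by
    have h := cube_ok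
    simp only [Bool.and_eq_true, Nat.beq_eq] at h
    obtain ⟨⟨hrun, ha⟩, hb⟩ := h
    have := run_prod L hπ hrun
    rw [prodW_append, prodW_append, triFac, hpar _ _ s0, hpar _ _ s1, ha, hb, pow_zero, pow_zero] at this
    rw [pow_succ, pow_two]
    rw [show prodW L [] = 1 from rfl, mul_one, one_mul] at this
    exact this
  set δ := η₀ * η₁ with hδ
  have cδ : δ ∈ Subgroup.center Q := mul_mem c0 c1
  have sδ : δ ^ 2 = 1 := by
    rw [hδ, (show Commute η₀ η₁ from (Subgroup.mem_center_iff.1 c0 η₁).symm).mul_pow, s0, s1, one_mul]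
  set ζ := δ * Ω
  have hcm : Commute δ Ω := (Subgroup.mem_center_iff.1 cδ Ω).symm
  have hζ3 : ζ ^ 3 = δ := by
    rw [hcm.mul_pow, hcube, mul_one, pow_succ, sδ, one_mul]
  have hζ4 : ζ ^ 4 = Ω := by
    rw [hcm.mul_pow, show (4 : ℕ) = 2 * 2 from rfl, pow_mul δ, sδ, one_pow, one_mul,
      show 2 * 2 = 3 + 1 from rfl, pow_succ, hcube, one_mul]
  have hζ6 : ζ ^ 6 = 1 := by rw [show (6 : ℕ) = 3 * 2 from rfl, pow_mul, hζ3, sδ]
  set K := Subgroup.zpowers ζ with hKdef
  have hδK : δ ∈ K := hζ3 ▸ pow_mem (Subgroup.mem_zpowers ζ) 3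
  have hΩK : Ω ∈ K := hζ4 ▸ pow_mem (Subgroup.mem_zpowers ζ) 4
  have hKπ : K ≤ π.ker := Subgroup.zpowers_le.2 (by
    rw [MonoidHom.mem_ker, map_mul, map_mul, proj_eta, proj_eta, hΩ1, one_mul, one_mul])
  have : K.Normal := ⟨fun a ha u => by
    rw [Subgroup.mem_center_iff.1 ((hKπ.trans hπ) ha) u, mul_inv_cancel_right]
    exact ha⟩
  let m := QuotientGroup.mk' K
  -- the twisted lifts
  let y : ℕ → Q := fun g => η₁ ^ (exs.getD g []).length * ygen L g
  have hy : ∀ w : List ℕ, (∀ g ∈ w, g < 7) →
      wordVal y w = η₁ ^ (seqW exs w).length * wordVal (ygen L) w := by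
    intro w
    induction w with
    | nil => intro _; simp [wordVal, seqW]
    | cons g w ih =>
      intro hw
      have hg : g < 7 := hw g (by simp)
      rw [wordVal, wordVal, ih fun a ha => hw a (by simp [ha]), gen, gen, if_neg (by unfold eps; omega),
        if_neg (by unfold eps; omega)]
      have hc := Subgroup.mem_center_iff.1 (pow_mem c1 (exs.getD g []).length) (wordVal (ygen L) w)
      have hl : (seqW exs (g :: w)).length = (seqW exs w).length + (exs.getD g []).length := by
        simp [seqW, List.flatMap_append]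
      rw [hl, pow_add]
      calc η₁ ^ (seqW exs w).length * wordVal (ygen L) w * (η₁ ^ (exs.getD g []).length * ygen L g)
          = η₁ ^ (seqW exs w).length * (wordVal (ygen L) w * η₁ ^ (exs.getD g []).length) * ygen L g := by
            group
        _ = _ := by rw [hc]; group
  have hrel : ∀ r ∈ SuzG24.cert.R0, wordVal y r ∈ K := by
    intro r hr
    obtain ⟨P, hP, hpa⟩ := R0_prog r hr
    have hlt := R0_lt r hr
    rw [progOK] at hP
    have h := run_prod L hπ hP
    rw [prodW_append, show prodW L [] = 1 from rfl, mul_one] at h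
    rw [hy r hlt, wordVal_ygen L hlt, eq_mul_inv_of_mul_eq h, ← mul_assoc]
    have htail : prodW L (tailW omSeq P.1) ∈ K := by
      rcases P.1 with _ | _ | k
      · exact one_mem K
      · exact hΩK
      · show prodW L omSeq.reverse ∈ K
        rw [prodW_reverse]
        exact inv_mem hΩK
    refine mul_mem ?_ (inv_mem htail)
    simp only [parityOK, Nat.beq_eq] at hpa
    set l := (seqW exs r).length
    set a := triCount data false P.2 with ha
    set b := triCount data true P.2 with hb
    have e : η₁ ^ l * triFac L P.2 = δ ^ a := by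
      rw [triFac, ← ha, ← hb, ← hη₀, ← hη₁, ← mul_assoc, Subgroup.mem_center_iff.1 (pow_mem c0 a) (η₁ ^ l),
        mul_assoc, ← pow_add, hδ, (show Commute η₀ η₁ from (Subgroup.mem_center_iff.1 c0 η₁).symm).mul_pow,
        hpar η₁ (l + b) s1, hpar η₁ a s1, show (l + b) % 2 = a % 2 by omega]
    rw [e]
    exact pow_mem hδK a
  have hm : ∀ a ∈ K, m a = 1 := fun a ha => (QuotientGroup.eq_one_iff a).2 ha
  have hysq : ∀ g, m (y g) * m (y g) = 1 := by
    intro g
    rw [← map_mul]
    refine hm _ ?_
    by_cases hg : g < 7
    · have hmem : [g, g] ∈ SuzG24.cert.R0 := by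
        have h : ∀ a : Fin 7, [a.1, a.1] ∈ SuzG24.cert.R0 := by decide +kernel
        exact h ⟨g, hg⟩
      have h := hrel _ hmem
      simpa [wordVal, gen, show g ≠ eps by unfold eps; omega] using h
    · have hlen : exs.length = 7 := rfl
      show η₁ ^ (exs.getD g []).length * ygen L g * (η₁ ^ (exs.getD g []).length * ygen L g) ∈ K
      rw [ygen, List.getD_eq_default _ _ (by omega)]
      simp [prodW, one_mem]
  have hy' := numbering.lift_eq_one (show numbering.k ≤ eps by decide) (fun g => m (y g))
    (map_extra _ hysq) (fun r hr => by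
      rw [← map_wordVal m y r]
      exact hm _ (hrel r (R0_eq ▸ hr)))
  have hsec : (QuotientGroup.lift K π hKπ).comp (PresentedGroup.toGroup hy') =
      MonoidHom.id Cfsg.Spor.Suz := PresentedGroup.ext fun a => by
    show QuotientGroup.lift K π hKπ (PresentedGroup.toGroup hy' (PresentedGroup.of a)) = PresentedGroup.of a
    rw [PresentedGroup.toGroup.of]
    show π (η₁ ^ _ * ygen L (numbering.num a)) = _
    rw [map_mul, map_pow, proj_eta, one_pow, one_mul, proj_ygen L _ (numbering.num_lt a), xgen]
    exact numbering.gens_num Suz.extra a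
  have hsmall := ker_commutator_le_of_section hπ hKπ _ hsec
  refine exists_surjective_zmod σ.ker ι hι hζ6 (by norm_num) fun e he => hsmall ⟨?_, ?_⟩
  · show π (ι e) = 1
    rw [← MonoidHom.comp_apply, hcomp]
    exact he
  · have : (commutator E).map ι ≤ commutator Q := by
      rw [commutator_def, Subgroup.map_commutator, commutator_def]
      exact Subgroup.commutator_mono le_top le_top
    exact this ⟨e, hcomm he, rfl⟩

end Cfsg.Lib.CosetEnum.SuzMult
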