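import Cfsg.Agent.S1684
import Cfsg.Agent.Lib.CosetEnum.Order
import Cfsg.Agent.Lib.CosetEnum.WordPres
import Cfsg.Agent.Lib.CosetEnum.Trans.Lifts
import Cfsg.Agent.Lib.CosetEnum.U62Mult.Check
import Cfsg.Agent.Lib.CosetEnum.U62Pres.Top.Valid
import Cfsg.Agent.Lib.CosetEnum.U62Pres.Hexa.Valid
import Cfsg.Agent.Lib.CosetEnum.U62Pres.SubE.Valid
import Cfsg.Agent.Lib.CosetEnum.U62Pres.SubDFive.Valid
import Cfsg.Agent.Lib.CosetEnum.U62Pres.SubDFour.Valid
import Cfsg.Agent.Lib.CosetEnum.U62Pres.SubAThree.Valid
import Cfsg.Agent.Lib.CosetEnum.U62Pres.SubATwo.Valid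
import Cfsg.Agent.Lib.CosetEnum.U62Pres.SubAOne.Valid

/-!
# A presentation of PSU(6, 2) on eight transvections

The presented group has at most the order of PSU(6, 2), by a chain of coset enumerations, and it acts on the
693 isotropic points as PSU(6, 2).
-/

set_option autoImplicit false
set_option maxRecDepth 100000

open scoped commutatorElement

namespace Cfsg.Lib.CosetEnum.U62Mult

/-- The presented group. -/
abbrev Pres : Type := WordPres.Grp 8 rels

/-- The generators of the presented group. -/
noncomputable def xgen (g : ℕ) : Pres := WordPres.gens 8 rels g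

theorem xgen_sq (g : ℕ) : xgen g * xgen g = 1 :=
  WordPres.gens_mul_self (by decide) rels_squares g

theorem xgen_rel : ∀ r ∈ rels, wordVal xgen r = 1 := WordPres.wordVal_gens

theorem xgen_closure : Subgroup.closure (xgen '' {g | g < 8}) = ⊤ := WordPres.closure_gens 8 rels

theorem card_step {c : StepCert} (h : c.Valid rels) {S : List ℕ} {m : ℕ}
    (hU : ∀ u ∈ c.U, ∃ g ∈ S, u = [g] ∧ g ≠ eps)
    (hS : Finite (Subgroup.closure (xgen '' {g | g ∈ S})) ∧
      Nat.card (Subgroup.closure (xgen '' {g | g ∈ S})) ≤ m) :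
    Finite (Subgroup.closure (xgen '' {g | g ∈ c.S})) ∧
      Nat.card (Subgroup.closure (xgen '' {g | g ∈ c.S})) ≤ c.n * m := by
  refine h.card_le xgen_sq xgen_rel (fun u hu => ?_) hS.1 hS.2
  obtain ⟨g, hg, rfl, hne⟩ := hU u hu
  rw [show wordVal xgen [g] = xgen g by simp [wordVal, gen, hne]]
  exact Subgroup.subset_closure ⟨g, hg, rfl⟩

theorem card_pres_le : Finite Pres ∧ Nat.card Pres ≤ 9196830720 := by
  have hs := shifts_ok
  simp only [Bool.and_eq_true] at hs
  obtain ⟨⟨⟨⟨⟨⟨⟨s0, s1⟩, s2⟩, s3⟩, s4⟩, s5⟩, s6⟩, s7⟩ := hs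
  have h8 : Finite (Subgroup.closure (xgen '' {g | g ∈ ([] : List ℕ)})) ∧
      Nat.card (Subgroup.closure (xgen '' {g | g ∈ ([] : List ℕ)})) ≤ 1 := by
    have e : Subgroup.closure (xgen '' {g | g ∈ ([] : List ℕ)}) = ⊥ := by simp
    rw [e]
    exact ⟨inferInstance, (Subgroup.card_bot).le⟩
  have h7 := card_step (U62Pres.SubAOne.step_valid s7) (by decide +kernel) h8
  have h6 := card_step (U62Pres.SubATwo.step_valid s6) (by decide +kernel) h7
  have h5 := card_step (U62Pres.SubAThree.step_valid s5) (by decide +kernel) h6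
  have h4 := card_step (U62Pres.SubDFour.step_valid s4) (by decide +kernel) h5
  have h3 := card_step (U62Pres.SubDFive.step_valid s3) (by decide +kernel) h4
  have h2 := card_step (U62Pres.SubE.step_valid s2) (by decide +kernel) h3
  have h1 := card_step (U62Pres.Hexa.step_valid s1) (by decide +kernel) h2
  have h0 := card_step (U62Pres.Top.step_valid s0) (by decide +kernel) h1
  have e : Subgroup.closure (xgen '' {g | g ∈ U62Pres.Top.step.S}) = ⊤ := by
    rw [← xgen_closure]
    congr 2
    ext g
    show g ∈ [0, 1, 2, 3, 4, 5, 6, 7] ↔ g < 8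
    simp only [List.mem_cons, List.not_mem_nil, or_false]
    omega
  rw [e] at h0
  obtain ⟨hf, hc⟩ := h0
  refine ⟨Finite.of_equiv _ Subgroup.topEquiv.toEquiv, ?_⟩
  rw [Subgroup.card_top] at hc
  refine hc.trans (le_of_eq ?_)
  decide +kernel

theorem pres_finite : Finite Pres := card_pres_le.1

theorem exists_act : ∃ f : Pres →* Equiv.Perm (Fin 693), ∀ g < 8, f (xgen g) = tperm tabP 8 693 g :=
  WordPres.exists_hom (by decide) rels_letters _
    fun r hr => wordVal_tperm_eq_one perm_ok (by decide) hr

/-- The action on the isotropic points. -/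
noncomputable def act' : Pres →* Equiv.Perm (Fin 693) := exists_act.choose

theorem act'_gen : ∀ g < 8, act' (xgen g) = tperm tabP 8 693 g := exists_act.choose_spec

theorem walk {w : List ℕ} (hw : lettersOK w = true) (i : Fin 693) :
    (act' (wordVal xgen w) i).1 = twalk tabP 8 w i.1 := by
  have hw' : ∀ g ∈ w, g < 8 := fun g hg => by
    simpa [Nat.blt_eq] using List.all_eq_true.1 hw g hg
  rw [map_wordVal_tperm xgen act' (by decide) act'_gen hw']
  exact wordVal_tperm perm_ok (by decide) w hw' i

theorem tperm_shift {g : ℕ} (hg : g < 8) :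
    tperm tabP 8 693 g = tperm Fi22U62Pts.tabP 9 693 (g + 1) := by
  refine Equiv.ext fun i => Fin.ext ?_
  rw [tperm_apply perm_ok hg, tperm_apply Fi22U62Pts.perm_ok (show g + 1 < 9 by omega)]
  exact Nat.eq_of_beq_eq_true
    (List.all_eq_true.1 (List.all_eq_true.1 shift_ok i.1 (List.mem_range.2 i.2)) g (List.mem_range.2 hg))

theorem range_act' :
    act'.range = Subgroup.closure (tperm Fi22U62Pts.tabP 9 693 '' {g | g < 9}) := by
  rw [MonoidHom.range_eq_map, ← xgen_closure, MonoidHom.map_closure]
  apply le_antisymm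
  · rw [Subgroup.closure_le]
    rintro _ ⟨_, ⟨g, hg, rfl⟩, rfl⟩
    rw [act'_gen g hg, tperm_shift hg]
    exact Subgroup.subset_closure ⟨g + 1, Nat.succ_lt_succ hg, rfl⟩
  · rw [Subgroup.closure_le]
    rintro _ ⟨g, hg, rfl⟩
    rcases g with _ | g
    · have : tperm Fi22U62Pts.tabP 9 693 0 = 1 := Equiv.ext fun i => Fin.ext (by
        rw [tperm_apply Fi22U62Pts.perm_ok hg]
        exact Nat.eq_of_beq_eq_true (List.all_eq_true.1 base_fix i.1 (List.mem_range.2 i.2)))
      rw [this]
      exact one_mem _
    · have hg' : g < 8 := Nat.lt_of_succ_lt_succ hg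
      refine Subgroup.subset_closure ⟨xgen g, ⟨g, hg', rfl⟩, ?_⟩
      rw [act'_gen g hg', tperm_shift hg']

theorem act'_injective : Function.Injective act' := by
  have := pres_finite
  have h1 : 9196830720 ≤ Nat.card act'.range := range_act' ▸ Cfsg.Agent.S1684.card_points_group
  have h2 := Nat.card_congr (QuotientGroup.quotientKerEquivRange act').toEquiv
  have h3 := Subgroup.card_eq_card_quotient_mul_card_subgroup act'.ker
  have h4 := card_pres_le.2
  rw [← MonoidHom.ker_eq_bot_iff]
  apply Subgroup.eq_bot_of_card_eq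
  have h5 : 0 < Nat.card act'.ker := Nat.card_pos
  by_contra hne
  have h6 : 2 ≤ Nat.card act'.ker := by omega
  have h7 := Nat.mul_le_mul (le_refl (Nat.card act'.range)) h6
  rw [← h2] at h7 h1
  omega

/-- The presented group is PSU(6, 2). -/
theorem nonempty_equiv_psu : Nonempty (Pres ≃* Cfsg.PSU 6 GF4 2) ∧ Nat.card Pres = 9196830720 := by
  obtain ⟨hc, ⟨e⟩⟩ := GF4.equiv_psu Cfsg.Agent.S1684.pt_distinct Cfsg.Agent.S1684.perm_induced
    Cfsg.Agent.S1684.card_points_group
  let e' : Pres ≃* ↥(Subgroup.closure (tperm Fi22U62Pts.tabP 9 693 '' {g | g < 9})) :=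
    (MonoidHom.ofInjective act'_injective).trans (MulEquiv.subgroupCongr range_act')
  exact ⟨⟨e'.trans e⟩, (Nat.card_congr e'.toEquiv).trans hc⟩

theorem center_pres : Subgroup.center Pres = ⊥ := by
  obtain ⟨⟨e⟩, -⟩ := nonempty_equiv_psu
  rw [eq_bot_iff]
  intro a ha
  have : e a ∈ Subgroup.center (Cfsg.PSU 6 GF4 2) := by
    rw [Subgroup.mem_center_iff] at ha ⊢
    intro b
    obtain ⟨c, rfl⟩ := e.surjective b
    rw [← map_mul, ← map_mul, ha c]
  rw [Cfsg.Agent.S1684.center_psu, Subgroup.mem_bot] at this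
  exact Subgroup.mem_bot.2 (e.injective (this.trans (map_one e).symm))

theorem eq_of_sameOn {u v : List ℕ} (h : sameOn u v = true) : wordVal xgen u = wordVal xgen v := by
  simp only [sameOn, Bool.and_eq_true] at h
  obtain ⟨⟨hu, hv⟩, h⟩ := h
  have hget : ∀ (m i : ℕ), sameP u v m i = true → ∀ j, i ≤ j → j < i + m →
      twalk tabP 8 u j = twalk tabP 8 v j := by
    intro m
    induction m with
    | zero => intro i _ j h1 h2; omega
    | succ m ih =>
      intro i hc j h1 h2
      rw [sameP, force_eq, Bool.and_eq_true, Nat.beq_eq] at hc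
      rcases Nat.eq_or_lt_of_le h1 with e | e
      · subst e; exact hc.1
      · exact ih (i + 1) hc.2 j e (by omega)
  refine act'_injective (Equiv.ext fun i => Fin.ext ?_)
  rw [walk hu, walk hv]
  exact hget 693 0 h i.1 (Nat.zero_le _) (by omega)

/-- The route to a point. -/
def route (i : ℕ) : List ℕ := (routes.getD i ([], 0)).1

theorem route_spec {i : ℕ} (hi : i < 693) : lettersOK (route i) = true ∧
    twalk tabP 8 (route i) 664 = i ∧ (i ≠ 664 → ∃ z < 693,
      twalk tabP 8 (confWord (route i)) z ≠ twalk tabP 8 baseWord z) := by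
  have hget : ∀ (l : List (List ℕ × ℕ)) (j : ℕ), routeOK l j = true → j + l.length = 693 ∧
      ∀ a < l.length, lettersOK (l.getD a ([], 0)).1 = true ∧
        twalk tabP 8 (l.getD a ([], 0)).1 664 = j + a ∧ (l.getD a ([], 0)).2 < 693 ∧
        (j + a ≠ 664 → twalk tabP 8 (confWord (l.getD a ([], 0)).1) (l.getD a ([], 0)).2 ≠
          twalk tabP 8 baseWord (l.getD a ([], 0)).2) := by
    intro l
    induction l with
    | nil => intro j h; exact ⟨Nat.eq_of_beq_eq_true h, fun a ha => absurd ha (by simp)⟩
    | cons e l ih =>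
      intro j h
      rw [routeOK, force_eq] at h
      simp only [Bool.and_eq_true, Nat.beq_eq, Nat.blt_eq, Bool.or_eq_true, Bool.not_eq_true',
        and_assoc] at h
      obtain ⟨h1, h2, h3, h4, h5⟩ := h
      obtain ⟨hlen, hall⟩ := ih (j + 1) h5
      refine ⟨by rw [List.length_cons]; omega, fun a ha => ?_⟩
      rcases a with _ | a
      · refine ⟨h1, h2, h3, fun hne hc => ?_⟩
        rcases h4 with h4 | h4
        · exact hne h4
        · rw [show twalk tabP 8 (confWord e.1) e.2 = twalk tabP 8 baseWord e.2 from hc] at h4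
          simp at h4
      · obtain ⟨q1, q2, q3, q4⟩ := hall a (by simpa using ha)
        exact ⟨q1, by rw [List.getD_cons_succ, q2]; omega, q3, fun hne => q4 (by omega)⟩
  obtain ⟨hlen, hall⟩ := hget routes 0 route_ok
  obtain ⟨q1, q2, q3, q4⟩ := hall i (by omega)
  exact ⟨q1, by simpa [route] using q2, fun hne => ⟨_, q3, q4 (by omega)⟩⟩

/-- The transvection at the base point. -/
noncomputable def dvec : Pres := wordVal xgen baseWord

theorem dvec_sq : dvec * dvec = 1 := by
  rw [dvec, ← wordVal_append]
  exact eq_of_sameOn base_sq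

/-- The base point. -/
def basePoint : Fin 693 := ⟨664, by norm_num⟩

theorem wordVal_confWord (w : List ℕ) :
    wordVal xgen (confWord w) = wordVal xgen w * dvec * (wordVal xgen w)⁻¹ := by
  rw [confWord, wordVal_append, wordVal_append, wordVal_reverse xgen_sq, dvec, ← mul_assoc]

theorem route_apply (i : Fin 693) : act' (wordVal xgen (route i.1)) basePoint = i :=
  Fin.ext ((walk (route_spec i.2).1 _).trans (route_spec i.2).2.1)

/-- The listed generators of the stabiliser of the base point. -/
noncomputable def centGrp : Subgroup Pres := Subgroup.closure (wordVal xgen '' {u | u ∈ centWords})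

theorem cent_word {u : List ℕ} (hu : u ∈ centWords) :
    act' (wordVal xgen u) basePoint = basePoint ∧ wordVal xgen u * dvec = dvec * wordVal xgen u ∧
      wordVal xgen u * wordVal xgen u = 1 := by
  have h := List.all_eq_true.1 cent_ok u hu
  simp only [centOK, Bool.and_eq_true, Nat.beq_eq] at h
  obtain ⟨⟨h1, h2⟩, h3⟩ := h
  have hl : lettersOK u = true := by
    simp only [sameOn, lettersOK, Bool.and_eq_true, List.all_append] at h2
    exact h2.1.1.1
  refine ⟨Fin.ext ((walk hl _).trans h1), ?_, ?_⟩
  · have := eq_of_sameOn h2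
    rw [wordVal_append, wordVal_append] at this
    exact this.symm
  · rw [← wordVal_append]
    exact eq_of_sameOn h3

theorem card_centGrp : 9196830720 ≤ 693 * Nat.card centGrp := by
  have := pres_finite
  have hb : BaseOK Fi22U62Pts.tabP 9 693 [Fi22U62Pts.level1, Fi22U62Pts.level2,
      Fi22U62Pts.level3, Fi22U62Pts.level4] :=
    ⟨Fi22U62Pts.nest1_ok, Fi22U62Pts.orbit1_ok, Fi22U62Pts.nest2_ok, Fi22U62Pts.orbit2_ok,
      Fi22U62Pts.nest3_ok, Fi22U62Pts.orbit3_ok, Fi22U62Pts.nest4_ok, Fi22U62Pts.orbit4_ok, trivial⟩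
  have h := base_le (tperm Fi22U62Pts.tabP 9 693) (MonoidHom.id _) Fi22U62Pts.perm_ok (by decide)
    (fun g _ => rfl) hb
  have hle : (Subgroup.closure (wordVal (tperm Fi22U62Pts.tabP 9 693) ''
      {u | u ∈ Fi22U62Pts.words1})).map (MonoidHom.id _) ≤ centGrp.map act' := by
    rw [Subgroup.map_id, Subgroup.closure_le]
    rintro _ ⟨u, hu, rfl⟩
    refine ⟨wordVal xgen (u.map fun g => g - 1), Subgroup.subset_closure ⟨_, ?_, rfl⟩, ?_⟩
    · show _ ∈ centWords
      rw [← cent_old]
      exact List.mem_map.2 ⟨u, hu, rfl⟩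
    · have hlt : ∀ g ∈ u, 0 < g ∧ g < 9 := fun g hg => by
        simpa [Nat.blt_eq] using List.all_eq_true.1 (List.all_eq_true.1 old_pos u hu) g hg
      rw [map_wordVal]
      clear hu
      induction u with
      | nil => rfl
      | cons g w ih =>
        obtain ⟨h1, h2⟩ := hlt g (by simp)
        rw [List.map_cons, wordVal, wordVal, ih fun a ha => hlt a (by simp [ha]), gen, gen,
          if_neg (by simp only [eps]; omega), if_neg (by simp only [eps]; omega),
          act'_gen (g - 1) (by omega), tperm_shift (by omega), Nat.sub_add_cancel h1]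
  have h' := h.trans (Subgroup.card_le_of_le hle)
  have h'' : Nat.card (centGrp.map act') ≤ Nat.card centGrp := by
    refine Nat.card_le_card_of_surjective (fun a : centGrp => (⟨act' a, a, a.2, rfl⟩ : centGrp.map act')) ?_
    rintro ⟨_, a, ha, rfl⟩
    exact ⟨⟨a, ha⟩, rfl⟩
  have hsz : baseSize [Fi22U62Pts.level1, Fi22U62Pts.level2, Fi22U62Pts.level3, Fi22U62Pts.level4] * 693 =
      9196830720 := by decide +kernel
  calc 9196830720 = _ := hsz.symm
    _ ≤ Nat.card centGrp * 693 := Nat.mul_le_mul (h'.trans h'') le_rfl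
    _ = _ := mul_comm _ _

theorem mem_centGrp_of_fix {a : Pres} (ha : act' a basePoint = basePoint) : a ∈ centGrp := by
  have := pres_finite
  let St : Subgroup Pres := (MulAction.stabilizer (Equiv.Perm (Fin 693)) basePoint).comap act'
  have hle : centGrp ≤ St := by
    rw [centGrp, Subgroup.closure_le]
    rintro _ ⟨u, hu, rfl⟩
    exact (cent_word hu).1
  have hinj : Function.Injective fun p : Fin 693 × St => wordVal xgen (route p.1.1) * (p.2 : Pres) := by
    rintro ⟨q, s⟩ ⟨q', s'⟩ h
    have e : ∀ (q : Fin 693) (s : St), act' (wordVal xgen (route q.1) * (s : Pres)) basePoint = q := by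
      intro q s
      rw [map_mul, Equiv.Perm.mul_apply, show act' (s : Pres) basePoint = basePoint from s.2, route_apply]
    have hq : q = q' := (e q s).symm.trans ((congrArg (fun b => act' b basePoint) h).trans (e q' s'))
    subst hq
    exact Prod.ext rfl (Subtype.ext (mul_left_cancel h))
  have h1 := Nat.card_le_card_of_injective _ hinj
  rw [Nat.card_prod, Nat.card_fin, nonempty_equiv_psu.2] at h1
  have h2 := card_centGrp
  have heq : centGrp = St := Subgroup.eq_of_le_of_card_ge hle (by omega)
  rw [heq]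
  exact ha

theorem cent_le {a : Pres} (ha : a ∈ centGrp) : a * dvec = dvec * a := by
  have : centGrp ≤ Subgroup.centralizer {dvec} := by
    rw [centGrp, Subgroup.closure_le]
    rintro _ ⟨u, hu, rfl⟩
    exact Subgroup.mem_centralizer_singleton_iff.2 (cent_word hu).2.1
  exact Subgroup.mem_centralizer_singleton_iff.1 (this ha)

theorem commute_iff_fix (a : Pres) : act' a basePoint = basePoint ↔ a * dvec = dvec * a := by
  refine ⟨fun h => cent_le (mem_centGrp_of_fix h), fun h => ?_⟩
  by_contra hne
  obtain ⟨hl, -, hw⟩ := route_spec (act' a basePoint).2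
  obtain ⟨z, hz, hzne⟩ := hw fun e => hne (Fin.ext e)
  set m := wordVal xgen (route (act' a basePoint).1)
  have hfix : act' (m⁻¹ * a) basePoint = basePoint := by
    rw [map_mul, map_inv, Equiv.Perm.mul_apply, Equiv.Perm.inv_def, Equiv.symm_apply_eq]
    exact (route_apply _).symm
  have hm : m⁻¹ * a * dvec = dvec * (m⁻¹ * a) := cent_le (mem_centGrp_of_fix hfix)
  have hmd : m * dvec * m⁻¹ = dvec := by
    rw [mul_inv_eq_iff_eq_mul]
    calc m * dvec = m * (dvec * (m⁻¹ * a)) * (m⁻¹ * a)⁻¹ := by group
      _ = m * (m⁻¹ * a * dvec) * (m⁻¹ * a)⁻¹ := by rw [hm]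
      _ = a * dvec * (a⁻¹ * m) := by group
      _ = dvec * a * (a⁻¹ * m) := by rw [h]
      _ = dvec * m := by group
  rw [← wordVal_confWord] at hmd
  apply hzne
  have hcl : lettersOK (confWord (route (act' a basePoint).1)) = true := by
    simp only [confWord, lettersOK, List.all_append, List.all_reverse, Bool.and_eq_true]
    exact ⟨⟨hl, base_letters⟩, hl⟩
  rw [← walk hcl ⟨z, hz⟩, ← walk base_letters ⟨z, hz⟩, hmd]
  rfl

/-- The action on the transvections. -/
noncomputable def transAct : TransAct Pres 693 where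
  f := act'
  inj := act'_injective
  d := dvec
  p₀ := basePoint
  trans p := ⟨_, route_apply p⟩
  stab := commute_iff_fix

/-- The table of the action. -/
noncomputable def transTab : TransTable Pres 693 where
  toTransAct := transAct
  x := xgen
  Z := tabP
  k := 8
  R := rels
  perm := perm_ok
  k_le := by decide
  f_gen := act'_gen
  gen := xgen_closure
  sq := xgen_sq
  pts := pts
  pts_spec g hg := by
    have h := pts_ok
    simp only [Bool.and_eq_true, List.all_eq_true, List.mem_range, Nat.blt_eq, Nat.beq_eq] at h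
    obtain ⟨hlt, hsame⟩ := h.2 g hg
    refine ⟨hlt, ?_⟩
    have e := eq_of_sameOn hsame
    rw [wordVal_confWord, show wordVal xgen [g] = xgen g by
      simp [wordVal, gen, show g ≠ eps by simp only [eps]; omega]] at e
    rw [← e]
    exact (congrArg transAct.delta (route_apply ⟨pts.getD g 0, hlt⟩).symm).trans
      (transAct.delta_move (wordVal xgen (route (pts.getD g 0))))

/-- An element of the class has perfect centraliser. -/
theorem centralizer_perfect : Subgroup.centralizer ({dvec} : Set Pres) ≤
    ⁅Subgroup.centralizer ({dvec} : Set Pres), Subgroup.centralizer ({dvec} : Set Pres)⁆ := by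
  have hC : Subgroup.centralizer ({dvec} : Set Pres) = centGrp := by
    ext a
    rw [Subgroup.mem_centralizer_singleton_iff]
    exact ⟨fun h => mem_centGrp_of_fix ((commute_iff_fix a).2 h), cent_le⟩
  rw [hC]
  have hmem : ∀ i, wordVal xgen (centWords.getD i []) ∈ centGrp := by
    intro i
    rcases Nat.lt_or_ge i centWords.length with h | h
    · rw [List.getD_eq_getElem _ _ h]
      exact Subgroup.subset_closure ⟨_, List.getElem_mem h, rfl⟩
    · rw [List.getD_eq_default _ _ h]
      exact one_mem _
  let z : ℕ → centGrp := fun i => ⟨_, hmem i⟩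
  let ψ : centGrp →* Abelianization centGrp := Abelianization.of
  have hlen : centWords.length = 8 := by decide +kernel
  have hsq : ∀ i < 8, ψ (z i) * ψ (z i) = 1 := fun i hi => by
    rw [← map_mul, show z i * z i = 1 from Subtype.ext (cent_word
      (show centWords.getD i [] ∈ centWords by
        rw [List.getD_eq_getElem _ _ (by omega)]; exact List.getElem_mem _)).2.2, map_one]
  have hpair : ∀ p ∈ braidTree, ψ (z p.1) = ψ (z p.2) := by
    intro p hp
    have h := List.all_eq_true.1 braid_ok p hp
    simp only [Bool.and_eq_true, Nat.blt_eq] at h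
    obtain ⟨⟨h1, h2⟩, h3⟩ := h
    have e := eq_of_sameOn h3
    simp only [wordVal_append] at e
    have e' : (z p.2 * z p.1) * ((z p.2 * z p.1) * (z p.2 * z p.1)) = 1 := Subtype.ext e
    have e'' := congrArg ψ e'
    simp only [map_mul, map_one] at e''
    have e3 : ψ (z p.2) * ψ (z p.1) = 1 := by
      calc ψ (z p.2) * ψ (z p.1)
          = ψ (z p.2) * ψ (z p.1) * ((ψ (z p.2) * ψ (z p.2)) * (ψ (z p.1) * ψ (z p.1))) := by
            rw [hsq _ h1, hsq _ h2, one_mul, mul_one]
        _ = 1 := by
            rw [mul_mul_mul_comm (ψ (z p.2)) (ψ (z p.2))]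
            exact e''
    rw [eq_inv_of_mul_eq_one_right e3, inv_eq_of_mul_eq_one_left (hsq _ h2)]
  have htree : braidTree = [(1, 0), (7, 0), (2, 1), (5, 1), (3, 7), (4, 7), (6, 7)] := by decide +kernel
  rw [htree] at hpair
  simp only [List.mem_cons, List.not_mem_nil, or_false, forall_eq_or_imp, forall_eq] at hpair
  obtain ⟨b1, b7, b2, b5, b3, b4, b6⟩ := hpair
  have hall : ∀ i < 8, ψ (z i) = ψ (z 0) := by
    intro i hi
    interval_cases i
    exacts [rfl, b1, b2.trans b1, b3.trans b7, b4.trans b7, b5.trans b1, b6.trans b7, b7]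
  have hodd := odd_ok
  simp only [Bool.and_eq_true, Nat.beq_eq, List.all_eq_true, Nat.blt_eq] at hodd
  obtain ⟨⟨hsame, hlenodd⟩, hoddlt⟩ := hodd
  have hval : ∀ s : List ℕ, (∀ i ∈ s, i < 8) →
      ((wordVal z s : centGrp) : Pres) = wordVal xgen (s.flatMap fun i => centWords.getD i []) ∧
        ψ (wordVal z s) = ψ (z 0) ^ s.length := by
    intro s
    induction s with
    | nil => intro _; exact ⟨rfl, by simp [wordVal]⟩
    | cons i s ih =>
      intro hs
      obtain ⟨ih1, ih2⟩ := ih fun a ha => hs a (by simp [ha])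
      have hi := hs i (by simp)
      have hgen : gen z i = z i := by rw [gen, if_neg (by simp only [eps]; omega)]
      refine ⟨?_, ?_⟩
      · rw [wordVal, hgen, List.flatMap_cons, wordVal_append, Subgroup.coe_mul, ih1]
      · rw [wordVal, hgen, map_mul, ih2, hall i hi, List.length_cons, pow_succ]
  have h0 : ψ (z 0) = 1 := by
    obtain ⟨e1, e2⟩ := hval oddWord hoddlt
    rw [eq_of_sameOn hsame] at e1
    rw [show wordVal z oddWord = 1 from Subtype.ext e1, map_one,
      ← Nat.div_add_mod oddWord.length 2, hlenodd, pow_succ, pow_mul, pow_two, hsq 0 (by decide),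
      one_pow, one_mul] at e2
    exact e2.symm
  calc centGrp ≤ (commutator centGrp).map centGrp.subtype := by
        nth_rewrite 1 [centGrp]
        rw [Subgroup.closure_le]
        rintro _ ⟨u, hu, rfl⟩
        obtain ⟨i, hi, rfl⟩ := List.getElem_of_mem hu
        refine ⟨z i, ?_, congrArg (wordVal xgen) (List.getD_eq_getElem _ _ hi)⟩
        rw [SetLike.mem_coe, ← Abelianization.ker_of, MonoidHom.mem_ker]
        exact (hall i (by omega)).trans h0
    _ = ⁅centGrp, centGrp⁆ := Subgroup.map_subtype_commutator centGrp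

end Cfsg.Lib.CosetEnum.U62Mult
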