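import Cfsg.Agent.Lib.CosetEnum.Groups.U62Group
import Cfsg.Agent.Lib.CosetEnum.Trans.StemBound
import Cfsg.Agent.Lib.CosetEnum.U62Mult.ProgCheck
import Cfsg.Agent.Lib.CosetEnum.U62Mult.ThreeHom
import Cfsg.Prelude.Def_KGroupFacts

/-!
# The bound on stem extensions of PSU(6, 2)
-/

set_option autoImplicit false
set_option maxRecDepth 100000

namespace Cfsg.Lib.CosetEnum.U62Mult

theorem stem_ker {E : Type} [Group E] (σ : E →* Pres) (hσ : Cfsg.IsStemExtension σ) :
    ∃ p : Multiplicative (ZMod 3 × ZMod 2 × ZMod 2) →* σ.ker, Function.Surjective p := by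
  obtain ⟨hsurj, hker, hcomm⟩ := hσ
  obtain ⟨Q, _, π, ι, hπ, hι, hcomp, ⟨L⟩⟩ :=
    transTab.exists_lifts hsurj hker dvec_sq centralizer_perfect
  have hk0 : 0 < transTab.k := Nat.succ_pos _
  have hws : words.all (fun w => w.all fun g => Nat.blt g transTab.k) = true := words_ok
  have hlt : ∀ r ∈ rels, ∀ g ∈ r, g < transTab.k := fun r hr g hg => by
    have h := List.all_eq_true.1 (List.all_eq_true.1 rels_letters r hr) g hg
    rw [Nat.blt_eq] at h
    exact h
  have hproj : ∀ r ∈ rels, π (wordVal L.y r) = 1 := fun r hr => by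
    rw [L.proj_word (hlt r hr)]
    exact xgen_rel r hr
  have mConj : relConj ∈ rels := List.mem_append_right _ (by simp)
  have mCw : relCw ∈ rels := List.mem_append_right _ (by simp)
  have mX : relX ∈ rels := List.mem_append_right _ (by simp)
  have mCox : relCox ∈ rels := List.mem_append_right _ (by simp)
  have mHex : relHex ∈ rels := List.mem_append_right _ (by simp)
  have hbd : ∀ r ∈ rels, ∀ i ∈ seqOf pts r, i < 693 := fun r hr =>
    transTab.seqOf_lt (w := r) (hlt r hr)
  have hsq : ∀ {r : List ℕ} {P : List (ℕ × ℕ)}, r ∈ rels →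
      runSeq tabP 8 (pts.getD 0 0) words P (seqOf pts r ++ seqOf pts r) [] = true →
      wordVal L.y r ^ 2 = 1 := by
    intro r P hr h
    have h' := L.run_prod hk0 hws (q := seqOf pts r ++ seqOf pts r) (r := []) (ops := P)
      (fun i hi => by
        simp only [List.mem_append, or_self] at hi
        exact hbd r hr i hi) h
    rw [L.prodSeq_append] at h'
    rw [pow_two, L.wordVal_y (hlt r hr)]
    exact h'.symm
  set a := wordVal L.y relX
  set b := wordVal L.y relCw
  set c := wordVal L.y relHex
  set F := wordVal L.y relCox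
  have ha : a ^ 2 = 1 := hsq mX x_run
  have hb : b ^ 2 = 1 := hsq mCw cw_run
  have hF2 : F ^ 2 = 1 := hsq mCox cox_run
  have hc : c ^ 3 = 1 := by
    have h' := L.run_prod hk0 hws
      (q := seqOf pts relHex ++ seqOf pts relHex ++ seqOf pts relHex) (r := []) (ops := progHex)
      (fun i hi => by
        simp only [List.mem_append, or_self] at hi
        exact hbd _ mHex i hi) hex_run
    rw [L.prodSeq_append, L.prodSeq_append] at h'
    rw [show c = L.prodSeq (seqOf pts relHex) from L.wordVal_y (hlt _ mHex), pow_succ, pow_two]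
    exact h'.symm
  have hconj : wordVal L.y relConj = 1 := by
    have h' := L.run_prod hk0 hws (q := seqOf pts relConj) (r := []) (ops := progConj) (hbd _ mConj) conj_run
    rw [L.wordVal_y (hlt _ mConj)]
    exact h'.symm
  have hcen : ∀ r ∈ rels, ∀ q : Q, Commute (wordVal L.y r) q := fun r hr q =>
    (Subgroup.mem_center_iff.1 (hπ (MonoidHom.mem_ker.2 (hproj r hr))) q).symm
  set φ := threeHom hc ha hb (hcen _ mHex a) (hcen _ mHex b) (hcen _ mX b) with hφ
  have hKπ : φ.range ≤ π.ker := by
    rintro _ ⟨t, rfl⟩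
    show c ^ _ * (a ^ _ * b ^ _) ∈ π.ker
    exact mul_mem (pow_mem (MonoidHom.mem_ker.2 (hproj _ mHex)) _)
      (mul_mem (pow_mem (MonoidHom.mem_ker.2 (hproj _ mX)) _)
        (pow_mem (MonoidHom.mem_ker.2 (hproj _ mCw)) _))
  have hcK : c ∈ φ.range := ⟨Multiplicative.ofAdd (1, 0, 0), by
    show c ^ 1 * (a ^ 0 * b ^ 0) = c
    simp⟩
  have haK : a ∈ φ.range := ⟨Multiplicative.ofAdd (0, 1, 0), by
    show c ^ 0 * (a ^ 1 * b ^ 0) = a
    simp⟩
  have hbK : b ∈ φ.range := ⟨Multiplicative.ofAdd (0, 0, 1), by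
    show c ^ 0 * (a ^ 0 * b ^ 1) = b
    simp⟩
  have hsmall := transTab.ker_commutator_le hπ L hKπ (R := rels) (F := F)
    (fun M _ y hy hrely => by
      obtain ⟨s, hs⟩ := WordPres.exists_hom (M := M) (by decide) rels_letters y hrely
      exact ⟨s, hs⟩)
    (hproj _ mCox) (by rw [← pow_two, hF2]; exact one_mem _)
    (fun r hr => by
      refine ⟨hlt r hr, ?_⟩
      have hev : ∀ m : ℕ, Even m → F ^ m = 1 := by
        rintro m ⟨l, rfl⟩
        rw [← two_mul, pow_mul, hF2, one_pow]
      simp only [rels, List.mem_append, List.mem_cons, List.not_mem_nil, or_false] at hr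
      rcases hr with hr | rfl | rfl | rfl | rfl | rfl | rfl
      · obtain ⟨e, hm, -⟩ := L.evens hk0 hws pairs_run r hr
        rw [e, hev _ hm, one_mul]
        exact one_mem _
      · rw [hev _ (by decide +kernel), hconj, one_mul]
        exact one_mem _
      · rw [hev _ (by decide +kernel), one_mul]; exact hbK
      · rw [hev _ (by decide +kernel), one_mul]; exact haK
      · rw [show relCox.length = 2 * 31 + 1 by decide +kernel, pow_succ, pow_mul, hF2, one_pow, one_mul,
          show F * wordVal L.y relCox = F ^ 2 from (pow_two F).symm, hF2]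
        exact one_mem _
      · rw [hev _ (by decide +kernel), one_mul]; exact hcK
      · simp [wordVal, one_mem])
  refine exists_surjective_six σ.ker ι hι hc ha hb _ _ _ fun e he => hsmall ⟨?_, ?_⟩
  · show π (ι e) = 1
    rw [← MonoidHom.comp_apply, hcomp]
    exact he
  · have : (commutator E).map ι ≤ commutator Q := by
      rw [commutator_def, Subgroup.map_commutator, commutator_def]
      exact Subgroup.commutator_mono le_top le_top
    exact this ⟨e, hcomm he, rfl⟩

end Cfsg.Lib.CosetEnum.U62Mult
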