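import Cfsg.Agent.Lib.CosetEnum.WordPres
import Cfsg.Agent.Lib.CosetEnum.Y555Fi23.Words
import Cfsg.Agent.Lib.CosetEnum.Y5Spider.Valid
import Cfsg.Agent.Lib.CosetEnum.Y5SpiderBase.Data
import Cfsg.Agent.Lib.CosetEnum.Y5Chain3.Valid
import Cfsg.Agent.Lib.CosetEnum.Y5Chain4.Valid
import Cfsg.Agent.Lib.CosetEnum.Y5Chain5.Valid
import Cfsg.Agent.Lib.CosetEnum.Y5Chain6.Valid
import Cfsg.Agent.Lib.CosetEnum.Y5Chain7.Valid
import Cfsg.Agent.Lib.CosetEnum.Y5Chain8.Valid

/-!
# The two spiders of a diagram `Y₂₂₂`

On the seven nodes `a; b c; p q; r s` the spider relation for one cyclic order of the arms implies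
the one for the other order.
-/

set_option autoImplicit false
set_option maxRecDepth 100000

namespace Cfsg.Lib.CosetEnum.Y555Spider

/-- The group on seven nodes. -/
abbrev P7 : Type := WordPres.Grp 7 Y5Spider.baseWords

/-- The generators. -/
def y : ℕ → P7 := WordPres.gens 7 Y5Spider.baseWords

theorem y_mul_self : ∀ g, y g * y g = 1 :=
  WordPres.gens_mul_self (by decide) (by decide +kernel)

/-- The names of the seven nodes among eleven. -/
def idx (g : ℕ) : ℕ := [0, 1, 2, 7, 7, 7, 3, 4, 7, 5, 6].getD g 7

/-- The base used for the lower bound. -/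
def levels : List BaseLevel :=
  [Y5SpiderBase.level0, Y5SpiderBase.level1, Y5SpiderBase.level2, Y5SpiderBase.level3,
    Y5SpiderBase.level4]

theorem base_ok : BaseOK Y5Spider.tabP 7 243 levels :=
  ⟨by decide +kernel, by decide +kernel, by decide +kernel, by decide +kernel, by decide +kernel,
    by decide +kernel, by decide +kernel, by decide +kernel, by decide +kernel, by decide +kernel,
    trivial⟩

theorem baseSize_levels : baseSize levels = 243 * 51840 := by decide +kernel

theorem spider_ok : permOK Y5Spider.tabP 7 243 [Y5SpiderBase.spiderT] 243 0 = true := by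
  decide +kernel

/-- The words of the six nodes among the relators on eleven. -/
def sixWords : List (List ℕ) :=
  Y555Fi23.relWords.filter fun r => r.all fun g => [0, 1, 2, 6, 7, 9].contains g

theorem six_card : Finite (Subgroup.closure ((fun g => y (idx g)) '' {g | g ∈ Y5Chain3.step.S})) ∧
    Nat.card (Subgroup.closure ((fun g => y (idx g)) '' {g | g ∈ Y5Chain3.step.S})) ≤ 51840 := by
  have hx : ∀ g, (fun g => y (idx g)) g * (fun g => y (idx g)) g = 1 := fun g => y_mul_self _
  have hrel : ∀ r ∈ sixWords, wordVal (fun g => y (idx g)) r = 1 := by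
    intro r hr
    rw [WordPres.wordVal_map y (k := 11) (by decide) idx (by decide +kernel) r
      ((show ∀ r ∈ sixWords, ∀ g ∈ r, g < 11 by decide +kernel) r hr)]
    exact shift_eq_one y_mul_self (R0 := Y5Spider.baseWords) (R := sixWords.map fun r => r.map idx)
      (by decide +kernel) WordPres.wordVal_gens _ (List.mem_map_of_mem hr)
  have v3 : Y5Chain3.step.Valid sixWords := Y5Chain3.step_valid (by decide +kernel)
  have v4 : Y5Chain4.step.Valid sixWords := Y5Chain4.step_valid (by decide +kernel)
  have v5 : Y5Chain5.step.Valid sixWords := Y5Chain5.step_valid (by decide +kernel)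
  have v6 : Y5Chain6.step.Valid sixWords := Y5Chain6.step_valid (by decide +kernel)
  have v7 : Y5Chain7.step.Valid sixWords := Y5Chain7.step_valid (by decide +kernel)
  have v8 : Y5Chain8.step.Valid sixWords := Y5Chain8.step_valid (by decide +kernel)
  have c8 := v8.card_le hx hrel (K := ⊥) (by simp [Y5Chain8.step, Y5Chain8.subWords])
    inferInstance (m := 1) (by rw [Subgroup.card_bot])
  have c7 := v7.card_le hx hrel (inLetters_mem _ (S := Y5Chain8.step.S) (by decide +kernel)) c8.1 c8.2
  have c6 := v6.card_le hx hrel (inLetters_mem _ (S := Y5Chain7.step.S) (by decide +kernel)) c7.1 c7.2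
  have c5 := v5.card_le hx hrel (inLetters_mem _ (S := Y5Chain6.step.S) (by decide +kernel)) c6.1 c6.2
  have c4 := v4.card_le hx hrel (inLetters_mem _ (S := Y5Chain5.step.S) (by decide +kernel)) c5.1 c5.2
  obtain ⟨h1, h2⟩ :=
    v3.card_le hx hrel (inLetters_mem _ (S := Y5Chain4.step.S) (by decide +kernel)) c4.1 c4.2
  exact ⟨h1, h2.trans (by decide +kernel)⟩

theorem spiderT_gens : wordVal y Y5SpiderBase.spiderT = 1 := by
  obtain ⟨f, hf⟩ := WordPres.exists_hom (k := 7) (R := Y5Spider.baseWords) (by decide)
    (by decide +kernel) (tperm Y5Spider.tabP 7 243) Y5Spider.cert_valid.tperm_rel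
  replace hf : ∀ g < 7, f (y g) = tperm Y5Spider.tabP 7 243 g := hf
  obtain ⟨hidx, -⟩ := Y5Spider.cert_valid.index_eq y_mul_self (WordPres.closure_gens _ _)
    WordPres.wordVal_gens f hf (K := Subgroup.closure (wordVal y '' {u | u ∈ Y5Spider.subWords}))
    rfl
  obtain ⟨hfin, hcard⟩ := six_card
  set L := Subgroup.closure ((fun g => y (idx g)) '' {g | g ∈ Y5Chain3.step.S})
  set K := Subgroup.closure (wordVal y '' {u | u ∈ Y5Spider.subWords})
  replace hidx : K.index = 243 := hidx
  have hKL : K ≤ L := by
    rw [Subgroup.closure_le]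
    rintro _ ⟨u, hu, rfl⟩
    obtain ⟨g, hg, he, rfl⟩ := (show ∀ u ∈ Y5Spider.subWords, ∃ g ∈ Y5Chain3.step.S,
      idx g ≠ eps ∧ [idx g] = u by decide +kernel) u hu
    exact Subgroup.subset_closure ⟨g, hg, by simp [wordVal, gen, he]⟩
  have : Finite K := Finite.of_injective _ (Subgroup.inclusion_injective hKL)
  have hle : Nat.card P7 ≤ baseSize levels := by
    rw [baseSize_levels, ← Subgroup.card_mul_index K, hidx, mul_comm 243]
    exact Nat.mul_le_mul ((Subgroup.card_le_of_le hKL).trans hcard) le_rfl
  have : Finite P7 := Nat.finite_of_card_ne_zero (by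
    rw [← Subgroup.card_mul_index K, hidx]
    exact mul_ne_zero Nat.card_pos.ne' (by decide))
  obtain ⟨-, hinj⟩ := card_eq_of_base y f Y5Spider.cert_valid.perm (by decide) hf base_ok hle
  refine hinj ?_
  refine ((map_wordVal_tperm y f (by decide) hf
    (show ∀ g ∈ Y5SpiderBase.spiderT, g < 7 by decide +kernel)).trans ?_).trans (map_one f).symm
  exact wordVal_tperm_eq_one spider_ok (by decide) (List.mem_singleton_self _)

/-- One spider gives the other. -/
theorem spiderT_eq_one {M : Type*} [Group M] (z : ℕ → M)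
    (hrel : ∀ r ∈ Y5Spider.baseWords, wordVal z r = 1) :
    wordVal z Y5SpiderBase.spiderT = 1 := by
  obtain ⟨φ, hφ⟩ := WordPres.exists_hom (k := 7) (R := Y5Spider.baseWords) (by decide)
    (by decide +kernel) z hrel
  replace hφ : ∀ g < 7, φ (y g) = z g := hφ
  have hind : ∀ w : List ℕ, (∀ g ∈ w, g < 7) → φ (wordVal y w) = wordVal z w := by
    intro w
    induction w with
    | nil => intro _; exact map_one φ
    | cons g w ih =>
      intro h
      have hg : g < 7 := h g (by simp)
      rw [wordVal, wordVal, map_mul, ih fun a ha => h a (by simp [ha]), gen, gen,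
        if_neg (by simp only [eps]; omega), if_neg (by simp only [eps]; omega), hφ g hg]
  rw [← hind _ (by decide +kernel), spiderT_gens, map_one]

end Cfsg.Lib.CosetEnum.Y555Spider
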