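import Cfsg.Agent.Lib.CosetEnum.WordPres
import Cfsg.Agent.Lib.CosetEnum.Groups.Y555Spider
import Cfsg.Agent.Lib.CosetEnum.Groups.Fi23Simple
import Cfsg.Agent.Lib.CosetEnum.Central
import Cfsg.Agent.Lib.CosetEnum.Fi23Centre.Valid
import Cfsg.Agent.Lib.CosetEnum.Y555Fi23.Words
import Cfsg.Agent.Lib.CosetEnum.Y555Fi23.Valid
import Cfsg.Agent.Lib.CosetEnum.Y5Full.Valid
import Cfsg.Agent.Lib.CosetEnum.Y5Chain0.Valid
import Cfsg.Agent.Lib.CosetEnum.Y5Chain1.Valid
import Cfsg.Agent.Lib.CosetEnum.Y5Chain2.Valid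
import Cfsg.Agent.Lib.CosetEnum.Y5Chain3.Valid
import Cfsg.Agent.Lib.CosetEnum.Y5Chain4.Valid
import Cfsg.Agent.Lib.CosetEnum.Y5Chain5.Valid
import Cfsg.Agent.Lib.CosetEnum.Y5Chain6.Valid
import Cfsg.Agent.Lib.CosetEnum.Y5Chain7.Valid
import Cfsg.Agent.Lib.CosetEnum.Y5Chain8.Valid

/-!
# The end node of a diagram `Y₅₃₂` with a spider relation

In the group on the eleven nodes `a; b c d e f; p q t; r s` subject to the Coxeter relations and the
spider, the subgroup on the ten nodes other than `f` is everything and is a double cover of Fi23;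
this identifies `f` with the ninth power of a Coxeter element of type `E₇`.
-/

set_option autoImplicit false
set_option maxRecDepth 100000

namespace Cfsg.Lib.CosetEnum.Y555Fi23

open Cfsg.Spor

/-- The group on eleven nodes. -/
abbrev P11 : Type := WordPres.Grp 11 relWords

/-- The generators. -/
def y : ℕ → P11 := WordPres.gens 11 relWords

theorem y_mul_self : ∀ g, y g * y g = 1 :=
  WordPres.gens_mul_self (by decide) (by decide +kernel)

theorem wordVal_y : ∀ r ∈ relWords, wordVal y r = 1 := WordPres.wordVal_gens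

theorem closure_y : Subgroup.closure (y '' {g | g < 11}) = ⊤ := WordPres.closure_gens _ _

/-- The numbers of the nodes in Fi23; the node `5` has none. -/
def σ (g : ℕ) : ℕ := [3, 4, 5, 6, 7, 10, 2, 1, 0, 8, 9].getD g eps

/-- The nodes with numbers of generators of Fi23. -/
def τ (g : ℕ) : ℕ := [8, 7, 6, 0, 1, 2, 3, 4, 9, 10].getD g eps

/-- The other ninth power, trivial in Fi23. -/
def ztWord : List ℕ := (Fi23Pres.extra.getD 1 []).map τ

/-- The generators of Fi23. -/
def x23 : ℕ → Cfsg.Spor.Fi23 := Fi23Pres.numbering.gens Fi23.extra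

theorem x23_mul_self : ∀ g, x23 g * x23 g = 1 := Fi23Pres.numbering.gens_mul_self Fi23.extra

theorem R0_eq : Fi23Fi22.cert.R0 = Fi23Pres.numbering.pairs ++ Fi23Pres.extra := by decide +kernel

theorem x23_rel : ∀ r ∈ Fi23Fi22.cert.R0, wordVal x23 r = 1 := fun r hr =>
  Fi23Pres.numbering.wordVal_gens (by decide) (Fi23Pres.map_extra x23 x23_mul_self) r (R0_eq ▸ hr)

/-- The subgroup of Fi23 on nine letters, the image of the central word, and its properties. -/
theorem fi23_facts :
    ∃ zc : Cfsg.Spor.Fi23, zc * zc = 1 ∧ (∀ g ∈ Fi23Centre.letters, x23 g * zc = zc * x23 g) ∧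
      (zc * x23 7) ^ 3 = 1 ∧ zc = wordVal x23 Fi23Centre.centreWord ∧
      wordVal x23 e7Fi23 = zc ∧
      (Subgroup.closure (wordVal x23 '' {u | u ∈ Fi23Fi22.subWords})).index = 31671 := by
  let N := Fi23Pres.numbering
  have hk : N.k ≤ eps := by decide
  obtain ⟨f, hf⟩ : ∃ f : Cfsg.Spor.Fi23 →* Equiv.Perm (Fin 31671),
      ∀ g < 10, f (x23 g) = tperm Fi23Fi22.tabP 10 31671 g :=
    N.exists_hom hk Fi23.extra Fi23Fi22.cert_valid R0_eq rfl
      (Fi23Pres.map_extra _ fun g => tperm_mul_self _ _ _ g)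
  have hperm : permOK Fi23Fi22.tabP 10 31671 Fi23Fi22.cert.R1 31671 0 = true :=
    Fi23Fi22.cert_valid.perm
  have : IsSimpleGroup Cfsg.Spor.Fi23 := Fi23Pres.isFi23.1
  have hinj : Function.Injective f := by
    rw [← MonoidHom.ker_eq_bot_iff]
    refine (f.normal_ker.eq_bot_or_eq_top).resolve_right fun h => ?_
    have h7 : f (x23 7) = 1 := f.mem_ker.1 (h ▸ Subgroup.mem_top _)
    have := congrArg (fun σ : Equiv.Perm (Fin 31671) => (σ ⟨0, by decide⟩).1) h7
    replace this : (f (x23 7) ⟨0, by decide⟩).1 = 0 := this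
    rw [hf 7 (by decide)] at this
    rw [tperm_apply hperm (by decide)] at this
    exact absurd this (show img Fi23Fi22.tabP 10 7 0 ≠ 0 by decide +kernel)
  obtain ⟨hz2, hcomm, -⟩ := centre_word x23 f hinj (k := 10) hperm (by decide) hf
    Fi23Centre.centre_ok (by decide +kernel) (by decide +kernel)
  have hT : ∀ i : Fin 31671, (f (wordVal x23 Fi23Centre.centreWord) i).1 =
      Fi23Centre.tabT.getP i.1 := fun i => by
    rw [map_wordVal_tperm x23 f (Z := Fi23Fi22.tabP) (k := 10) (by decide) hf (by decide +kernel)]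
    rw [wordVal_tperm hperm (by decide) _ (by decide +kernel),
      (centreOK_get Fi23Centre.centre_ok i.1 (Nat.zero_le _) (by omega)).2.2.1]
  refine ⟨_, hz2, hcomm, hinj ?_, rfl, hinj ?_, ?_⟩
  · ext i
    obtain ⟨-, h2⟩ := sameOK_get same_ok i.1 (Nat.zero_le _) (by omega)
    have h7 : ∀ j : Fin 31671, (f (x23 7) j).1 = img Fi23Fi22.tabP 10 7 j.1 := fun j => by
      rw [hf 7 (by decide)]; exact tperm_apply hperm (by decide) j
    simp only [pow_succ, pow_zero, one_mul, map_mul, map_one, Equiv.Perm.mul_apply,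
      Equiv.Perm.one_apply, hT, h7]
    exact h2
  · ext i
    rw [hT, map_wordVal_tperm x23 f (Z := Fi23Fi22.tabP) (k := 10) (by decide) hf (by decide +kernel),
      wordVal_tperm hperm (by decide) _ (by decide +kernel)]
    exact (sameOK_get same_ok i.1 (Nat.zero_le _) (by omega)).1
  · exact (Fi23Fi22.cert_valid.index_eq x23_mul_self (N.closure_gens Fi23.extra) x23_rel f hf rfl).1

/-- The seven inner nodes with two arms exchanged. -/
def σ7 (g : ℕ) : ℕ := [0, 6, 7, 1, 2, 9, 10].getD g eps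

theorem rels_both : ∀ r ∈ relWords ++ [spiderWord], wordVal y r = 1 := by
  intro r hr
  rcases List.mem_append.1 hr with hr | hr
  · exact wordVal_y r hr
  rw [List.mem_singleton] at hr
  subst hr
  have hlt : ∀ w ∈ Y5Spider.baseWords ++ [Y5SpiderBase.spiderT], ∀ g ∈ w, g < 7 := by
    decide +kernel
  have h := Y555Spider.spiderT_eq_one (fun g => y (σ7 g)) (fun w hw => by
    rw [WordPres.wordVal_map y (k := 7) (by decide) σ7 (by decide +kernel) w
      (hlt w (List.mem_append_left _ hw))]
    exact shift_eq_one y_mul_self (R := Y5Spider.baseWords.map fun w => w.map σ7)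
      (by decide +kernel) wordVal_y _ (List.mem_map_of_mem hw))
  rw [WordPres.wordVal_map y (k := 7) (by decide) σ7 (by decide +kernel) _
      (hlt _ (List.mem_append_right _ (List.mem_singleton_self _)))] at h
  exact shift_eq_one y_mul_self (R0 := [Y5SpiderBase.spiderT.map σ7]) (R := [spiderWord])
    (by decide +kernel) (by simpa using h) _ (List.mem_singleton_self _)

theorem chain_card : Finite (Subgroup.closure (y '' {g | g ∈ Y5Chain0.step.S})) ∧
    Nat.card (Subgroup.closure (y '' {g | g ∈ Y5Chain0.step.S})) ≤ 258247006617600 := by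
  have hx := y_mul_self
  have hrel := wordVal_y
  have v0 : Y5Chain0.step.Valid relWords := Y5Chain0.step_valid (by decide +kernel)
  have v1 : Y5Chain1.step.Valid (relWords ++ [spiderWord]) := Y5Chain1.step_valid (by decide +kernel)
  have v2 : Y5Chain2.step.Valid relWords := Y5Chain2.step_valid (by decide +kernel)
  have v3 : Y5Chain3.step.Valid relWords := Y5Chain3.step_valid (by decide +kernel)
  have v4 : Y5Chain4.step.Valid relWords := Y5Chain4.step_valid (by decide +kernel)
  have v5 : Y5Chain5.step.Valid relWords := Y5Chain5.step_valid (by decide +kernel)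
  have v6 : Y5Chain6.step.Valid relWords := Y5Chain6.step_valid (by decide +kernel)
  have v7 : Y5Chain7.step.Valid relWords := Y5Chain7.step_valid (by decide +kernel)
  have v8 : Y5Chain8.step.Valid relWords := Y5Chain8.step_valid (by decide +kernel)
  have c8 := v8.card_le hx hrel (K := ⊥) (by simp [Y5Chain8.step, Y5Chain8.subWords])
    inferInstance (m := 1) (by rw [Subgroup.card_bot])
  have c7 := v7.card_le hx hrel (inLetters_mem y (S := Y5Chain8.step.S) (by decide +kernel)) c8.1 c8.2
  have c6 := v6.card_le hx hrel (inLetters_mem y (S := Y5Chain7.step.S) (by decide +kernel)) c7.1 c7.2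
  have c5 := v5.card_le hx hrel (inLetters_mem y (S := Y5Chain6.step.S) (by decide +kernel)) c6.1 c6.2
  have c4 := v4.card_le hx hrel (inLetters_mem y (S := Y5Chain5.step.S) (by decide +kernel)) c5.1 c5.2
  have c3 := v3.card_le hx hrel (inLetters_mem y (S := Y5Chain4.step.S) (by decide +kernel)) c4.1 c4.2
  have c2 := v2.card_le hx hrel (inLetters_mem y (S := Y5Chain3.step.S) (by decide +kernel)) c3.1 c3.2
  have c1 := v1.card_le hx rels_both (inLetters_mem y (S := Y5Chain2.step.S) (by decide +kernel)) c2.1 c2.2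
  obtain ⟨h1, h2⟩ := v0.card_le hx hrel
    (inLetters_mem y (S := Y5Chain1.step.S) (by decide +kernel)) c1.1 c1.2
  exact ⟨h1, h2.trans (by decide +kernel)⟩

/-- The ten nodes other than `5` generate. -/
theorem closure_ten : Subgroup.closure (y '' {g | g < 11 ∧ g ≠ 5}) = ⊤ := by
  have hv : Y5Full.step.Valid relWords := Y5Full.step_valid (by decide +kernel)
  set K := Subgroup.closure (y '' {g | g < 11 ∧ g ≠ 5}) with hK
  have hU : ∀ u ∈ Y5Full.step.U, wordVal y u ∈ K := by
    intro u hu
    refine Subgroup.closure_mono ?_ (wordVal_mem y (S := [0, 1, 2, 3, 4, 6, 7, 8, 9, 10]) ?_)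
    · rintro _ ⟨g, hg, rfl⟩
      exact ⟨g, (show ∀ g ∈ [0, 1, 2, 3, 4, 6, 7, 8, 9, 10], g < 11 ∧ g ≠ 5 by decide) g hg, rfl⟩
    · exact (show ∀ u ∈ Y5Full.step.U, ∀ g ∈ u,
        g ∈ [0, 1, 2, 3, 4, 6, 7, 8, 9, 10] ∧ g ≠ eps by decide +kernel) u hu
  obtain ⟨hf, hn⟩ := hv.orbit_le y_mul_self wordVal_y hU
  have hS : Subgroup.closure (y '' {g | g ∈ Y5Full.step.S}) = ⊤ := by
    rw [← closure_y]
    congr 1
    ext z
    constructor
    · rintro ⟨g, hg, rfl⟩
      exact ⟨g, (show ∀ g ∈ Y5Full.step.S, g < 11 by decide +kernel) g hg, rfl⟩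
    · rintro ⟨g, hg, rfl⟩
      exact ⟨g, (show ∀ g < 11, g ∈ Y5Full.step.S by decide +kernel) g hg, rfl⟩
  rw [← top_le_iff]
  intro p _
  have h1 := (Set.ncard_le_one hf).1 (hn.trans (by decide +kernel))
  have h2 := h1 (p • ((1 : P11) : P11 ⧸ K)) ⟨⟨p, hS ▸ Subgroup.mem_top p⟩, rfl⟩
    ((1 : P11) : P11 ⧸ K) (MulAction.mem_orbit_self _)
  replace h2 : ((p * 1 : P11) : P11 ⧸ K) = ((1 : P11) : P11 ⧸ K) := h2
  rw [QuotientGroup.eq, mul_one, mul_one, inv_mem_iff] at h2
  exact h2

/-- The parity of a product of generators. -/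
theorem exists_parity : ∃ ε : P11 →* ℤˣ, ∀ g < 11, ε (y g) = -1 :=
  WordPres.exists_hom (by decide) (by decide +kernel) (fun _ => (-1 : ℤˣ)) (by decide +kernel)

theorem parity_word {ε : P11 →* ℤˣ} (hε : ∀ g < 11, ε (y g) = -1) : ∀ w : List ℕ,
    (∀ g ∈ w, g < 11) → ε (wordVal y w) = (-1) ^ w.length
  | [], _ => map_one ε
  | g :: w, h => by
    have hg : g < 11 := h g (by simp)
    rw [wordVal, map_mul, parity_word hε w fun a ha => h a (by simp [ha]), gen,
      if_neg (by simp only [eps]; omega), hε g hg, List.length_cons, pow_succ]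

/-- The end node is the ninth power of the Coxeter element. -/
theorem end_eq : y 5 = wordVal y e7Word := by
  obtain ⟨zc, hz2, hzcomm, hzbraid, hzc, he7, hHidx⟩ := fi23_facts
  -- the map onto Fi23
  let v : ℕ → Cfsg.Spor.Fi23 := fun g => if g = 5 then zc else x23 (σ g)
  have hv5 : v 5 = zc := if_pos rfl
  have hvn : ∀ g, g ≠ 5 → v g = x23 (σ g) := fun g h => if_neg h
  have hwv : ∀ r : List ℕ, (∀ g ∈ r, g < 11 ∧ g ≠ 5) → wordVal v r = wordVal x23 (r.map σ) := by
    intro r
    induction r with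
    | nil => intro _; rfl
    | cons g r ih =>
      intro h
      obtain ⟨hg, hg5⟩ := h g (by simp)
      rw [wordVal, List.map_cons, wordVal, ih fun a ha => h a (by simp [ha]), gen, gen,
        if_neg (by simp only [eps]; omega),
        if_neg ((show ∀ g < 11, σ g ≠ eps by decide +kernel) g hg), hvn g hg5]
  have hvrel : ∀ r ∈ relWords, wordVal v r = 1 := by
    intro r hr
    by_cases h5 : 5 ∈ r
    · have hcases : r = [5, 5] ∨ r = [5, 4, 5, 4, 5, 4] ∨ r = [4, 5, 4, 5, 4, 5] ∨
          ∃ g ∈ [0, 1, 2, 3, 6, 7, 8, 9, 10], σ g ∈ Fi23Centre.letters ∧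
            (r = [5, g, 5, g] ∨ r = [g, 5, g, 5]) :=
        (show ∀ r ∈ relWords, 5 ∈ r → r = [5, 5] ∨ r = [5, 4, 5, 4, 5, 4] ∨ r = [4, 5, 4, 5, 4, 5] ∨
          ∃ g ∈ [0, 1, 2, 3, 6, 7, 8, 9, 10], σ g ∈ Fi23Centre.letters ∧
            (r = [5, g, 5, g] ∨ r = [g, 5, g, 5]) by decide +kernel) r hr h5
      have h47 : v 4 = x23 7 := hvn 4 (by decide)
      have hb' : (x23 7 * zc) ^ 3 = 1 := by
        rw [show x23 7 * zc = (zc * x23 7)⁻¹ by
          rw [mul_inv_rev, inv_eq_of_mul_eq_one_left (x23_mul_self 7),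
            inv_eq_of_mul_eq_one_left hz2], inv_pow, hzbraid, inv_one]
      rcases hcases with rfl | rfl | rfl | ⟨g, hg, hgσ, hr' | hr'⟩
      · simp [wordVal, gen, eps, hv5, hz2]
      · simp only [wordVal, gen, eps, hv5, h47, one_mul, show ((5 : ℕ) = 31) = False by simp,
          show ((4 : ℕ) = 31) = False by simp, if_false]
        simpa [pow_succ, mul_assoc] using hb'
      · simp only [wordVal, gen, eps, hv5, h47, one_mul, show ((5 : ℕ) = 31) = False by simp,
          show ((4 : ℕ) = 31) = False by simp, if_false]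
        simpa [pow_succ, mul_assoc] using hzbraid
      all_goals
        subst hr'
        have hg' : g ≠ eps ∧ g ≠ 5 := by revert g; decide
        have hc := hzcomm _ hgσ
        have e1 : x23 (σ g) * zc * (x23 (σ g) * zc) = 1 := by
          nth_rewrite 2 [hc]
          rw [mul_assoc, ← mul_assoc zc zc, hz2, one_mul, x23_mul_self]
        have e2 : zc * x23 (σ g) * (zc * x23 (σ g)) = 1 := by rw [← hc]; exact e1
        simp only [wordVal, gen, hg'.1, hv5, hvn g hg'.2, one_mul, if_false,
          show ((5 : ℕ) = eps) = False by simp [eps]]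
        first
          | simpa [mul_assoc] using e1
          | simpa [mul_assoc] using e2
    · have hlt : ∀ g ∈ r, g < 11 ∧ g ≠ 5 := fun g hg =>
        ⟨(show ∀ r ∈ relWords, ∀ g ∈ r, g < 11 by decide +kernel) r hr g hg,
          fun e => h5 (e ▸ hg)⟩
      rw [hwv r hlt]
      refine shift_eq_one x23_mul_self ?_ x23_rel _
        (List.mem_map_of_mem (List.mem_filter.2 ⟨hr, by simpa using h5⟩ :
          r ∈ relWords.filter fun r => !r.contains 5))
      decide +kernel
  obtain ⟨Ψ, hΨ⟩ := WordPres.exists_hom (k := 11) (R := relWords) (by decide) (by decide +kernel) v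
    hvrel
  replace hΨ : ∀ g < 11, Ψ (y g) = v g := hΨ
  have hΨw : ∀ r : List ℕ, (∀ g ∈ r, g < 11 ∧ g ≠ 5) →
      Ψ (wordVal y r) = wordVal x23 (r.map σ) := by
    intro r hr
    rw [← hwv r hr]
    induction r with
    | nil => exact map_one Ψ
    | cons g r ih =>
      have hg : g < 11 := (hr g (by simp)).1
      rw [wordVal, wordVal, map_mul, ih fun a ha => hr a (by simp [ha]), gen, gen,
        if_neg (by simp only [eps]; omega), if_neg (by simp only [eps]; omega), hΨ g hg]
  set zt := wordVal y ztWord with hzt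
  have hztlt : ∀ g ∈ ztWord, g < 11 ∧ g ≠ 5 := by decide +kernel
  have hΨzt : Ψ zt = 1 := by
    rw [hzt, hΨw _ hztlt]
    exact x23_rel _ (by decide +kernel)
  obtain ⟨ε, hε⟩ := exists_parity
  have hεzt : ε zt = -1 := by
    rw [hzt, parity_word hε _ (fun g hg => (hztlt g hg).1),
      show ztWord.length = 63 by decide +kernel]
    decide
  -- the subgroup on nine nodes
  set L := Subgroup.closure (y '' {g | g ∈ Y5Chain0.step.S}) with hL
  obtain ⟨hLfin, hLcard⟩ := chain_card
  have hSlt : ∀ g ∈ Y5Chain0.step.S, g < 11 ∧ g ≠ 5 ∧ g ≠ 4 ∧ [σ g] ∈ Fi23Fi22.subWords := by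
    decide +kernel
  set H := Subgroup.closure (wordVal x23 '' {u | u ∈ Fi23Fi22.subWords}) with hH
  have hHcard : Nat.card H = 129123503308800 := by
    have := Subgroup.card_mul_index H
    rw [hHidx, Fi23Pres.isFi23.2, show (4089470473293004800 : ℕ) = 129123503308800 * 31671 by
      decide +kernel] at this
    exact Nat.eq_of_mul_eq_mul_right (by decide +kernel) this
  have hLH : L.map Ψ = H := by
    rw [hL, MonoidHom.map_closure, hH]
    congr 1
    ext z
    constructor
    · rintro ⟨_, ⟨g, hg, rfl⟩, rfl⟩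
      obtain ⟨h11, h5, -, hmem⟩ := hSlt g hg
      refine ⟨[σ g], hmem, ?_⟩
      have hne : σ g ≠ eps := (show ∀ g < 11, σ g ≠ eps by decide +kernel) g h11
      rw [hΨ g h11, hvn g h5]
      simp [wordVal, gen, hne]
    · rintro ⟨u, hu, rfl⟩
      obtain ⟨g, hg, rfl⟩ : ∃ g ∈ Y5Chain0.step.S, [σ g] = u :=
        (show ∀ u ∈ Fi23Fi22.subWords, ∃ g ∈ Y5Chain0.step.S, [σ g] = u by decide +kernel) u hu
      obtain ⟨h11, h5, -, -⟩ := hSlt g hg
      refine ⟨y g, ⟨g, hg, rfl⟩, ?_⟩
      have hne : σ g ≠ eps := (show ∀ g < 11, σ g ≠ eps by decide +kernel) g h11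
      rw [hΨ g h11, hvn g h5]
      simp [wordVal, gen, hne]
  have hztL : zt ∈ L := wordVal_mem y (by decide +kernel)
  let π : L →* Cfsg.Spor.Fi23 := Ψ.comp L.subtype
  have hker : Nat.card π.ker ≤ 2 := by
    have h1 := Subgroup.card_mul_index π.ker
    have h2 : π.ker.index = 129123503308800 := by
      rw [Subgroup.index_ker, show π.range = H by
        rw [MonoidHom.range_comp, Subgroup.range_subtype, hLH], hHcard]
    rw [h2] at h1
    by_contra h3
    have h4 : 3 * 129123503308800 ≤ Nat.card π.ker * 129123503308800 :=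
      Nat.mul_le_mul (by omega) le_rfl
    rw [h1] at h4
    exact absurd (h4.trans hLcard) (by decide +kernel)
  have hev : ∀ p ∈ L, Ψ p = 1 → ε p = 1 → p = 1 := by
    intro p hp hp1 hpε
    by_contra hne
    have : Finite π.ker := Finite.of_injective Subtype.val Subtype.val_injective
    have ha : (⟨zt, hztL⟩ : L) ∈ π.ker := hΨzt
    have hb : (⟨p, hp⟩ : L) ∈ π.ker := hp1
    let F : Fin 3 → π.ker := ![1, ⟨_, ha⟩, ⟨_, hb⟩]
    have hF : Function.Injective F := by
      have d1 : zt ≠ 1 := fun h => by rw [h, map_one] at hεzt; exact absurd hεzt (by decide)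
      have d2 : zt ≠ p := fun h => by rw [h, hpε] at hεzt; exact absurd hεzt (by decide)
      intro i j hij
      have := congrArg (fun q : π.ker => ((q : L) : P11)) hij
      fin_cases i <;> fin_cases j <;> simp [F] at this ⊢ <;>
        first
          | exact d1 this | exact d1 this.symm | exact hne this | exact hne this.symm
          | exact d2 this | exact d2 this.symm
    have := Nat.card_le_card_of_injective F hF
    rw [Nat.card_fin] at this
    omega
  -- `zt` is central
  have hεcomm : ∀ p q : P11, ε (p * q * p⁻¹ * q⁻¹) = 1 := fun p q => by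
    rcases Int.units_eq_one_or (ε p) with h | h <;> rcases Int.units_eq_one_or (ε q) with h' | h' <;>
      simp [map_mul, h, h']
  have hztc : ∀ g < 11, g ≠ 5 → y g * zt = zt * y g := by
    intro g hg h5
    by_cases h4 : g = 4
    · subst h4
      have hc : ∀ u ∈ ztWord, y 4 * y u = y u * y 4 := by
        intro u hu
        have h : [4, u, 4, u] ∈ relWords ∨ [u, 4, u, 4] ∈ relWords :=
          (show ∀ u ∈ ztWord, [4, u, 4, u] ∈ relWords ∨ [u, 4, u, 4] ∈ relWords by decide +kernel)
            u hu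
        have hue : u ≠ 31 := by have := (hztlt u hu).1; omega
        have e : (y 4 * y u) * (y 4 * y u) = 1 ∨ (y u * y 4) * (y u * y 4) = 1 := by
          rcases h with h | h
          · right
            have := wordVal_y _ h
            simpa [wordVal, gen, hue, eps, mul_assoc] using this
          · left
            have := wordVal_y _ h
            simpa [wordVal, gen, hue, eps, mul_assoc] using this
        rcases e with e | e
        · rw [eq_inv_of_mul_eq_one_left e, mul_inv_rev, inv_eq_of_mul_eq_one_left (y_mul_self u),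
            inv_eq_of_mul_eq_one_left (y_mul_self 4)]
        · rw [eq_inv_of_mul_eq_one_left e, mul_inv_rev, inv_eq_of_mul_eq_one_left (y_mul_self u),
            inv_eq_of_mul_eq_one_left (y_mul_self 4)]
      have hind : ∀ w : List ℕ, (∀ u ∈ w, y 4 * y u = y u * y 4 ∧ u ≠ eps) →
          Commute (y 4) (wordVal y w) := by
        intro w
        induction w with
        | nil => intro _; exact Commute.one_right _
        | cons u w ih =>
          intro h
          rw [wordVal, gen, if_neg (h u (by simp)).2]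
          exact (ih fun a ha => h a (by simp [ha])).mul_right (h u (by simp)).1
      exact (hind ztWord fun u hu =>
        ⟨hc u hu, by have := (hztlt u hu).1; simp only [eps]; omega⟩).eq
    · have hgL : y g ∈ L := Subgroup.subset_closure ⟨g,
        (show ∀ g < 11, g ≠ 5 → g ≠ 4 → g ∈ Y5Chain0.step.S by decide +kernel) g hg h5 h4, rfl⟩
      have h := hev (y g * zt * (y g)⁻¹ * zt⁻¹)
        (mul_mem (mul_mem (mul_mem hgL hztL) (inv_mem hgL)) (inv_mem hztL))
        (by simp [map_mul, hΨzt]) (hεcomm _ _)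
      rw [← mul_inv_eq_iff_eq_mul]
      exact (mul_inv_eq_one.1 h)
  set Z := Subgroup.zpowers zt with hZ
  have hZc : ∀ p : P11, p * zt = zt * p := by
    intro p
    have : (⊤ : Subgroup P11) ≤ Subgroup.centralizer {zt} := by
      rw [← closure_ten, Subgroup.closure_le]
      rintro _ ⟨g, ⟨hg, h5⟩, rfl⟩
      rw [SetLike.mem_coe, Subgroup.mem_centralizer_singleton_iff]
      exact hztc g hg h5
    exact Subgroup.mem_centralizer_singleton_iff.1 (this (Subgroup.mem_top p))
  have : Z.Normal := ⟨fun a ha p => by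
    obtain ⟨i, rfl⟩ := ha
    have : p * zt ^ i * p⁻¹ = zt ^ i := by
      rw [((show Commute p zt from hZc p).zpow_right i).eq, mul_inv_cancel_right]
    rw [this]
    exact Subgroup.zpow_mem _ (Subgroup.mem_zpowers zt) i⟩
  have hzt2 : zt * zt = 1 :=
    hev _ (mul_mem hztL hztL) (by rw [map_mul, hΨzt, one_mul]) (by rw [map_mul, hεzt]; decide)
  -- Fi23 maps onto the quotient
  let N := Fi23Pres.numbering
  let q : ℕ → P11 ⧸ Z := fun g => QuotientGroup.mk' Z (y (τ g))
  have hqsq : ∀ g, q g * q g = 1 := fun g => by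
    show QuotientGroup.mk' Z (y (τ g)) * QuotientGroup.mk' Z (y (τ g)) = 1
    rw [← map_mul, y_mul_self, map_one]
  have hqrel : ∀ r ∈ N.pairs ++ Fi23Pres.extra, wordVal q r = 1 := by
    intro r hr
    rw [show wordVal q r = QuotientGroup.mk' Z (wordVal (fun g => y (τ g)) r) from
      (map_wordVal _ _ _).symm, WordPres.wordVal_map y (k := 10) (by decide) τ
      (by decide +kernel) r ((show ∀ r ∈ N.pairs ++ Fi23Pres.extra, ∀ g ∈ r, g < 10 by
        decide +kernel) r hr)]
    have hy' : ∀ g, (fun g => QuotientGroup.mk' Z (y g)) g * (fun g => QuotientGroup.mk' Z (y g)) g = 1 :=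
      fun g => by rw [← map_mul, y_mul_self, map_one]
    rw [map_wordVal]
    refine shift_eq_one hy' (R0 := relWords ++ [ztWord]) ?_ ?_ _
      (List.mem_map_of_mem (f := fun r : List ℕ => r.map τ) hr)
    · decide +kernel
    · intro r0 hr0
      rw [← map_wordVal]
      rcases List.mem_append.1 hr0 with h | h
      · rw [wordVal_y r0 h, map_one]
      · rw [List.mem_singleton] at h
        subst h
        exact (QuotientGroup.eq_one_iff _).2 (Subgroup.mem_zpowers _)
  let φ : Cfsg.Spor.Fi23 →* P11 ⧸ Z :=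
    PresentedGroup.toGroup (N.lift_eq_one (by decide) q (Fi23Pres.map_extra q hqsq) hqrel)
  have hφ : ∀ g < 10, φ (x23 g) = q g := by
    intro g hg
    have : x23 g = PresentedGroup.of (N.letter g) := if_pos hg
    rw [this, PresentedGroup.toGroup.of, N.num_letter g hg]
  have hφsurj : Function.Surjective φ := by
    rw [← MonoidHom.range_eq_top, ← top_le_iff,
      ← Subgroup.map_top_of_surjective _ (QuotientGroup.mk'_surjective Z), ← closure_ten,
      MonoidHom.map_closure, Subgroup.closure_le]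
    rintro _ ⟨_, ⟨g, ⟨hg, h5⟩, rfl⟩, rfl⟩
    refine ⟨x23 (σ g), ?_⟩
    obtain ⟨h1, h2⟩ := (show ∀ g < 11, g ≠ 5 → σ g < 10 ∧ τ (σ g) = g by decide +kernel) g hg h5
    rw [hφ _ h1]
    show QuotientGroup.mk' Z (y (τ (σ g))) = _
    rw [h2]
  have hZker : Z ≤ Ψ.ker := by
    rw [hZ, Subgroup.zpowers_le, MonoidHom.mem_ker]
    exact hΨzt
  let Ψ' : P11 ⧸ Z →* Cfsg.Spor.Fi23 := QuotientGroup.lift Z Ψ hZker
  have hcomp : Ψ'.comp φ = MonoidHom.id _ := by
    refine MonoidHom.eq_of_eqOn_dense (s := x23 '' {g | g < 10}) (N.closure_gens Fi23.extra) ?_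
    rintro _ ⟨g, hg, rfl⟩
    replace hg : g < 10 := hg
    show Ψ' (φ (x23 g)) = x23 g
    rw [hφ g hg]
    show Ψ (y (τ g)) = x23 g
    obtain ⟨h1, h2, h3⟩ :=
      (show ∀ g < 10, τ g < 11 ∧ τ g ≠ 5 ∧ σ (τ g) = g by decide +kernel) g hg
    rw [hΨ _ h1, hvn _ h2, h3]
  -- conclude
  set z := wordVal y e7Word with hzdef
  have hzlt : ∀ g ∈ e7Word, g < 11 ∧ g ≠ 5 := by decide +kernel
  have hΨz : Ψ z = zc := by
    rw [hzdef, hΨw _ hzlt, show e7Word.map σ = e7Fi23 by decide +kernel, he7]
  have hεz : ε z = -1 := by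
    rw [hzdef, parity_word hε _ (fun g hg => (hzlt g hg).1),
      show e7Word.length = 63 by decide +kernel]
    decide
  obtain ⟨a, ha⟩ := hφsurj (QuotientGroup.mk' Z (y 5 * z⁻¹))
  have ha1 : a = 1 := by
    have := congrArg Ψ' ha
    rw [show Ψ' (φ a) = a from DFunLike.congr_fun hcomp a] at this
    rw [this]
    show Ψ (y 5 * z⁻¹) = 1
    rw [map_mul, map_inv, hΨ 5 (by omega), hv5, hΨz, mul_inv_cancel]
  have hmem : y 5 * z⁻¹ ∈ Z := by
    rw [ha1, map_one] at ha
    exact (QuotientGroup.eq_one_iff _).1 ha.symm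
  obtain ⟨i, hi⟩ := hmem
  have hεi : ε (y 5 * z⁻¹) = 1 := by
    rw [map_mul, map_inv, hεz, hε 5 (by omega), mul_inv_cancel]
  rw [← mul_inv_eq_one]
  replace hi : zt ^ i = y 5 * z⁻¹ := hi
  have hL5 : y 5 * z⁻¹ ∈ L := by
    rw [← hi]
    exact Subgroup.zpow_mem L hztL i
  have hΨ5 : Ψ (y 5 * z⁻¹) = 1 := by rw [← hi, map_zpow, hΨzt, one_zpow]
  exact hev _ hL5 hΨ5 hεi

end Cfsg.Lib.CosetEnum.Y555Fi23
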